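import Cfsg.Agent.H840.L34.Nrm

/-!
# The normaliser of `2.L3(4)` : conclusion
-/

set_option autoImplicit false
set_option linter.constructorNameAsVariable false

namespace Cfsg.Agent.H840.L34

open Cfsg.Agent.Lib.FieldFour
open Cfsg.Agent.ClassicalGeometry.AutPSL.Auto

def x32 (s : F4) : S := ⟨!![1, 0, 0; 0, 1, 0; 0, s, 1], by rw [Matrix.det_fin_three]; revert s; decide⟩
def x31 (s : F4) : S := ⟨!![1, 0, 0; 0, 1, 0; s, 0, 1], by rw [Matrix.det_fin_three]; revert s; decide⟩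
def hi : S := ⟨!![F4.v, 0, 0; 0, F4.w, 0; 0, 0, 1], by rw [Matrix.det_fin_three]; decide⟩
def w13 : S := ⟨!![0, 0, 1; 0, 1, 0; 1, 0, 0], by rw [Matrix.det_fin_three]; decide⟩

section facts

variable (σ : F4 ≃+* F4)

theorem fld_x12 (t : F4) : fld σ (x12 t) = x12 (σ t) := by
  apply Subtype.ext; ext i j; rw [coe_fld_apply]
  fin_cases i <;> fin_cases j <;> simp [x12]
theorem fld_x23 (t : F4) : fld σ (x23 t) = x23 (σ t) := by
  apply Subtype.ext; ext i j; rw [coe_fld_apply]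
  fin_cases i <;> fin_cases j <;> simp [x23]
theorem fld_x13 (t : F4) : fld σ (x13 t) = x13 (σ t) := by
  apply Subtype.ext; ext i j; rw [coe_fld_apply]
  fin_cases i <;> fin_cases j <;> simp [x13]
theorem fld_x21 (t : F4) : fld σ (x21 t) = x21 (σ t) := by
  apply Subtype.ext; ext i j; rw [coe_fld_apply]
  fin_cases i <;> fin_cases j <;> simp [x21]
theorem fld_x32 (t : F4) : fld σ (x32 t) = x32 (σ t) := by
  apply Subtype.ext; ext i j; rw [coe_fld_apply]
  fin_cases i <;> fin_cases j <;> simp [x32]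
theorem fld_x31 (t : F4) : fld σ (x31 t) = x31 (σ t) := by
  apply Subtype.ext; ext i j; rw [coe_fld_apply]
  fin_cases i <;> fin_cases j <;> simp [x31]
theorem fld_wa : fld σ wa = wa := by
  apply Subtype.ext; ext i j; rw [coe_fld_apply]
  fin_cases i <;> fin_cases j <;> simp [wa]
theorem fld_wb : fld σ wb = wb := by
  apply Subtype.ext; ext i j; rw [coe_fld_apply]
  fin_cases i <;> fin_cases j <;> simp [wb]
theorem fld_hh1 (h : ∀ x, σ x = x) : fld σ hh = hh := by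
  apply Subtype.ext; ext i j; rw [coe_fld_apply, h]
theorem fld_hi1 (h : ∀ x, σ x = x) : fld σ hi = hi := by
  apply Subtype.ext; ext i j; rw [coe_fld_apply, h]
theorem fld_hh2 (h : ∀ x, σ x = x * x) : fld σ hh = hi := by
  apply Subtype.ext; ext i j; rw [coe_fld_apply, h]
  fin_cases i <;> fin_cases j <;> rfl
theorem fld_hi2 (h : ∀ x, σ x = x * x) : fld σ hi = hh := by
  apply Subtype.ext; ext i j; rw [coe_fld_apply, h]
  fin_cases i <;> fin_cases j <;> rfl

theorem hi_eq : hi = hh⁻¹ := by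
  rw [eq_inv_iff_mul_eq_one]; apply Subtype.ext; decide

theorem itr_x12 (t : F4) : itr (x12 t) = x21 t := by
  apply Subtype.ext; rw [coe_itr]; revert t; decide
theorem itr_x23 (t : F4) : itr (x23 t) = x32 t := by
  apply Subtype.ext; rw [coe_itr]; revert t; decide
theorem itr_x13 (t : F4) : itr (x13 t) = x31 t := by
  apply Subtype.ext; rw [coe_itr]; revert t; decide
theorem itr_hh : itr hh = hi := by
  apply Subtype.ext; rw [coe_itr]; decide
theorem itr_wa : itr wa = wa := by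
  apply Subtype.ext; rw [coe_itr]; decide
theorem itr_wb : itr wb = wb := by
  apply Subtype.ext; rw [coe_itr]; decide

theorem cj_form (m : F4) (s : S) : (cj (DD m) s).1 = !![if m = 0 then 1 else m⁻¹, 0, 0; 0, 1, 0; 0, 0, 1] * s.1 *
    !![if m = 0 then 1 else m, 0, 0; 0, 1, 0; 0, 0, 1] := rfl

theorem dj_x12 (m t : F4) (hm : m ≠ 0) : cj (DD m) (x12 t) = x12 (m⁻¹ * t) := by
  apply Subtype.ext; rw [cj_form]; revert m t; decide
theorem dj_x13 (m t : F4) (hm : m ≠ 0) : cj (DD m) (x13 t) = x13 (m⁻¹ * t) := by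
  apply Subtype.ext; rw [cj_form]; revert m t; decide
theorem dj_x23 (m t : F4) (hm : m ≠ 0) : cj (DD m) (x23 t) = x23 t := by
  apply Subtype.ext; rw [cj_form]; revert m t; decide
theorem dj_x21 (m t : F4) (hm : m ≠ 0) : cj (DD m) (x21 t) = x21 (m * t) := by
  apply Subtype.ext; rw [cj_form]; revert m t; decide
theorem dj_x31 (m t : F4) (hm : m ≠ 0) : cj (DD m) (x31 t) = x31 (m * t) := by
  apply Subtype.ext; rw [cj_form]; revert m t; decide
theorem dj_x32 (m t : F4) (hm : m ≠ 0) : cj (DD m) (x32 t) = x32 t := by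
  apply Subtype.ext; rw [cj_form]; revert m t; decide
theorem dj_hh (m : F4) (hm : m ≠ 0) : cj (DD m) hh = hh := by
  apply Subtype.ext; rw [cj_form]; revert m; decide
theorem dj_hi (m : F4) (hm : m ≠ 0) : cj (DD m) hi = hi := by
  apply Subtype.ext; rw [cj_form]; revert m; decide
theorem dj_wb (m : F4) (hm : m ≠ 0) : cj (DD m) wb = wb := by
  apply Subtype.ext; rw [cj_form]; revert m; decide
theorem dj_wa : cj (DD 1) wa = wa := by
  apply Subtype.ext; rw [cj_form]; decide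

theorem w13_x21 (t : F4) : w13 * x21 t = x23 t * w13 := by apply Subtype.ext; revert t; decide
theorem w13_x31 (t : F4) : w13 * x31 t = x13 t * w13 := by apply Subtype.ext; revert t; decide
theorem w13_x32 (t : F4) : w13 * x32 t = x12 t * w13 := by apply Subtype.ext; revert t; decide
theorem w13_wa : w13 * wa = wb * w13 := by apply Subtype.ext; decide
theorem w13_wb : w13 * wb = wa * w13 := by apply Subtype.ext; decide
theorem w13_hi : w13 * hi = (sc * sc) * hh * w13 := by apply Subtype.ext; decide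
theorem w13_hh : w13 * hh = sc * hi * w13 := by apply Subtype.ext; decide

end facts

/-! ### the induced automorphism of `PSL_3(4)` -/

theorem exists_alpha {G : Type*} [Group G] (C : Cv G) {κ : G ≃* G} (hz : κ C.z = C.z) :
    ∃ α : MulAut L, ∀ y, α (C.π y) = C.π (κ y) := by
  have hz' : κ.symm C.z = C.z := by rw [MulEquiv.symm_apply_eq, hz]
  have well : ∀ (κ : G ≃* G), κ C.z = C.z → ∀ y y', C.π y = C.π y' → C.π (κ y) = C.π (κ y') := by
    intro κ hz y y' h
    rcases C.eq_or h with rfl | rfl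
    · rfl
    · rw [map_mul, map_mul, hz, C.πz, one_mul]
  let lf : L → G := Function.surjInv C.surj
  have hl : ∀ l, C.π (lf l) = l := Function.surjInv_eq C.surj
  refine ⟨MulEquiv.mk' ⟨fun l => C.π (κ (lf l)), fun l => C.π (κ.symm (lf l)), ?_, ?_⟩ ?_, ?_⟩
  · intro l
    change C.π (κ.symm (lf (C.π (κ (lf l))))) = l
    rw [well κ.symm hz' (lf (C.π (κ (lf l)))) (κ (lf l)) (hl _), κ.symm_apply_apply, hl]
  · intro l
    change C.π (κ (lf (C.π (κ.symm (lf l))))) = l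
    rw [well κ hz (lf (C.π (κ.symm (lf l)))) (κ.symm (lf l)) (hl _), κ.apply_symm_apply, hl]
  · intro l l'
    change C.π (κ (lf (l * l'))) = C.π (κ (lf l)) * C.π (κ (lf l'))
    rw [← map_mul, ← map_mul]
    apply well κ hz
    rw [hl, map_mul, hl, hl]
  · intro y
    change C.π (κ (lf (C.π y))) = C.π (κ y)
    exact well κ hz _ _ (hl _)

variable {Γ : Type*} [Group Γ] {P : Subgroup Γ} {C : Cv P}

/-- conjugation as an automorphism of `P` -/
def kap (P : Subgroup Γ) (x : Γ) (h1 : ∀ y ∈ P, x * y * x⁻¹ ∈ P) (h2 : ∀ y ∈ P, x⁻¹ * y * x ∈ P) : P ≃* P where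
  toFun y := ⟨x * y * x⁻¹, h1 y y.2⟩
  invFun y := ⟨x⁻¹ * y * x, h2 y y.2⟩
  left_inv y := by apply Subtype.ext; change x⁻¹ * (x * y * x⁻¹) * x = y; group
  right_inv y := by apply Subtype.ext; change x * (x⁻¹ * y * x) * x⁻¹ = y; group
  map_mul' y y' := by
    apply Subtype.ext
    change x * ((y * y' : P) : Γ) * x⁻¹ = (x * y * x⁻¹) * (x * y' * x⁻¹)
    rw [Subgroup.coe_mul]; group

theorem kap_apply (x : Γ) (h1 : ∀ y ∈ P, x * y * x⁻¹ ∈ P) (h2 : ∀ y ∈ P, x⁻¹ * y * x ∈ P) (y : P) :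
    (kap P x h1 h2 y : Γ) = x * y * x⁻¹ := rfl

/-- the extra data used to exclude outer automorphisms -/
structure Ex {F : Type*} (c : Conf C) (a b : P) (χ : Γ → F) : Prop where
  e1 : c.e 1 = 1
  ew : c.e F4.w = C.z
  ac : ∃ γ : P, a = γ * c.X23 1 * γ⁻¹
  bc : ∃ γ : P, b = γ * c.X23 1 * γ⁻¹
  cl : ∀ x y, χ (x * y * x⁻¹) = χ y
  nz : χ (c.X23 1) ≠ χ ((C.z * c.X23 1 : P) : Γ)
  ab : χ ((a * b * c.X23 1 : P) : Γ) ≠ χ ((b * a * c.X12 1 : P) : Γ)

/-- an element normalising `P` -/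
structure Nm (P : Subgroup Γ) (x : Γ) : Prop where
  h1 : ∀ y ∈ P, x * y * x⁻¹ ∈ P
  h2 : ∀ y ∈ P, x⁻¹ * y * x ∈ P

theorem Nm.mul {x y : Γ} (hx : Nm P x) (hy : Nm P y) : Nm P (x * y) := by
  constructor
  · intro g hg
    have : x * y * g * (x * y)⁻¹ = x * (y * g * y⁻¹) * x⁻¹ := by group
    rw [this]; exact hx.h1 _ (hy.h1 _ hg)
  · intro g hg
    have : (x * y)⁻¹ * g * (x * y) = y⁻¹ * (x⁻¹ * g * x) * y := by group
    rw [this]; exact hy.h2 _ (hx.h2 _ hg)

theorem Nm.of_mem {x : Γ} (hx : x ∈ P) : Nm P x :=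
  ⟨fun _ hy => P.mul_mem (P.mul_mem hx hy) (P.inv_mem hx), fun _ hy => P.mul_mem (P.mul_mem (P.inv_mem hx) hy) hx⟩

theorem Ov.nm_u {c : Conf C} {a b : P} {g u : Γ} (O : Ov c a b g u) : Nm P u :=
  ⟨fun y hy => by rw [O.uinv]; exact O.u_conj ⟨y, hy⟩, fun y hy => by rw [O.uinv]; exact O.u_conj ⟨y, hy⟩⟩

/-- **The normaliser of `P`.** -/
theorem norm_thm {F : Type*} {c : Conf C} {a b : P} {g u : Γ} (O : Ov c a b g u) {χ : Γ → F} (E : Ex c a b χ)
    {x : Γ} (hx : Nm P x) : ∃ p ∈ P, ∃ k, (k = 1 ∨ k = u) ∧ ∀ y ∈ P, (p * x * k) * y = y * (p * x * k) := by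
  have hzκ : ∀ {x : Γ} (h : Nm P x), kap P x h.h1 h.h2 C.z = C.z := by
    intro x h
    apply Subtype.ext
    rw [kap_apply, ← O.zc, mul_assoc, mul_inv_cancel, mul_one]
  obtain ⟨α, hα⟩ := exists_alpha C (hzκ hx)
  obtain ⟨A, m, σ, γ, hm, hγ, hform⟩ := aut_form α
  have fin : ∀ {w : Γ} (h : Nm P w), (∀ y, kap P w h.h1 h.h2 y = y) → ∀ y ∈ P, w * y = y * w := by
    intro w h hw y hy
    have := congrArg Subtype.val (hw ⟨y, hy⟩)
    rw [kap_apply] at this
    exact mul_inv_eq_iff_eq_mul.1 this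
  rcases hγ with rfl | rfl
  · obtain ⟨p0, hp0⟩ := C.exists_lift A⁻¹
    have n1 : Nm P (p0 * x) := (Nm.of_mem p0.2).mul hx
    have k1 : ∀ (y : P) (s : S), C.π y = q s → C.π (kap P (p0 * x) n1.h1 n1.h2 y) = q (cj (DD m) (fld σ s)) := by
      intro y s hy
      have e1 : kap P (p0 * x) n1.h1 n1.h2 y = p0 * kap P x hx.h1 hx.h2 y * p0⁻¹ := by
        apply Subtype.ext
        rw [kap_apply, Subgroup.coe_mul, Subgroup.coe_mul, kap_apply, Subgroup.coe_inv]; group
      rw [e1, map_mul, map_mul, map_inv, ← hα, hy, hform, hp0, map_inv]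
      simp only [MulAut.one_apply]
      group
    rcases ringEquiv_cases σ with hσ | hσ
    · refine ⟨p0, p0.2, 1, Or.inl rfl, ?_⟩
      rw [mul_one]
      apply fin n1
      apply caseI c E.e1 E.ew O.aπ O.bπ E.ac E.bc (hzκ n1) hm
      · intro t; rw [k1 _ _ (c.f12.lift t), fld_x12, hσ, dj_x12 m t hm]
      · intro t; rw [k1 _ _ (c.f23.lift t), fld_x23, hσ, dj_x23 m t hm]
      · intro t; rw [k1 _ _ (c.f13.lift t), fld_x13, hσ, dj_x13 m t hm]
      · rw [k1 _ _ c.hπ, fld_hh1 σ hσ, dj_hh m hm]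
      · rintro rfl; rw [k1 _ _ O.aπ, fld_wa, dj_wa]
      · rintro rfl; rw [k1 _ _ O.bπ, fld_wb, dj_wb 1 one_ne_zero]
    · have n2 : Nm P (p0 * x * u) := n1.mul O.nm_u
      refine ⟨p0, p0.2, u, Or.inr rfl, ?_⟩
      apply fin n2
      have k2 : ∀ (y : P) (y' : P) (s : S), u * (y : Γ) = y' * u → C.π y' = q s →
          C.π (kap P (p0 * x * u) n2.h1 n2.h2 y) = q (cj (DD m) (fld σ s)) := by
        intro y y' s hyy hy
        rw [← k1 y' s hy]
        congr 1
        apply Subtype.ext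
        rw [kap_apply, kap_apply, mul_assoc (_ * _) u, hyy]
        group
      have hσ2 : ∀ t, σ (t * t) = t := by
        intro t; rw [hσ]; revert t; decide
      apply caseI c E.e1 E.ew O.aπ O.bπ E.ac E.bc (hzκ n2) hm
      · intro t; rw [k2 _ _ _ (O.u12 t) (c.f12.lift _), fld_x12, hσ2, dj_x12 m t hm]
      · intro t; rw [k2 _ _ _ (O.u23 t) (c.f23.lift _), fld_x23, hσ2, dj_x23 m t hm]
      · intro t; rw [k2 _ _ _ (O.u13 t) (c.f13.lift _), fld_x13, hσ2, dj_x13 m t hm]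
      · have huh : u * (c.h : Γ) = ((c.h⁻¹ : P) : Γ) * u := by
          rw [Subgroup.coe_inv, eq_inv_mul_iff_mul_eq, ← mul_assoc]; exact O.uh
        rw [k2 _ _ hi huh (by rw [map_inv, c.hπ, ← map_inv, ← hi_eq]), fld_hi2 σ hσ, dj_hh m hm]
      · rintro rfl; rw [k2 _ _ _ O.ua O.aπ, fld_wa, dj_wa]
      · rintro rfl; rw [k2 _ _ _ O.ub O.bπ, fld_wb, dj_wb 1 one_ne_zero]
  · exfalso
    obtain ⟨p0, hp0⟩ := C.exists_lift (w13 * A⁻¹)
    have n1 : Nm P (p0 * x) := (Nm.of_mem p0.2).mul hx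
    have k1 : ∀ (y : P) (s s' s'' : S), C.π y = q s → cj (DD m) (fld σ (itr s)) = s' → w13 * s' = s'' * w13 →
        C.π (kap P (p0 * x) n1.h1 n1.h2 y) = q s'' := by
      intro y s s' s'' hy hs hw
      have e1 : kap P (p0 * x) n1.h1 n1.h2 y = p0 * kap P x hx.h1 hx.h2 y * p0⁻¹ := by
        apply Subtype.ext
        rw [kap_apply, Subgroup.coe_mul, Subgroup.coe_mul, kap_apply, Subgroup.coe_inv]; group
      rw [e1, map_mul, map_mul, map_inv, ← hα, hy, hform, hp0, hs, map_mul, map_inv]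
      have e2 : q w13 * q s' = q s'' * q w13 := by rw [← map_mul, hw, map_mul]
      calc q w13 * (q A)⁻¹ * (q A * q s' * (q A)⁻¹) * (q w13 * (q A)⁻¹)⁻¹ = (q w13 * q s') * (q w13)⁻¹ := by group
        _ = q s'' := by rw [e2]; group
    rcases ringEquiv_cases σ with hσ | hσ
    · refine caseII (F := F) (χ := fun y : P => χ y) c E.e1 E.ew O.aπ O.bπ E.ac E.bc
        (fun x y => E.cl x y) E.nz E.ab (κ := kap P (p0 * x) n1.h1 n1.h2) ?_ (hzκ n1) hm ?_ ?_ ?_ ?_ ?_ ?_
      · intro y; exact E.cl _ _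
      · intro t
        exact k1 _ _ _ _ (c.f12.lift t) (by rw [itr_x12, fld_x21, hσ, dj_x21 m t hm]) (w13_x21 _)
      · intro t
        exact k1 _ _ _ _ (c.f23.lift t) (by rw [itr_x23, fld_x32, hσ, dj_x32 m t hm]) (w13_x32 _)
      · intro t
        exact k1 _ _ _ _ (c.f13.lift t) (by rw [itr_x13, fld_x31, hσ, dj_x31 m t hm]) (w13_x31 _)
      · have h3 := k1 _ _ _ _ c.hπ (by rw [itr_hh, fld_hi1 σ hσ, dj_hi m hm]) w13_hi
        rw [h3, map_mul, map_mul, q_sc, one_mul, one_mul]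
      · rintro rfl
        exact k1 _ _ _ _ O.aπ (by rw [itr_wa, fld_wa, dj_wa]) w13_wa
      · rintro rfl
        exact k1 _ _ _ _ O.bπ (by rw [itr_wb, fld_wb, dj_wb 1 one_ne_zero]) w13_wb
    · have n2 : Nm P (p0 * x * u) := n1.mul O.nm_u
      have k2 : ∀ (y : P) (y' : P) (s s' s'' : S), u * (y : Γ) = y' * u → C.π y' = q s →
          cj (DD m) (fld σ (itr s)) = s' → w13 * s' = s'' * w13 →
          C.π (kap P (p0 * x * u) n2.h1 n2.h2 y) = q s'' := by
        intro y y' s s' s'' hyy hy hs hw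
        rw [← k1 y' s s' s'' hy hs hw]
        congr 1
        apply Subtype.ext
        rw [kap_apply, kap_apply, mul_assoc (_ * _) u, hyy]
        group
      have hσ2 : ∀ t, σ (t * t) = t := by
        intro t; rw [hσ]; revert t; decide
      refine caseII (F := F) (χ := fun y : P => χ y) c E.e1 E.ew O.aπ O.bπ E.ac E.bc
        (fun x y => E.cl x y) E.nz E.ab (κ := kap P (p0 * x * u) n2.h1 n2.h2) ?_ (hzκ n2) hm ?_ ?_ ?_ ?_ ?_ ?_
      · intro y; exact E.cl _ _
      · intro t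
        exact k2 _ _ _ _ _ (O.u12 t) (c.f12.lift _) (by rw [itr_x12, fld_x21, hσ2, dj_x21 m t hm]) (w13_x21 _)
      · intro t
        exact k2 _ _ _ _ _ (O.u23 t) (c.f23.lift _) (by rw [itr_x23, fld_x32, hσ2, dj_x32 m t hm]) (w13_x32 _)
      · intro t
        exact k2 _ _ _ _ _ (O.u13 t) (c.f13.lift _) (by rw [itr_x13, fld_x31, hσ2, dj_x31 m t hm]) (w13_x31 _)
      · have huh : u * (c.h : Γ) = ((c.h⁻¹ : P) : Γ) * u := by
          rw [Subgroup.coe_inv, eq_inv_mul_iff_mul_eq, ← mul_assoc]; exact O.uh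
        have hih : itr hi = hh := by
          rw [hi_eq, map_inv, itr_hh, hi_eq, inv_inv]
        have h3 := k2 _ _ hi _ _ huh (by rw [map_inv, c.hπ, ← map_inv, ← hi_eq])
          (by rw [hih, fld_hh2 σ hσ, dj_hi m hm]) w13_hi
        rw [h3, map_mul, map_mul, q_sc, one_mul, one_mul]
      · rintro rfl
        exact k2 _ _ _ _ _ O.ua O.aπ (by rw [itr_wa, fld_wa, dj_wa]) w13_wa
      · rintro rfl
        exact k2 _ _ _ _ _ O.ub O.bπ (by rw [itr_wb, fld_wb, dj_wb 1 one_ne_zero]) w13_wb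

end Cfsg.Agent.H840.L34
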