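import Cfsg.Agent.H840.L34.Abs
import Cfsg.Agent.H840.L34.Nrm2
import Cfsg.Agent.S0243

/-!
# The overgroup `2.M22` of `2.L3(4)` : counting
-/

set_option autoImplicit false
set_option linter.constructorNameAsVariable false

namespace Cfsg.Agent.H840.L34

open Cfsg.Agent.Lib.FieldFour

theorem card_L : Nat.card L = 20160 := by
  have h := S0243.result (F := F4) F4.card 3 (by norm_num)
  rw [Fin.prod_univ_three] at h
  have h2 : Nat.gcd 3 (4 - 1) = 3 := by decide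
  rw [h2] at h
  change 3 * (3 * Nat.card L) = (4 ^ 3 - 4 ^ 0) * (4 ^ 3 - 4 ^ 1) * (4 ^ 3 - 4 ^ 2) at h
  omega

variable {Γ : Type*} [Group Γ] {P : Subgroup Γ} {C : Cv P}

namespace Ov

variable {c : Conf C} {a b : P} {g u : Γ} (O : Ov c a b g u)

/-- the group `2.M22.2` times the scalars -/
def Mg (Z : Subgroup Γ) (hZ : ∀ z ∈ Z, ∀ x, z * x = x * z) : Subgroup Γ where
  carrier := {x | ∃ y ∈ O.Q, ∃ k, (k = 1 ∨ k = u) ∧ ∃ z ∈ Z, x = y * k * z}
  one_mem' := ⟨1, O.Q.one_mem, 1, Or.inl rfl, 1, Z.one_mem, by group⟩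
  mul_mem' := by
    rintro _ _ ⟨y, hy, k, hk, z, hz, rfl⟩ ⟨y', hy', k', hk', z', hz', rfl⟩
    have h1 : k * y' * k⁻¹ ∈ O.Q := by
      rcases hk with rfl | rfl
      · simpa using hy'
      · rw [O.uinv]; exact O.u_conj_Q hy'
    have h2 : k * k' = 1 ∨ k * k' = u := by
      rcases hk with rfl | rfl
      · rw [one_mul]; exact hk'
      · rcases hk' with rfl | rfl
        · rw [mul_one]; exact Or.inr rfl
        · exact Or.inl O.uu
    refine ⟨y * (k * y' * k⁻¹), O.Q.mul_mem hy h1, k * k', h2, z * z', Z.mul_mem hz hz', ?_⟩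
    calc y * k * z * (y' * k' * z') = y * k * (z * (y' * k')) * z' := by group
      _ = y * k * ((y' * k') * z) * z' := by rw [hZ z hz]
      _ = _ := by group
  inv_mem' := by
    rintro _ ⟨y, hy, k, hk, z, hz, rfl⟩
    have h1 : k⁻¹ * y⁻¹ * k ∈ O.Q := by
      rcases hk with rfl | rfl
      · simpa using hy
      · rw [O.uinv]; exact O.u_conj_Q (O.Q.inv_mem hy)
    have h2 : k⁻¹ = 1 ∨ k⁻¹ = u := by
      rcases hk with rfl | rfl
      · left; group
      · right; exact O.uinv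
    refine ⟨k⁻¹ * y⁻¹ * k, h1, k⁻¹, h2, z⁻¹, Z.inv_mem hz, ?_⟩
    calc (y * k * z)⁻¹ = z⁻¹ * (k⁻¹ * y⁻¹) := by group
      _ = (k⁻¹ * y⁻¹) * z⁻¹ := hZ _ (Z.inv_mem hz) _
      _ = _ := by group

variable {Z : Subgroup Γ} {hZ : ∀ z ∈ Z, ∀ x, z * x = x * z}

theorem P_le_Mg : P ≤ O.Mg Z hZ := fun x hx => ⟨x, O.P_le hx, 1, Or.inl rfl, 1, Z.one_mem, by group⟩

theorem g_mem_Mg : g ∈ O.Mg Z hZ := ⟨g, O.g_mem, 1, Or.inl rfl, 1, Z.one_mem, by group⟩

/-- the parameters of an element -/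
def Rel (C : Cv P) (g u : Γ) (Z : Subgroup Γ) (x : Γ) : (L ⊕ L × L) × Bool → Prop
  | (Sum.inl l, k) => ∃ p : P, C.π p = l ∧ ∃ z ∈ Z, x = p * (if k then u else 1) * z
  | (Sum.inr (l, l'), k) => ∃ p r : P, C.π p = l ∧ C.π r = l' ∧ ∃ z ∈ Z, x = p * g * r * (if k then u else 1) * z

theorem exists_rel {x : Γ} (hx : x ∈ O.Mg Z hZ) : ∃ t, Rel C g u Z x t := by
  obtain ⟨y, hy, k, hk, z, hz, rfl⟩ := hx
  obtain ⟨β, hβ⟩ : ∃ β : Bool, k = if β then u else 1 := by
    rcases hk with rfl | rfl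
    · exact ⟨false, rfl⟩
    · exact ⟨true, rfl⟩
  rcases O.mem_Q.1 hy with hy | ⟨p, hp, r, hr, rfl⟩
  · exact ⟨(Sum.inl (C.π ⟨y, hy⟩), β), ⟨y, hy⟩, rfl, z, hz, by rw [hβ]⟩
  · exact ⟨(Sum.inr (C.π ⟨p, hp⟩, C.π ⟨r, hr⟩), β), ⟨p, hp⟩, ⟨r, hr⟩, rfl, rfl, z, hz, by rw [hβ]⟩

theorem rel_unique (hCz : (C.z : Γ) ∈ Z) (hZ : ∀ z ∈ Z, ∀ x, z * x = x * z) {x x' : Γ} {t : (L ⊕ L × L) × Bool}
    (h : Rel C g u Z x t) (h' : Rel C g u Z x' t) : ∃ z ∈ Z, x = x' * z := by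
  have key : ∀ p p' : P, C.π p = C.π p' → ∃ z ∈ Z, (p : Γ) = z * p' := by
    intro p p' hp
    rcases C.eq_or hp with h | h
    · exact ⟨1, Z.one_mem, by rw [h, one_mul]⟩
    · exact ⟨C.z, hCz, by rw [h]; rfl⟩
  rcases t with ⟨l | ⟨l, l'⟩, k⟩
  · obtain ⟨p, hp, z, hz, rfl⟩ := h
    obtain ⟨p', hp', z', hz', rfl⟩ := h'
    obtain ⟨w, hw, h1⟩ := key p p' (hp.trans hp'.symm)
    refine ⟨w * z * z'⁻¹, Z.mul_mem (Z.mul_mem hw hz) (Z.inv_mem hz'), ?_⟩
    rw [h1]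
    generalize (if k = true then u else 1) = κ
    calc w * (p' : Γ) * κ * z = w * (p' * κ * z) := by group
      _ = (p' * κ * z) * w := hZ _ hw _
      _ = p' * κ * (z * w) := by group
      _ = p' * κ * (w * z) := by rw [hZ z hz]
      _ = p' * κ * (w * z) * z'⁻¹ * z' := by group
      _ = p' * κ * ((w * z * z'⁻¹) * z') := by group
      _ = p' * κ * (z' * (w * z * z'⁻¹)) := by rw [hZ z' hz']
      _ = _ := by group
  · obtain ⟨p, r, hp, hr, z, hz, rfl⟩ := h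
    obtain ⟨p', r', hp', hr', z', hz', rfl⟩ := h'
    obtain ⟨w, hw, h1⟩ := key p p' (hp.trans hp'.symm)
    obtain ⟨w', hw', h2⟩ := key r r' (hr.trans hr'.symm)
    refine ⟨w * w' * z * z'⁻¹, Z.mul_mem (Z.mul_mem (Z.mul_mem hw hw') hz) (Z.inv_mem hz'), ?_⟩
    rw [h1, h2]
    generalize (if k = true then u else 1) = κ
    calc w * (p' : Γ) * g * (w' * (r' : Γ)) * κ * z = (w * (p' * g)) * (w' * (r' * κ * z)) := by group
      _ = (p' * g * w) * (r' * κ * z * w') := by rw [hZ w hw, hZ w' hw']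
      _ = p' * g * (w * (r' * κ * z)) * w' := by group
      _ = p' * g * ((r' * κ * z) * w) * w' := by rw [hZ w hw]
      _ = p' * g * r' * κ * (z * (w * w')) := by group
      _ = p' * g * r' * κ * ((w * w') * z) := by rw [hZ z hz]
      _ = p' * g * r' * κ * ((w * w' * z * z'⁻¹) * z') := by group
      _ = p' * g * r' * κ * (z' * (w * w' * z * z'⁻¹)) := by rw [hZ z' hz']
      _ = _ := by group

/-- `M` is small modulo scalars -/
theorem card_bound (hCz : (C.z : Γ) ∈ Z) {X : Type*} (φ : X → Γ) (hφ : ∀ x, φ x ∈ O.Mg Z hZ)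
    (hinj : ∀ x y, ∀ z ∈ Z, φ x = φ y * z → x = y) : Nat.card X ≤ 812891520 := by
  choose t ht using fun x => O.exists_rel (hφ x)
  have h1 : Function.Injective t := by
    intro x y hxy
    obtain ⟨z, hz, h⟩ := rel_unique hCz hZ (ht x) (by rw [hxy]; exact ht y)
    exact hinj x y z hz h
  have hL : Finite L := Nat.finite_of_card_ne_zero (by rw [card_L]; norm_num)
  have h2 := Nat.card_le_card_of_injective t h1
  rw [Nat.card_prod, Nat.card_sum, Nat.card_prod, card_L, Nat.card_eq_fintype_card (α := Bool), Fintype.card_bool] at h2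
  exact h2

theorem q_eq {A B : S} (h : q A = q B) : ∃ k : F4, ∀ i j, A.1 i j = k * B.1 i j := by
  have h1 : B⁻¹ * A ∈ Subgroup.center S := QuotientGroup.eq.1 h.symm
  rw [Matrix.SpecialLinearGroup.mem_center_iff] at h1
  obtain ⟨k, -, hk⟩ := h1
  refine ⟨k, fun i j => ?_⟩
  have h2 : A.1 = B.1 * (B⁻¹ * A : S).1 := by
    rw [← Matrix.SpecialLinearGroup.coe_mul, mul_inv_cancel_left]
  rw [h2, ← hk, Matrix.scalar_apply, Matrix.mul_diagonal, mul_comm]

theorem no_x13 (A : S) (h : ∀ t, q (A * x13 t) = q (x13 (t * t) * A)) : False := by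
  have key : ∀ t, ∃ k : F4, ∀ i j, (A * x13 t).1 i j = k * (x13 (t * t) * A).1 i j := fun t => q_eq (h t)
  have r1 : ∀ t i, (A * x13 t).1 i 0 = A.1 i 0 ∧ (A * x13 t).1 i 1 = A.1 i 1 ∧ (A * x13 t).1 i 2 = A.1 i 0 * t + A.1 i 2 := by
    intro t i
    rw [row, row, row]
    refine ⟨?_, ?_, ?_⟩ <;> simp [x13]
  have r2 : ∀ t j, (x13 t * A).1 0 j = A.1 0 j + t * A.1 2 j ∧ (x13 t * A).1 1 j = A.1 1 j ∧ (x13 t * A).1 2 j = A.1 2 j := by
    intro t j
    rw [row, row, row]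
    refine ⟨?_, ?_, ?_⟩ <;> simp [x13]
  have rel : ∀ t, (∀ i, i ≠ 0 → A.1 i 0 * t = 0) ∧ A.1 0 0 * t = t * t * A.1 2 2 := by
    intro t
    obtain ⟨k, hk⟩ := key t
    have hk1 : k = 1 := by
      by_contra hne
      have e0 : A.1 1 0 = k * A.1 1 0 := by have := hk 1 0; rwa [(r1 t 1).1, (r2 (t * t) 0).2.1] at this
      have e1 : A.1 1 1 = k * A.1 1 1 := by have := hk 1 1; rwa [(r1 t 1).2.1, (r2 (t * t) 1).2.1] at this
      have e2 : A.1 1 0 * t + A.1 1 2 = k * A.1 1 2 := by have := hk 1 2; rwa [(r1 t 1).2.2, (r2 (t * t) 2).2.1] at this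
      have z : ∀ x : F4, x = k * x → x = 0 := by
        intro x hx
        have : (1 - k) * x = 0 := by linear_combination hx
        exact (mul_eq_zero.1 this).resolve_left (fun h => hne (sub_eq_zero.1 h).symm)
      have z0 := z _ e0
      have z1 := z _ e1
      have z2 := z _ (by rw [z0, zero_mul, zero_add] at e2; exact e2)
      have hdet := A.2
      rw [Matrix.det_fin_three, z0, z1, z2] at hdet
      simp at hdet
    subst hk1
    constructor
    · intro i hi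
      have h3 := hk i 2
      rw [(r1 t i).2.2, one_mul] at h3
      have h4 : (x13 (t * t) * A).1 i 2 = A.1 i 2 := by
        fin_cases i
        · exact absurd rfl hi
        · exact (r2 (t * t) 2).2.1
        · exact (r2 (t * t) 2).2.2
      rw [h4] at h3
      exact add_eq_right.1 h3
    · have h3 := hk 0 2
      rw [(r1 t 0).2.2, one_mul, (r2 (t * t) 2).1, add_comm] at h3
      exact add_left_cancel h3
  have a1 := (rel 1).1 1 (by decide)
  have a2 := (rel 1).1 2 (by decide)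
  have b1 := (rel 1).2
  have b2 := (rel F4.w).2
  rw [mul_one] at a1 a2 b1
  rw [one_mul, one_mul] at b1
  rw [b1] at b2
  have b3 : A.1 2 2 = 0 := by
    have e : ∀ x : F4, x * F4.w = F4.w * F4.w * x → x = 0 := by decide
    exact e _ b2
  rw [b3] at b1
  have hdet := A.2
  rw [Matrix.det_fin_three, a1, a2, b1] at hdet
  simp at hdet

include O in
/-- `g` does not normalise `P` -/
theorem not_nm : ¬ Nm P g := by
  intro h
  have h1 : a * g * (a : Γ) ∈ P := by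
    rw [← O.ga]
    have := h.h1 a a.2
    rwa [O.ginv] at this
  have h2 : g ∈ P := by
    have := P.mul_mem (P.mul_mem (P.inv_mem a.2) h1) (P.inv_mem a.2)
    have e : (a : Γ)⁻¹ * (a * g * a) * (a : Γ)⁻¹ = g := by group
    rwa [e] at this
  obtain ⟨A, hA⟩ := QuotientGroup.mk'_surjective (Subgroup.center S) (C.π ⟨g, h2⟩)
  apply no_x13 A
  intro t
  have h4 : (⟨g, h2⟩ : P) * c.X13 t = c.X13 (t * t) * ⟨g, h2⟩ := Subtype.ext (O.g13 t)
  have h5 := congrArg C.π h4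
  rw [map_mul, map_mul, c.f13.lift, c.f13.lift, ← hA] at h5
  rw [map_mul, map_mul]
  exact h5

end Ov

end Cfsg.Agent.H840.L34
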