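import Cfsg.Agent.H840.L34.Inst
import Cfsg.Agent.H840.L34.Cnt
import Cfsg.Agent.H906.T14Ten
import Cfsg.Agent.LieClassical.FieldTransfer
import Cfsg.Agent.H920.SympA

/-!
# `PSL_3(4)` in degree ten : not maximal
-/

set_option autoImplicit false
set_option linter.constructorNameAsVariable false
set_option linter.unusedSectionVars false

namespace Cfsg.Agent.H840.L34

open Cfsg.Agent.Lib.FieldFour Cfsg Cfsg.Geo H915.LD H906.T14
open scoped Matrix MatrixGroups

universe u v

section cover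

variable {ι : Type} [Fintype ι] [DecidableEq ι] {F : Type u} [Field F] {P : Subgroup (GL ι F)}
  {K : Type v} [Field K] [Fintype K]

/-- the projection onto `PSL_3(4)` -/
noncomputable def phi (hK : Fintype.card K = 4) (e : Soc P ≃* Matrix.ProjectiveSpecialLinearGroup (Fin 3) K) : P →* L :=
  (Cfsg.Agent.LieClassical.FieldTransfer.pslCongr (equivOfCard hK)).toMonoidHom.comp (ph e)

variable (hK : Fintype.card K = 4) (e : Soc P ≃* Matrix.ProjectiveSpecialLinearGroup (Fin 3) K)

theorem phi_surj : Function.Surjective (phi hK e) :=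
  (Cfsg.Agent.LieClassical.FieldTransfer.pslCongr (equivOfCard hK)).surjective.comp (ph_surj e)

theorem phi_ker (g : P) : phi hK e g = 1 ↔ g ∈ (ph e).ker := by
  rw [MonoidHom.mem_ker]
  exact (Cfsg.Agent.LieClassical.FieldTransfer.pslCongr (equivOfCard hK)).map_eq_one_iff

include hK in
/-- the kernel -/
theorem ker_cases [Finite F] (hC : Core P) (hn : Fintype.card ι = 10) {g : P} (hg : g ∈ (ph e).ker) :
    g = 1 ∨ ((g : GL ι F) : Matrix ι ι F) = -1 := by
  have hfin : Finite P := inferInstance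
  have h1 := ph_pow e hC hg
  rw [hn] at h1
  have hcop := coprime_ker_five hK (ph_surj e) (ph_cen e) hC.commutator_top
  have h5 : (orderOf g).Coprime 5 := by
    apply Nat.Coprime.coprime_dvd_left _ hcop
    rw [← Subgroup.orderOf_mk g hg]
    exact orderOf_dvd_natCard _
  have h2 : orderOf g ∣ 2 := by
    have h3 : orderOf g ∣ 2 * 5 := orderOf_dvd_of_pow_eq_one h1
    exact h5.dvd_of_dvd_mul_right h3
  have h3 : g ^ 2 = 1 := orderOf_dvd_iff_pow_eq_one.1 h2
  obtain ⟨c, -, hc⟩ := ph_scalar e hg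
  have hne := hC.nonempty
  have h4 : (((g ^ 2 : P) : GL ι F) : Matrix ι ι F) = (c ^ 2) • 1 := by
    rw [Subgroup.coe_pow, Units.val_pow_eq_pow_val, hc, smul_pow, one_pow]
  rw [h3] at h4
  have h5 : (c ^ 2 : F) = 1 := by
    apply smul_ext (ι := ι)
    rw [← h4, one_smul]
    rfl
  have h6 : (c - 1) * (c + 1) = 0 := by linear_combination h5
  rcases mul_eq_zero.1 h6 with h7 | h7
  · left
    apply Subtype.ext
    apply Units.ext
    rw [hc, sub_eq_zero.1 h7, one_smul]
    rfl
  · right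
    rw [hc, eq_neg_of_add_eq_zero_left h7, neg_one_smul]

/-- families consist of commutators -/
theorem fam_one {G : Type*} [Group G] {C : Cv G} {h : G} {m : F4} (hm : ∃ n, m * n + n = 1) {x : F4 → L} {X : F4 → G}
    (f : C.Fam h m x X) (χ : G →* ℤˣ) (t : F4) : χ (X t) = 1 := by
  obtain ⟨n, hn⟩ := hm
  have h1 : X t = X (m * (n * t)) * X (n * t) := by
    rw [← f.add]
    congr 1
    have : t = (m * n + n) * t := by rw [hn, one_mul]
    linear_combination this
  have h2 : ∀ x : ℤˣ, x * x = 1 := fun x => by rcases Int.units_eq_one_or x with h | h <;> rw [h] <;> rfl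
  rw [h1, map_mul, ← f.conj, map_mul, map_mul, map_inv, mul_comm (χ h), mul_inv_cancel_right, h2]

theorem e_one {G : Type*} [Group G] {C : Cv G} (c : Conf C) (χ : G →* ℤˣ) (t : F4) : χ (c.e t) = 1 := by
  change χ (c.X12 1 * c.X23 t * c.X12 1 * c.X23 t * c.X13 (1 * t)) = 1
  rw [map_mul, map_mul, map_mul, map_mul, fam_one ⟨F4.v, by decide⟩ c.f12 χ, fam_one ⟨F4.v, by decide⟩ c.f23 χ,
    fam_one ⟨F4.w, by decide⟩ c.f13 χ, mul_one, mul_one, mul_one, mul_one]

/-- the cover when `-1 ∈ P` -/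
noncomputable def cv1 [Finite F] (hC : Core P) (hn : Fintype.card ι = 10) (h2 : (2 : F) ≠ 0) {z : P}
    (hz : ((z : GL ι F) : Matrix ι ι F) = -1) : Cv P where
  π := phi hK e
  z := z
  surj := phi_surj hK e
  zc g := by
    apply Subtype.ext; apply Units.ext
    change ((z : GL ι F) : Matrix ι ι F) * _ = _ * ((z : GL ι F) : Matrix ι ι F)
    rw [hz, neg_mul, mul_neg, one_mul, mul_one]
  zz := by
    apply Subtype.ext; apply Units.ext
    change ((z : GL ι F) : Matrix ι ι F) * ((z : GL ι F) : Matrix ι ι F) = 1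
    rw [hz, neg_mul, mul_neg, one_mul, neg_neg]
  z1 := by
    intro h
    rw [h] at hz
    have hne := hC.nonempty
    obtain ⟨i⟩ := hne
    have h3 : (1 : Matrix ι ι F) i i = (-1 : Matrix ι ι F) i i := congrFun (congrFun hz i) i
    rw [Matrix.neg_apply, Matrix.one_apply_eq] at h3
    apply h2
    linear_combination h3
  ker g := by
    rw [phi_ker]
    constructor
    · intro h
      rcases ker_cases hK e hC hn h with h | h
      · exact Or.inl h
      · right
        apply Subtype.ext; apply Units.ext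
        rw [h, hz]
    · rintro (rfl | rfl)
      · exact Subgroup.one_mem _
      · rw [H915.LD.ker_comp e, Subgroup.mem_subgroupOf, mem_scalars_iff]
        exact ⟨-1, by rw [hz, Units.val_neg, Units.val_one, neg_one_smul]⟩

/-- the cover when `-1 ∉ P` -/
noncomputable def cv2 [Finite F] (hC : Core P) (hn : Fintype.card ι = 10)
    (hz : ∀ z : P, ((z : GL ι F) : Matrix ι ι F) ≠ -1) : Cv (P × ℤˣ) where
  π := (phi hK e).comp (MonoidHom.fst P ℤˣ)
  z := (1, -1)
  surj l := by
    obtain ⟨p, hp⟩ := phi_surj hK e l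
    exact ⟨(p, 1), hp⟩
  zc g := by
    apply Prod.ext
    · change 1 * g.1 = g.1 * 1
      rw [one_mul, mul_one]
    · exact mul_comm _ _
  zz := by
    apply Prod.ext
    · exact one_mul 1
    · rfl
  z1 := by
    intro h
    have h1 : (-1 : ℤˣ) = 1 := congrArg Prod.snd h
    exact absurd h1 (by decide)
  ker g := by
    rw [MonoidHom.comp_apply, MonoidHom.coe_fst, phi_ker]
    constructor
    · intro h
      rcases ker_cases hK e hC hn h with h | h
      · rcases Int.units_eq_one_or g.2 with h1 | h1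
        · exact Or.inl (Prod.ext h h1)
        · exact Or.inr (Prod.ext h h1)
      · exact absurd h (hz _)
    · rintro (rfl | rfl)
      · exact Subgroup.one_mem _
      · exact Subgroup.one_mem _

/-- the representation of `P × {1, -1}` -/
noncomputable def rp2 (P : Subgroup (GL ι F)) : P × ℤˣ →* Module.End F (ι → F) where
  toFun g := ((g.2 : ℤ) : F) • rp P g.1
  map_one' := by
    change (((1 : ℤˣ) : ℤ) : F) • rp P 1 = 1
    rw [map_one, Units.val_one, Int.cast_one, one_smul]
  map_mul' g g' := by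
    change (((g.2 * g'.2 : ℤˣ) : ℤ) : F) • rp P (g.1 * g'.1) = _
    rw [map_mul, Units.val_mul, Int.cast_mul, smul_mul_smul_comm]

include hK in
theorem neg_one_mem [Finite F] (hC : Core P) (hn : Fintype.card ι = 10) (h2 : (2 : F) ≠ 0)
    (e : Soc P ≃* Matrix.ProjectiveSpecialLinearGroup (Fin 3) K) :
    ∃ z : P, ((z : GL ι F) : Matrix ι ι F) = -1 := by
  by_contra hcon
  push Not at hcon
  obtain ⟨α, c, h1⟩ := exists_good (cv2 hK e hC hn hcon)
  have R : RH ((cv2 hK e hC hn hcon).comp α) (rp2 P) := {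
    z := by
      apply LinearMap.ext
      intro v
      change (((-1 : ℤˣ) : ℤ) : F) • (rp P 1) v = -v
      rw [map_one, Units.val_neg, Units.val_one, Int.cast_neg, Int.cast_one, neg_one_smul]
      rfl
    two := h2
    dim := by rw [Module.finrank_fintype_fun_eq_card, hn]
    faith := by
      rintro ⟨p, ε⟩ hg
      have h3 : ∀ v, ((ε : ℤ) : F) • (((p : GL ι F) : Matrix ι ι F) *ᵥ v) = v := fun v => LinearMap.congr_fun hg v
      rcases Int.units_eq_one_or ε with h4 | h4
      · subst h4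
        have h5 : p = 1 := by
          apply Subtype.ext; apply ext_vec
          intro v
          have := h3 v
          rw [Units.val_one, Int.cast_one, one_smul] at this
          rw [this, Subgroup.coe_one, Units.val_one, Matrix.one_mulVec]
        rw [h5]; rfl
      · subst h4
        exfalso
        apply hcon p
        apply Matrix.ext_of_mulVec_single
        intro i
        have := h3 (Pi.single i 1)
        rw [Units.val_neg, Units.val_one, Int.cast_neg, Int.cast_one, neg_one_smul] at this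
        rw [Matrix.neg_mulVec, Matrix.one_mulVec, ← neg_eq_iff_eq_neg, this] }
  have h3 := R.not_triv c h1
  have h4 := e_one c (MonoidHom.snd P ℤˣ) F4.w
  rw [h3] at h4
  revert h4
  change ¬ ((-1 : ℤˣ) = 1)
  decide

end cover

section sperm

variable {F : Type u} [Field F]

/-- signed permutation matrices -/
def sgm (F : Type u) [Field F] (δ : Fin 10 → ℤˣ) (π : Equiv.Perm (Fin 10)) : Matrix (Fin 10) (Fin 10) F :=
  Matrix.of fun i j => if π i = j then (((δ i : ℤˣ) : ℤ) : F) else 0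

theorem sgm_eq (δ : Fin 10 → ℤˣ) (π : Equiv.Perm (Fin 10)) :
    sgm F δ π = Matrix.diagonal (fun i => (((δ i : ℤˣ) : ℤ) : F)) * π.permMatrix F := by
  ext i j
  rw [Matrix.diagonal_mul, Equiv.Perm.permMatrix, PEquiv.toMatrix_apply]
  simp [sgm, Equiv.toPEquiv, eq_comm]

theorem sgm_det (δ : Fin 10 → ℤˣ) (π : Equiv.Perm (Fin 10)) (h : (∏ i, δ i) * Equiv.Perm.sign π = 1) :
    (sgm F δ π).det = 1 := by
  rw [sgm_eq, Matrix.det_mul, Matrix.det_diagonal, Matrix.det_permutation]
  have h1 : ((((∏ i, δ i) * Equiv.Perm.sign π : ℤˣ) : ℤ) : F) = 1 := by rw [h, Units.val_one, Int.cast_one]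
  rw [Units.val_mul, Int.cast_mul, Units.coe_prod, Int.cast_prod] at h1
  exact h1

/-- the invertible signed permutation matrices -/
def sgl (F : Type u) [Field F] (δ : Fin 10 → ℤˣ) (π : Equiv.Perm (Fin 10)) (h : (∏ i, δ i) * Equiv.Perm.sign π = 1) :
    GL (Fin 10) F := Matrix.SpecialLinearGroup.toGL ⟨sgm F δ π, sgm_det δ π h⟩

theorem sgl_val (δ : Fin 10 → ℤˣ) (π : Equiv.Perm (Fin 10)) (h : (∏ i, δ i) * Equiv.Perm.sign π = 1) :
    (sgl F δ π h : Matrix (Fin 10) (Fin 10) F) = sgm F δ π := rfl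

theorem sgl_det (δ : Fin 10 → ℤˣ) (π : Equiv.Perm (Fin 10)) (h : (∏ i, δ i) * Equiv.Perm.sign π = 1) :
    Matrix.GeneralLinearGroup.det (sgl F δ π h) = 1 := by
  apply Units.ext
  rw [Matrix.GeneralLinearGroup.val_det_apply, sgl_val, sgm_det δ π h, Units.val_one]

theorem sgm_vec (δ : Fin 10 → ℤˣ) (π : Equiv.Perm (Fin 10)) (v : Fin 10 → F) (i : Fin 10) :
    (sgm F δ π *ᵥ v) i = (((δ i : ℤˣ) : ℤ) : F) * v (π i) := by
  change ∑ j, (if π i = j then (((δ i : ℤˣ) : ℤ) : F) else 0) * v j = _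
  simp

theorem unit_ne (h2 : (2 : F) ≠ 0) {x y : ℤˣ} (h : ((x : ℤ) : F) = ((y : ℤ) : F)) : x = y := by
  rcases Int.units_eq_one_or x with rfl | rfl <;> rcases Int.units_eq_one_or y with rfl | rfl
  · rfl
  · exfalso; apply h2
    rw [Units.val_neg, Units.val_one, Int.cast_neg, Int.cast_one] at h
    linear_combination h
  · exfalso; apply h2
    rw [Units.val_neg, Units.val_one, Int.cast_neg, Int.cast_one] at h
    linear_combination -h
  · rfl

theorem unit_ne_zero (x : ℤˣ) : ((x : ℤ) : F) ≠ 0 := by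
  rcases Int.units_eq_one_or x with rfl | rfl <;> simp

/-- the signs determined by eight of them -/
def dl (ε : Fin 8 → ℤˣ) (π : Equiv.Perm (Fin 10)) : Fin 10 → ℤˣ :=
  Fin.cons 1 (Fin.cons ((∏ i, ε i) * Equiv.Perm.sign π) ε)

theorem dl_prod (ε : Fin 8 → ℤˣ) (π : Equiv.Perm (Fin 10)) : (∏ i, dl ε π i) * Equiv.Perm.sign π = 1 := by
  unfold dl
  rw [Fin.prod_cons, Fin.prod_cons, one_mul]
  have h2 : ∀ x : ℤˣ, x * x = 1 := fun x => by rcases Int.units_eq_one_or x with h | h <;> rw [h] <;> rfl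
  have h3 := h2 (∏ i, ε i)
  have h4 := h2 (Equiv.Perm.sign π)
  calc (∏ i, ε i) * Equiv.Perm.sign π * (∏ i, ε i) * Equiv.Perm.sign π
      = ((∏ i, ε i) * (∏ i, ε i)) * (Equiv.Perm.sign π * Equiv.Perm.sign π) := by
        rw [mul_assoc, mul_assoc, mul_assoc]
        congr 1
        rw [mul_left_comm]
    _ = 1 := by rw [h3, h4, one_mul]

/-- the family of signed permutation matrices -/
def spf (F : Type u) [Field F] (x : (Fin 8 → ℤˣ) × Equiv.Perm (Fin 10)) : GL (Fin 10) F :=
  sgl F (dl x.1 x.2) x.2 (dl_prod x.1 x.2)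

theorem spf_inj (h2 : (2 : F) ≠ 0) (x y : (Fin 8 → ℤˣ) × Equiv.Perm (Fin 10)) (z : GL (Fin 10) F)
    (hz : z ∈ scalars (Fin 10) F) (h : spf F x = spf F y * z) : x = y := by
  rw [mem_scalars_iff] at hz
  obtain ⟨c, hc⟩ := hz
  have h1 := congrArg (fun g : GL (Fin 10) F => (g : Matrix (Fin 10) (Fin 10) F)) h
  have h3 : ∀ i j, sgm F (dl x.1 x.2) x.2 i j = (c : F) * sgm F (dl y.1 y.2) y.2 i j := by
    intro i j
    have h4 := congrFun (congrFun h1 i) j
    change sgm F (dl x.1 x.2) x.2 i j = ((spf F y * z : GL (Fin 10) F) : Matrix (Fin 10) (Fin 10) F) i j at h4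
    rw [h4, Units.val_mul, hc, Matrix.mul_smul, Matrix.mul_one, Matrix.smul_apply, smul_eq_mul]
    rfl
  have h4 : ∀ i, y.2 i = x.2 i := by
    intro i
    by_contra hne
    have h5 := h3 i (x.2 i)
    change (if x.2 i = x.2 i then (((dl x.1 x.2 i : ℤˣ) : ℤ) : F) else 0) =
      (c : F) * (if y.2 i = x.2 i then (((dl y.1 y.2 i : ℤˣ) : ℤ) : F) else 0) at h5
    rw [if_pos rfl, if_neg hne, mul_zero] at h5
    exact unit_ne_zero _ h5
  have h5 : ∀ i, (((dl x.1 x.2 i : ℤˣ) : ℤ) : F) = c * (((dl y.1 y.2 i : ℤˣ) : ℤ) : F) := by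
    intro i
    have h5 := h3 i (x.2 i)
    change (if x.2 i = x.2 i then (((dl x.1 x.2 i : ℤˣ) : ℤ) : F) else 0) =
      (c : F) * (if y.2 i = x.2 i then (((dl y.1 y.2 i : ℤˣ) : ℤ) : F) else 0) at h5
    rwa [if_pos rfl, if_pos (h4 i)] at h5
  have h6 : (c : F) = 1 := by
    have := h5 0
    change (((1 : ℤˣ) : ℤ) : F) = c * (((1 : ℤˣ) : ℤ) : F) at this
    rw [Units.val_one, Int.cast_one, mul_one] at this
    exact this.symm
  apply Prod.ext
  · funext i
    have := h5 i.succ.succ
    rw [h6, one_mul] at this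
    exact unit_ne h2 this
  · exact Equiv.ext fun i => (h4 i).symm

theorem card_X : Nat.card ((Fin 8 → ℤˣ) × Equiv.Perm (Fin 10)) = 928972800 := by
  rw [Nat.card_eq_fintype_card, Fintype.card_prod, Fintype.card_perm, Fintype.card_fun, Fintype.card_fin,
    Fintype.card_fin, Fintype.card_units_int]
  rfl

end sperm

section kill

variable {F : Type u} [Field F] [Finite F] {K : Type v} [Field K] [Fintype K]

/-- **General form** : `A` contains the signed permutation matrices of determinant one, and the elements of determinant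
one preserving all forms fixed by `P`. -/
theorem kill_gen {A H P : Subgroup (GL (Fin 10) F)} (hH : IsMaximalIn A H) (hR : IsResidualCore H P)
    (hK : Fintype.card K = 4) (e : Soc P ≃* Matrix.ProjectiveSpecialLinearGroup (Fin 3) K)
    (h2 : (2 : F) ≠ 0) (h7 : (7 : F) ≠ 0) (hW : ∀ x, spf F x ∈ A)
    (hA : ∀ g : GL (Fin 10) F, Matrix.GeneralLinearGroup.det g = 1 →
      (∀ (τ : F → F) (f : (Fin 10 → F) → (Fin 10 → F) → F), Sq τ f → Fx P f → ∀ x y,
        f ((g : Matrix (Fin 10) (Fin 10) F) *ᵥ x) ((g : Matrix (Fin 10) (Fin 10) F) *ᵥ y) = f x y) → g ∈ A) : False := by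
  have hC := core_of_residual hR
  obtain ⟨z, hz⟩ := neg_one_mem hK hC (Fintype.card_fin 10) h2 e
  obtain ⟨α, c, a, b, g, u, O, E, hform⟩ := exists_ov (cv1 hK e hC (Fintype.card_fin 10) h2 hz) hz h2 h7
    (Fintype.card_fin 10)
  have hZ : ∀ z ∈ scalars (Fin 10) F, ∀ x, z * x = x * z := fun z hz x => H920.scalars_comm hz x
  have hCz : (((cv1 hK e hC (Fintype.card_fin 10) h2 hz).comp α).z : GL (Fin 10) F) ∈ scalars (Fin 10) F := by
    rw [mem_scalars_iff]
    exact ⟨-1, by
      change ((z : GL (Fin 10) F) : Matrix (Fin 10) (Fin 10) F) = _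
      rw [hz, Units.val_neg, Units.val_one, neg_one_smul]⟩
  have hg : g ∈ A := by
    apply hA g _ hform
    have h3 := congrArg Matrix.GeneralLinearGroup.det O.ga
    simp only [map_mul] at h3
    rw [hC.det a.2, mul_one, one_mul, mul_one] at h3
    exact mul_eq_right.1 h3
  have hHM : H ≤ O.Mg (scalars (Fin 10) F) hZ := by
    intro h hh
    have hnm : Nm P h := ⟨fun y hy => hR.normal h hh y hy, fun y hy => by
      have := hR.normal h⁻¹ (H.inv_mem hh) y hy
      rwa [inv_inv] at this⟩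
    obtain ⟨p, hp, k, hk, hcomm⟩ := norm_thm O E hnm
    have h3 := H920.mem_scalars_of_comm' hC.absIrred hcomm
    have hk' : k⁻¹ = 1 ∨ k⁻¹ = u := by
      rcases hk with rfl | rfl
      · left; group
      · right; exact O.uinv
    refine ⟨p⁻¹, O.P_le (P.inv_mem hp), k⁻¹, hk', p * h * k, h3, ?_⟩
    rw [mul_assoc, ← hZ _ h3]
    group
  rcases hH.2 (O.Mg (scalars (Fin 10) F) hZ ⊓ A) (le_inf hHM hH.1.le) inf_le_right with h3 | h3
  · have h4 : g ∈ H := by
      rw [← h3]
      exact ⟨O.g_mem_Mg, hg⟩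
    apply O.not_nm
    exact ⟨fun y hy => hR.normal g h4 y hy, fun y hy => by
      have := hR.normal g⁻¹ (H.inv_mem h4) y hy
      rwa [inv_inv] at this⟩
  · have h4 : ∀ x, spf F x ∈ O.Mg (scalars (Fin 10) F) hZ := by
      intro x
      have := hW x
      rw [← h3] at this
      exact this.1
    have h5 := O.card_bound hCz (spf F) h4 (fun x y z hz h => spf_inj h2 x y z hz h)
    rw [card_X] at h5
    norm_num at h5

/-- **`SL_10(F)` : cores with socle `PSL_3(4)` are not maximal.** -/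
theorem kill_linear {H P : Subgroup (GL (Fin 10) F)} (hH : IsMaximalIn (specialLinear (Fin 10) F) H)
    (hR : IsResidualCore H P) (hK : Fintype.card K = 4)
    (e : Soc P ≃* Matrix.ProjectiveSpecialLinearGroup (Fin 3) K) (h2 : (2 : F) ≠ 0) (h7 : (7 : F) ≠ 0) : False :=
  kill_gen hH hR hK e h2 h7 (fun _ => sgl_det _ _ _) (fun _ h _ => h)

omit [Finite F] in
theorem exists_pow [Fintype F] {q : ℕ} (hF : Fintype.card F = q ^ 2) :
    ∃ (p k : ℕ), p.Prime ∧ CharP F p ∧ q = p ^ k := by
  obtain ⟨p, hp⟩ := CharP.exists F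
  obtain ⟨n, hn, h⟩ := FiniteField.card F p
  refine ⟨p, ?_⟩
  have h1 : q ∣ p ^ (n : ℕ) := by rw [← h, hF]; exact dvd_pow_self q two_ne_zero
  obtain ⟨k, -, hk⟩ := (Nat.dvd_prime_pow hn).1 h1
  exact ⟨k, hn, hp, hk⟩

omit [Finite F] in
theorem sq_herm [Fintype F] {q : ℕ} (hF : Fintype.card F = q ^ 2) (n : ℕ) : Sq (fun x : F => x ^ q) (hermForm n F q) := by
  obtain ⟨p, k, hp, hc, hq⟩ := exists_pow hF
  have : Fact p.Prime := ⟨hp⟩
  constructor
  · intro x y v
    unfold hermForm
    rw [← Finset.sum_add_distrib]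
    exact Finset.sum_congr rfl fun i _ => by rw [Pi.add_apply, add_mul]
  · intro c x v
    unfold hermForm
    rw [Finset.mul_sum]
    exact Finset.sum_congr rfl fun i _ => by rw [Pi.smul_apply, smul_eq_mul, mul_assoc]
  · intro x y v
    unfold hermForm
    rw [← Finset.sum_add_distrib]
    exact Finset.sum_congr rfl fun i _ => by rw [Pi.add_apply, hq, add_pow_char_pow, mul_add]
  · intro c x v
    unfold hermForm
    rw [Finset.mul_sum]
    exact Finset.sum_congr rfl fun i _ => by rw [Pi.smul_apply, smul_eq_mul, mul_pow]; ring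

/-- **`SU_10(q)` : cores with socle `PSL_3(4)` are not maximal.** -/
theorem kill_unitary [Fintype F] {q : ℕ} (hF : Fintype.card F = q ^ 2) {H P : Subgroup (GL (Fin 10) F)}
    (hH : IsMaximalIn (GU 10 F q ⊓ specialLinear (Fin 10) F) H)
    (hR : IsResidualCore H P) (hK : Fintype.card K = 4)
    (e : Soc P ≃* Matrix.ProjectiveSpecialLinearGroup (Fin 3) K) (h2 : (2 : F) ≠ 0) (h7 : (7 : F) ≠ 0) : False := by
  have hodd : Odd q := by
    rcases Nat.even_or_odd q with h | h
    · exfalso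
      apply h2
      obtain ⟨m, hm⟩ := h
      have h3 : ((Fintype.card F : ℕ) : F) = 0 := FiniteField.cast_card_eq_zero F
      rw [hF, hm] at h3
      have h4 : (2 : F) * 2 * ((m : F) * m) = 0 := by
        have : (((m + m) ^ 2 : ℕ) : F) = 2 * 2 * ((m : F) * m) := by push_cast; ring
        rw [← this, h3]
      obtain ⟨p, k, hp, hc, hq⟩ := exists_pow hF
      have h5 : 2 ∣ p ^ k := by rw [← hq, hm]; exact ⟨m, by ring⟩
      have h6 : p = 2 := ((Nat.prime_dvd_prime_iff_eq Nat.prime_two hp).1 (Nat.prime_two.dvd_of_dvd_pow h5)).symm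
      subst h6
      exact CharTwo.two_eq_zero
    · exact h
  refine kill_gen hH hR hK e h2 h7 ?_ ?_
  · intro x
    refine ⟨?_, sgl_det _ _ _⟩
    intro u v
    change hermForm 10 F q (sgm F (dl x.1 x.2) x.2 *ᵥ u) (sgm F (dl x.1 x.2) x.2 *ᵥ v) = hermForm 10 F q u v
    unfold hermForm
    rw [← Equiv.sum_comp x.2 (fun i => u i * v i ^ q)]
    refine Finset.sum_congr rfl fun i _ => ?_
    rw [sgm_vec, sgm_vec, mul_pow]
    have h3 : (((dl x.1 x.2 i : ℤˣ) : ℤ) : F) * (((dl x.1 x.2 i : ℤˣ) : ℤ) : F) ^ q = 1 := by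
      rcases Int.units_eq_one_or (dl x.1 x.2 i) with h | h <;> rw [h]
      · simp
      · rw [Units.val_neg, Units.val_one, Int.cast_neg, Int.cast_one, hodd.neg_one_pow]; ring
    linear_combination (u (x.2 i) * v (x.2 i) ^ q) * h3
  · intro g hg h
    refine ⟨?_, hg⟩
    intro u v
    refine h (fun x => x ^ q) (hermForm 10 F q) (sq_herm hF 10) ?_ u v
    intro p hp u v
    exact (hH.1.le (hR.le hp)).1 u v

end kill

end Cfsg.Agent.H840.L34
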