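import Cfsg.Agent.H840.L34.Conf

/-!
# `SL_3(4)` : decomposition with respect to the stabiliser of a point
-/

set_option autoImplicit false
set_option linter.constructorNameAsVariable false

namespace Cfsg.Agent.H840.L34

open Cfsg.Agent.Lib.FieldFour

/-- the stabiliser of a point, by generators -/
def SB : Subgroup S := Subgroup.closure
  (Set.range x12 ∪ Set.range x13 ∪ Set.range x23 ∪ {hh, wb, sc})

theorem x12_mem (s : F4) : x12 s ∈ SB := Subgroup.subset_closure (Or.inl (Or.inl (Or.inl ⟨s, rfl⟩)))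
theorem x13_mem (s : F4) : x13 s ∈ SB := Subgroup.subset_closure (Or.inl (Or.inl (Or.inr ⟨s, rfl⟩)))
theorem x23_mem (s : F4) : x23 s ∈ SB := Subgroup.subset_closure (Or.inl (Or.inr ⟨s, rfl⟩))
theorem hh_mem : hh ∈ SB := Subgroup.subset_closure (Or.inr (Or.inl rfl))
theorem wb_mem : wb ∈ SB := Subgroup.subset_closure (Or.inr (Or.inr (Or.inl rfl)))
theorem sc_mem : sc ∈ SB := Subgroup.subset_closure (Or.inr (Or.inr (Or.inr rfl)))

theorem diag_dec : ∀ x y z : F4, x * y * z = 1 → ∃ i j : Fin 3,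
    !![x, 0, 0; 0, y, 0; 0, 0, z] = (hh ^ (i : ℕ) * sc ^ (j : ℕ) : S).1 := by decide

theorem mem_up (A : S) (h10 : A.1 1 0 = 0) (h20 : A.1 2 0 = 0) (h21 : A.1 2 1 = 0) : A ∈ SB := by
  have hdet : A.1 0 0 * A.1 1 1 * A.1 2 2 = 1 := by
    have := A.2
    rw [Matrix.det_fin_three, h10, h20, h21] at this
    linear_combination this
  obtain ⟨i, j, hij⟩ := diag_dec _ _ _ hdet
  have h11 : A.1 1 1 ≠ 0 := by
    intro h; rw [h, mul_zero, zero_mul] at hdet; exact zero_ne_one hdet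
  have h22 : A.1 2 2 ≠ 0 := by
    intro h; rw [h, mul_zero] at hdet; exact zero_ne_one hdet
  have h : A = x13 (A.1 0 2 / A.1 2 2) * x23 (A.1 1 2 / A.1 2 2) * x12 (A.1 0 1 / A.1 1 1) *
      (hh ^ (i : ℕ) * sc ^ (j : ℕ)) := by
    apply Subtype.ext
    rw [Matrix.SpecialLinearGroup.coe_mul (_ * _ * _), ← hij, Matrix.SpecialLinearGroup.coe_mul,
      Matrix.SpecialLinearGroup.coe_mul]
    change A.1 = !![1, 0, A.1 0 2 / A.1 2 2; 0, 1, 0; 0, 0, 1] * !![1, 0, 0; 0, 1, A.1 1 2 / A.1 2 2; 0, 0, 1] *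
      !![1, A.1 0 1 / A.1 1 1, 0; 0, 1, 0; 0, 0, 1] * _
    ext k l
    fin_cases k <;> fin_cases l <;>
      simp [Matrix.mul_apply, Fin.sum_univ_three, h10, h20, h21, h11, h22]
  rw [h]
  exact SB.mul_mem (SB.mul_mem (SB.mul_mem (x13_mem _) (x23_mem _)) (x12_mem _))
    (SB.mul_mem (SB.pow_mem hh_mem _) (SB.pow_mem sc_mem _))

theorem row (A B : S) (i j : Fin 3) : (A * B).1 i j = A.1 i 0 * B.1 0 j + A.1 i 1 * B.1 1 j + A.1 i 2 * B.1 2 j := by
  rw [Matrix.SpecialLinearGroup.coe_mul, Matrix.mul_apply, Fin.sum_univ_three]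

theorem dbl (x : F4) : x + x = 0 := by revert x; decide

theorem mem_of_col (A : S) (h10 : A.1 1 0 = 0) (h20 : A.1 2 0 = 0) : A ∈ SB := by
  by_cases h21 : A.1 2 1 = 0
  · exact mem_up A h10 h20 h21
  · have h1 : (wb * (x23 (A.1 1 1 / A.1 2 1) * A)) ∈ SB := by
      apply mem_up
      · rw [row, row, row, row]
        simp [wb, x23, h10, h20]
      · rw [row, row, row, row]
        simp [wb, x23, h10, h20]
      · rw [row, row, row, row]
        simp [wb, x23, h21, dbl]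
    have h2 := SB.mul_mem (SB.inv_mem wb_mem) h1
    rw [inv_mul_cancel_left] at h2
    have h3 := SB.mul_mem (SB.inv_mem (x23_mem (A.1 1 1 / A.1 2 1))) h2
    rwa [inv_mul_cancel_left] at h3

/-- the double coset decomposition -/
theorem dec (A : S) : A ∈ SB ∨ ∃ B ∈ SB, wa * (B * A) ∈ SB := by
  by_cases h20 : A.1 2 0 = 0
  · by_cases h10 : A.1 1 0 = 0
    · left; exact mem_of_col A h10 h20
    · right
      refine ⟨x12 (A.1 0 0 / A.1 1 0), x12_mem _, ?_⟩
      apply mem_of_col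
      · rw [row, row, row, row]
        simp [wa, x12, h10, dbl]
      · rw [row, row, row, row]
        simp [wa, x12, h20]
  · right
    refine ⟨wb * (x23 (A.1 1 0 / A.1 2 0) * x13 (A.1 0 0 / A.1 2 0)),
      SB.mul_mem wb_mem (SB.mul_mem (x23_mem _) (x13_mem _)), ?_⟩
    apply mem_of_col
    · simp only [row]
      simp [wa, wb, x23, x13, h20, dbl]
    · simp only [row]
      simp [wa, wb, x23, x13, h20, dbl]

/-- generation -/
theorem gen_top (N : Subgroup S) (h1 : ∀ s, x12 s ∈ N) (h2 : ∀ s, x23 s ∈ N) (h3 : wa ∈ N) (h4 : wb ∈ N)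
    (h5 : sc ∈ N) : N = ⊤ := by
  have h13 : ∀ s, x13 s ∈ N := by
    intro s
    have : x13 s = wb * x12 s * wb⁻¹ := by rw [wb_x12, mul_assoc, mul_inv_cancel, mul_one]
    rw [this]; exact N.mul_mem (N.mul_mem h4 (h1 s)) (N.inv_mem h4)
  have hhh : hh ∈ N := by
    have : hh = wa * (x12 F4.v * (wa * x12 F4.w * wa) * x12 F4.v) := by apply Subtype.ext; decide
    rw [this]
    exact N.mul_mem h3 (N.mul_mem (N.mul_mem (h1 _) (N.mul_mem (N.mul_mem h3 (h1 _)) h3)) (h1 _))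
  have hSB : SB ≤ N := by
    unfold SB
    rw [Subgroup.closure_le]
    rintro x (((⟨s, rfl⟩ | ⟨s, rfl⟩) | ⟨s, rfl⟩) | (rfl | rfl | rfl))
    · exact h1 s
    · exact h13 s
    · exact h2 s
    · exact hhh
    · exact h4
    · exact h5
  rw [eq_top_iff]
  intro A _
  rcases dec A with h | ⟨B, hB, h⟩
  · exact hSB h
  · have h6 := N.mul_mem (N.inv_mem h3) (hSB h)
    rw [inv_mul_cancel_left] at h6
    have h7 := N.mul_mem (N.inv_mem (hSB hB)) h6
    rwa [inv_mul_cancel_left] at h7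

end Cfsg.Agent.H840.L34
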