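import Cfsg.Agent.H840.L34.Conf
import Cfsg.Agent.H840.L34.Dec

/-!
# The overgroup `2.M22` of `2.L3(4)` : group theory
-/

set_option autoImplicit false
set_option linter.constructorNameAsVariable false

namespace Cfsg.Agent.H840.L34

open Cfsg.Agent.Lib.FieldFour

/-- generation of the cover -/
theorem P_gen' {G : Type*} [Group G] {C : Cv G} (c : Conf C) {a b : G} (ha : C.π a = q wa) (hb : C.π b = q wb)
    (N : Subgroup G) (h1 : ∀ s, c.X12 s ∈ N) (h2 : ∀ s, c.X23 s ∈ N)
    (h3 : a ∈ N) (h4 : b ∈ N) (hz : C.z ∈ N) : N = ⊤ := by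
  have key : (N.map C.π).comap q = ⊤ := by
    apply gen_top
    · intro s; exact ⟨_, h1 s, c.f12.lift s⟩
    · intro s; exact ⟨_, h2 s, c.f23.lift s⟩
    · exact ⟨_, h3, ha⟩
    · exact ⟨_, h4, hb⟩
    · exact ⟨1, N.one_mem, (map_one _).trans q_sc.symm⟩
  rw [eq_top_iff]
  intro x _
  obtain ⟨A, hA⟩ := QuotientGroup.mk'_surjective (Subgroup.center S) (C.π x)
  have h5 : A ∈ (N.map C.π).comap q := by rw [key]; trivial
  obtain ⟨y, hy, hyA⟩ := h5
  have h6 : C.π x = C.π y := by rw [hyA, ← hA]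
  rcases C.eq_or h6 with h | h
  · rw [h]; exact hy
  · rw [h]; exact N.mul_mem hz hy

variable {Γ : Type*} [Group Γ] {P : Subgroup Γ} {C : Cv P}

/-- the relations between `P` and the two outer elements -/
structure Ov (c : Conf C) (a b : P) (g u : Γ) : Prop where
  aπ : C.π a = q wa
  bπ : C.π b = q wb
  zc : ∀ x : Γ, (C.z : Γ) * x = x * C.z
  gg : g * g = 1
  g12 : ∀ t, g * (c.X12 t : Γ) = c.X12 (t * t) * g
  g13 : ∀ t, g * (c.X13 t : Γ) = c.X13 (t * t) * g
  g23 : ∀ t, g * (c.X23 t : Γ) = c.X23 (t * t) * c.X13 t * g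
  gh : (c.h : Γ) * g * c.h = g
  ga : g * a * g = a * g * (a : Γ)
  gb : g * b = b * g
  uu : u * u = 1
  ug : u * g = g * u
  u12 : ∀ t, u * (c.X12 t : Γ) = c.X12 (t * t) * u
  u13 : ∀ t, u * (c.X13 t : Γ) = c.X13 (t * t) * u
  u23 : ∀ t, u * (c.X23 t : Γ) = c.X23 (t * t) * u
  uh : (c.h : Γ) * u * c.h = u
  ua : u * a = a * u
  ub : u * b = b * u

namespace Ov

variable {c : Conf C} {a b : P} {g u : Γ} (O : Ov c a b g u)

include O in
theorem ginv : g⁻¹ = g := inv_eq_of_mul_eq_one_right O.gg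

include O in
theorem uinv : u⁻¹ = u := inv_eq_of_mul_eq_one_right O.uu

include O in
/-- lifts of the elements of `SB` -/
theorem conj_mem {s : S} (hs : s ∈ SB) : ∀ x : P, C.π x = q s → g * x * g ∈ P := by
  have key : ∀ x y : P, C.π x = C.π y → g * x * g ∈ P → g * y * g ∈ P := by
    intro x y hxy hx
    rcases C.eq_or hxy.symm with h | h
    · rw [h]; exact hx
    · rw [h]
      have : g * ((C.z * x : P) : Γ) * g = C.z * (g * x * g) := by
        rw [Subgroup.coe_mul]
        calc g * ((C.z : Γ) * x) * g = (g * C.z) * x * g := by group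
          _ = (C.z * g) * x * g := by rw [← O.zc]
          _ = _ := by group
      rw [this]
      exact P.mul_mem C.z.2 hx
  unfold SB at hs
  induction hs using Subgroup.closure_induction with
  | mem s hs =>
    rcases hs with ((⟨t, rfl⟩ | ⟨t, rfl⟩) | ⟨t, rfl⟩) | (rfl | rfl | rfl)
    · intro x hx
      apply key (c.X12 t) x ((c.f12.lift t).trans hx.symm)
      rw [O.g12, mul_assoc, O.gg, mul_one]
      exact (c.X12 (t * t)).2
    · intro x hx
      apply key (c.X13 t) x ((c.f13.lift t).trans hx.symm)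
      rw [O.g13, mul_assoc, O.gg, mul_one]
      exact (c.X13 (t * t)).2
    · intro x hx
      apply key (c.X23 t) x ((c.f23.lift t).trans hx.symm)
      rw [O.g23, mul_assoc, O.gg, mul_one]
      exact P.mul_mem (c.X23 (t * t)).2 (c.X13 t).2
    · intro x hx
      apply key c.h x (c.hπ.trans hx.symm)
      have h1 : g * c.h * g = (c.h : Γ)⁻¹ := by
        have h2 := O.gh
        have h3 : (c.h : Γ) * (g * c.h * g) = 1 := by
          calc (c.h : Γ) * (g * c.h * g) = (c.h * g * c.h) * g := by group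
            _ = 1 := by rw [h2, O.gg]
        exact eq_inv_of_mul_eq_one_right h3
      rw [h1]
      exact P.inv_mem c.h.2
    · intro x hx
      apply key b x (O.bπ.trans hx.symm)
      rw [O.gb, mul_assoc, O.gg, mul_one]
      exact b.2
    · intro x hx
      apply key 1 x ((map_one _).trans (q_sc.symm.trans hx.symm))
      rw [Subgroup.coe_one, mul_one, O.gg]
      exact P.one_mem
  | one =>
    intro x hx
    apply key 1 x ((map_one _).trans ((map_one q).symm.trans hx.symm))
    rw [Subgroup.coe_one, mul_one, O.gg]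
    exact P.one_mem
  | mul s t _ _ hs ht =>
    intro x hx
    obtain ⟨y, hy⟩ := C.exists_lift s
    have h1 : C.π (y⁻¹ * x) = q t := by
      rw [map_mul, map_inv, hy, hx, map_mul, inv_mul_cancel_left]
    have h2 := P.mul_mem (hs y hy) (ht _ h1)
    have h3 : g * y * g * (g * ((y⁻¹ * x : P) : Γ) * g) = g * x * g := by
      rw [Subgroup.coe_mul, Subgroup.coe_inv]
      calc g * (y : Γ) * g * (g * ((y : Γ)⁻¹ * x) * g) = g * y * (g * g) * ((y : Γ)⁻¹ * x) * g := by group
        _ = g * x * g := by rw [O.gg]; group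
    rwa [h3] at h2
  | inv s _ hs =>
    intro x hx
    have h1 : C.π x⁻¹ = q s := by rw [map_inv, hx, ← map_inv, inv_inv]
    have h2 := P.inv_mem (hs _ h1)
    have h3 : (g * ((x⁻¹ : P) : Γ) * g)⁻¹ = g * x * g := by
      rw [mul_inv_rev, mul_inv_rev, O.ginv, Subgroup.coe_inv, inv_inv]; group
    rwa [h3] at h2

/-- `P ∪ P g P` -/
def QS (P : Subgroup Γ) (g : Γ) : Set Γ := {x | x ∈ P ∨ ∃ p ∈ P, ∃ r ∈ P, x = p * g * r}

theorem left_mem {x y : Γ} (hx : x ∈ P) (hy : y ∈ QS P g) : x * y ∈ QS P g := by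
  rcases hy with hy | ⟨p, hp, r, hr, rfl⟩
  · exact Or.inl (P.mul_mem hx hy)
  · exact Or.inr ⟨x * p, P.mul_mem hx hp, r, hr, by group⟩

theorem right_mem {x y : Γ} (hx : x ∈ QS P g) (hy : y ∈ P) : x * y ∈ QS P g := by
  rcases hx with hx | ⟨p, hp, r, hr, rfl⟩
  · exact Or.inl (P.mul_mem hx hy)
  · exact Or.inr ⟨p, hp, r * y, P.mul_mem hr hy, by group⟩

include O in
/-- the key closure property -/
theorem key (x : P) : g * x * g ∈ QS P g := by
  obtain ⟨A, hA⟩ := QuotientGroup.mk'_surjective (Subgroup.center S) (C.π x)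
  rcases dec A with h | ⟨B, hB, h⟩
  · exact Or.inl (O.conj_mem h x hA.symm)
  · obtain ⟨β, hβ⟩ := C.exists_lift B
    have h1 : C.π (a * (β * x)) = q (wa * (B * A)) := by
      rw [map_mul, map_mul, O.aπ, hβ, ← hA, map_mul, map_mul]
    have h2 := O.conj_mem h _ h1
    have h3 := O.conj_mem (SB.inv_mem hB) β⁻¹ (by rw [map_inv, hβ, map_inv])
    have haa : (a : Γ) * a = 1 := by
      have := congrArg Subtype.val (Conf.sq_a O.aπ)
      exact this
    have h4 : g * (x : Γ) * g = (g * ((β⁻¹ : P) : Γ) * g) * ((g * a * g) * (g * ((a * (β * x) : P) : Γ) * g)) := by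
      rw [Subgroup.coe_mul, Subgroup.coe_mul, Subgroup.coe_inv]
      calc g * (x : Γ) * g = g * (β : Γ)⁻¹ * 1 * 1 * (β * x) * g := by group
        _ = g * (β : Γ)⁻¹ * (g * g) * ((a : Γ) * a) * (β * x) * g := by rw [O.gg, haa]
        _ = g * (β : Γ)⁻¹ * (g * g) * (a * 1 * a) * (β * x) * g := by rw [mul_one]
        _ = g * (β : Γ)⁻¹ * (g * g) * (a * (g * g) * a) * (β * x) * g := by rw [O.gg]
        _ = _ := by group
    rw [h4]
    apply left_mem h3
    rw [O.ga]
    exact right_mem (Or.inr ⟨a, a.2, a, a.2, rfl⟩) h2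

include O in
theorem g_mul {x : Γ} (hx : x ∈ QS P g) : g * x ∈ QS P g := by
  rcases hx with hx | ⟨p, hp, r, hr, rfl⟩
  · exact Or.inr ⟨1, P.one_mem, x, hx, by group⟩
  · have := right_mem (O.key ⟨p, hp⟩) hr
    have h2 : g * (p * g * r) = g * p * g * r := by group
    rw [h2]; exact this

/-- the group `2.M22` -/
def Q (O : Ov c a b g u) : Subgroup Γ where
  carrier := QS P g
  one_mem' := Or.inl P.one_mem
  mul_mem' := by
    intro x y hx hy
    rcases hx with hx | ⟨p, hp, r, hr, rfl⟩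
    · exact left_mem hx hy
    · rw [mul_assoc, mul_assoc]
      exact left_mem hp (O.g_mul (left_mem hr hy))
  inv_mem' := by
    intro x hx
    rcases hx with hx | ⟨p, hp, r, hr, rfl⟩
    · exact Or.inl (P.inv_mem hx)
    · refine Or.inr ⟨r⁻¹, P.inv_mem hr, p⁻¹, P.inv_mem hp, ?_⟩
      rw [mul_inv_rev, mul_inv_rev, O.ginv]; group

theorem mem_Q {x : Γ} : x ∈ O.Q ↔ x ∈ P ∨ ∃ p ∈ P, ∃ r ∈ P, x = p * g * r := Iff.rfl

theorem P_le : P ≤ O.Q := fun _ hx => Or.inl hx

theorem g_mem : g ∈ O.Q := Or.inr ⟨1, P.one_mem, 1, P.one_mem, by group⟩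

include O in
/-- `u` normalises `P` -/
theorem u_conj (x : P) : u * x * u ∈ P := by
  let N : Subgroup P :=
    { carrier := {x | u * x * u ∈ P}
      one_mem' := by
        change u * ((1 : P) : Γ) * u ∈ P
        rw [Subgroup.coe_one, mul_one, O.uu]; exact P.one_mem
      mul_mem' := by
        intro x y hx hy
        change u * ((x * y : P) : Γ) * u ∈ P
        have h3 : u * ((x * y : P) : Γ) * u = (u * x * u) * (u * y * u) := by
          rw [Subgroup.coe_mul]
          calc u * ((x : Γ) * y) * u = u * x * 1 * y * u := by group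
            _ = u * x * (u * u) * y * u := by rw [O.uu]
            _ = _ := by group
        rw [h3]; exact P.mul_mem hx hy
      inv_mem' := by
        intro x hx
        change u * ((x⁻¹ : P) : Γ) * u ∈ P
        have h3 : u * ((x⁻¹ : P) : Γ) * u = (u * x * u)⁻¹ := by
          rw [mul_inv_rev, mul_inv_rev, O.uinv, Subgroup.coe_inv]; group
        rw [h3]; exact P.inv_mem hx }
  have hN : N = ⊤ := by
    apply P_gen' c O.aπ O.bπ
    · intro s
      change u * (c.X12 s : Γ) * u ∈ P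
      rw [O.u12, mul_assoc, O.uu, mul_one]; exact (c.X12 _).2
    · intro s
      change u * (c.X23 s : Γ) * u ∈ P
      rw [O.u23, mul_assoc, O.uu, mul_one]; exact (c.X23 _).2
    · change u * (a : Γ) * u ∈ P
      rw [O.ua, mul_assoc, O.uu, mul_one]; exact a.2
    · change u * (b : Γ) * u ∈ P
      rw [O.ub, mul_assoc, O.uu, mul_one]; exact b.2
    · change u * (C.z : Γ) * u ∈ P
      rw [← O.zc, mul_assoc, O.uu, mul_one]; exact C.z.2
  have : x ∈ N := by rw [hN]; trivial
  exact this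

include O in
theorem u_conj_Q {x : Γ} (hx : x ∈ O.Q) : u * x * u ∈ O.Q := by
  rcases hx with hx | ⟨p, hp, r, hr, rfl⟩
  · exact Or.inl (O.u_conj ⟨x, hx⟩)
  · refine Or.inr ⟨u * p * u, O.u_conj ⟨p, hp⟩, u * r * u, O.u_conj ⟨r, hr⟩, ?_⟩
    calc u * (p * g * r) * u = u * p * 1 * g * 1 * r * u := by group
      _ = u * p * (u * u) * g * (u * u) * r * u := by rw [O.uu]
      _ = (u * p * u) * (u * g * u) * (u * r * u) := by group
      _ = (u * p * u) * g * (u * r * u) := by rw [O.ug, mul_assoc g, O.uu, mul_one]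

end Ov

end Cfsg.Agent.H840.L34
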