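import Cfsg.Agent.H840.L34.Fix

/-!
# Ten-dimensional representations of double covers of `PSL_3(4)` : the monomial basis
-/

set_option autoImplicit false
set_option linter.constructorNameAsVariable false

namespace Cfsg.Agent.H840.L34

open Cfsg.Agent.Lib.FieldFour

variable {G : Type*} [Group G] {C : Cv G}
variable {F : Type*} [Field F] {V : Type*} [AddCommGroup V] [Module F V]

/-- good weights -/
abbrev Gd (i j : F4) : Prop := i * j = 0 ∨ i * j = 1

/-- the data for the basis -/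
structure Dt (C : Cv G) (c : Conf C) (ρ : G →* Module.End F V) : Prop where
  R : RH C ρ
  e1 : c.e 1 = 1

theorem d1 : ∀ s j : F4, s + j * j = (j + 0 * s + s * s) * (j + 0 * s + s * s) := by decide
theorem d2 : ∀ x i : F4, i ≠ 0 → x = 0 ∨ x = i ∨ x = F4.w * i ∨ x = F4.v * i := by decide
theorem d3 : ∀ i s k : F4, i * (s + k) + (s + k) * (s + k) = (i * k + k * k) + i * s + s * s := by decide
theorem d4 : ∀ i j : F4, i ≠ 0 → Gd i j → j = i * (if j = 0 then 0 else F4.w * i) +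
    (if j = 0 then 0 else F4.w * i) * (if j = 0 then 0 else F4.w * i) := by decide
theorem d5 : ∀ i : F4, i ≠ 0 → i * (F4.w * i) + F4.w * i * (F4.w * i) ≠ 0 := by decide
theorem d6 : ∀ i : F4, i ≠ 0 → i * (F4.v * i) + F4.v * i * (F4.v * i) ≠ 0 := by decide
theorem d7 : ∀ i k : F4, (F4.v * i) * (F4.v * k) + (F4.v * k) * (F4.v * k) = F4.w * (i * k + k * k) := by decide

theorem d8 : ∀ j : F4, (0 : F4) + 0 * (j * j) + j * j * (j * j) = j := by decide
theorem d9 : ∀ i : F4, F4.w * (F4.v * i) = i := by decide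

namespace Dt

variable {ρ : G →* Module.End F V} {c : Conf C}

/-- the vector of weight `(i, 0)` -/
def uu (ρ : G →* Module.End F V) (c : Conf C) (a : G) (v0 : V) (i : F4) : V := ρ a (ρ (c.X12 (i * i)) v0)

/-- the weight vectors -/
def vv (ρ : G →* Module.End F V) (c : Conf C) (a : G) (v0 : V) (i j : F4) : V :=
  if i = 0 then ρ (c.X12 (j * j)) v0 else
    ρ (c.X12 (if j = 0 then 0 else F4.w * i)) (uu ρ c a v0 i)

variable (D : Dt C c ρ) {a : G} (ha : RH.IsA ρ C a) {v0 : V} (hv : v0 ∈ W (RH.Ta ρ c) (0, 0))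

theorem vv_zero (j : F4) : vv ρ c a v0 0 j = ρ (c.X12 (j * j)) v0 := if_pos rfl

theorem vv_ne {i : F4} (hi : i ≠ 0) (j : F4) : vv ρ c a v0 i j =
    ρ (c.X12 (if j = 0 then 0 else F4.w * i)) (uu ρ c a v0 i) := if_neg hi

theorem vv_ne_zero {i : F4} (hi : i ≠ 0) : vv ρ c a v0 i 0 = uu ρ c a v0 i := by
  rw [vv_ne hi, if_pos rfl, c.f12.zero, map_one]; rfl

include D hv in
theorem mem_0 (j : F4) : ρ (c.X12 (j * j)) v0 ∈ W (RH.Ta ρ c) (0, j) := by
  have h := D.R.map_12n c D.e1 (j * j) hv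
  rwa [d8] at h

include D ha hv in
theorem mem_uu (i : F4) : uu ρ c a v0 i ∈ W (RH.Ta ρ c) (i, 0) := RH.map_a c ha.π (D.mem_0 hv i)

include D ha hv in
theorem mem_vv {i j : F4} (hg : Gd i j) : vv ρ c a v0 i j ∈ W (RH.Ta ρ c) (i, j) := by
  by_cases hi : i = 0
  · subst hi
    rw [vv_zero]; exact D.mem_0 hv j
  · rw [vv_ne hi]
    have h := D.R.map_12n c D.e1 (if j = 0 then 0 else F4.w * i) (D.mem_uu ha hv i)
    rwa [zero_add, ← d4 i j hi hg] at h

theorem ne_of {g : G} {v : V} (h : v ≠ 0) : ρ g v ≠ 0 := by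
  intro h0
  apply h
  rw [← RH.inv_apply (ρ := ρ) g v, h0, map_zero]

theorem ne_vv (h0 : v0 ≠ 0) (i j : F4) : vv ρ c a v0 i j ≠ 0 := by
  by_cases hi : i = 0
  · subst hi
    rw [vv_zero]; exact ne_of h0
  · rw [vv_ne hi]; exact ne_of (ne_of (ne_of h0))

include D ha hv in
theorem x_uu {i : F4} (hi : i ≠ 0) (x : F4) : ρ (c.X12 x) (uu ρ c a v0 i) = vv ρ c a v0 i (i * x + x * x) := by
  have hf := D.R.fix_12 c D.e1 hi _ (D.mem_uu ha hv i)
  rcases d2 x i hi with rfl | rfl | rfl | rfl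
  · rw [mul_zero, mul_zero, zero_add, vv_ne_zero hi, c.f12.zero, map_one]; rfl
  · have e : x * x + x * x = 0 := by clear hi hf; revert x; decide
    rw [hf, e, vv_ne_zero hi]
  · rw [vv_ne hi, if_neg (d5 i hi)]
  · rw [vv_ne hi, if_neg (d6 i hi)]
    have e : F4.v * i = F4.w * i + i := by clear hi hf; revert i; decide
    rw [e, c.f12.add, RH.mul_apply, hf]

include D ha hv in
/-- the action of `X12` -/
theorem x_vv (s : F4) {i j : F4} (hg : Gd i j) :
    ρ (c.X12 s) (vv ρ c a v0 i j) = vv ρ c a v0 i (j + i * s + s * s) := by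
  by_cases hi : i = 0
  · subst hi
    rw [vv_zero, vv_zero, ← RH.mul_apply, ← c.f12.add, ← d1]
  · rw [vv_ne hi, ← RH.mul_apply, ← c.f12.add, D.x_uu ha hv hi, d3, ← d4 i j hi hg]

include D hv in
theorem h_0 (j : F4) : ρ c.h (ρ (c.X12 (j * j)) v0) = ρ (c.X12 ((F4.w * j) * (F4.w * j))) v0 := by
  rw [← RH.conj_apply (c.f12.conj (j * j)), D.R.fix_h c D.e1 hv]
  congr 3
  revert j; decide

include D ha hv in
theorem h_uu (i : F4) : ρ c.h (uu ρ c a v0 i) = uu ρ c a v0 (F4.v * i) := by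
  unfold uu
  have e1 : a * c.h⁻¹ * a⁻¹ = c.h := by
    have := c.conj_h_a ha.π
    have h2 : a * c.h⁻¹ * a⁻¹ = (a * c.h * a⁻¹)⁻¹ := by group
    rw [h2, this, inv_inv]
  rw [RH.conj_apply e1]
  congr 1
  have h3 := D.h_0 hv (F4.v * i)
  rw [d9] at h3
  rw [← h3, RH.inv_apply]

include D ha hv in
/-- the action of the torus -/
theorem h_vv {i j : F4} (hg : Gd i j) : ρ c.h (vv ρ c a v0 i j) = vv ρ c a v0 (F4.v * i) (F4.w * j) := by
  by_cases hi : i = 0
  · subst hi
    rw [mul_zero, vv_zero, vv_zero, D.h_0 hv]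
  · have hi' : F4.v * i ≠ 0 := mul_ne_zero (by decide) hi
    rw [vv_ne hi, ← RH.conj_apply (c.f12.conj _), D.h_uu ha hv, D.x_uu ha hv hi', d7, ← d4 i j hi hg]

include D ha hv in
/-- the action of `a` -/
theorem a_vv {i j : F4} (hg : Gd i j) : ρ a (vv ρ c a v0 i j) = vv ρ c a v0 j i := by
  have haa : ∀ v, ρ a (ρ a v) = v := by
    intro v
    rw [← RH.mul_apply, Conf.sq_a ha.π, map_one]; rfl
  by_cases hi : i = 0
  · subst hi
    rw [vv_zero]
    by_cases hj : j = 0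
    · subst hj
      rw [vv_zero, mul_zero, c.f12.zero, map_one]
      exact (D.R.fix_a c D.e1 ha).1 v0 hv
    · rw [vv_ne_zero hj]; rfl
  · by_cases hj : j = 0
    · subst hj
      rw [vv_ne_zero hi, vv_zero]
      exact haa _
    · have h11 : ρ a (vv ρ c a v0 1 1) = vv ρ c a v0 1 1 :=
        (D.R.fix_a c D.e1 ha).2 _ (D.mem_vv ha hv (Or.inr rfl))
      have k1 : ρ c.h (vv ρ c a v0 F4.w F4.v) = vv ρ c a v0 1 1 := D.h_vv ha hv (Or.inr rfl)
      have k2 : ρ c.h (vv ρ c a v0 1 1) = vv ρ c a v0 F4.v F4.w := D.h_vv ha hv (Or.inr rfl)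
      have k3 : ρ a (vv ρ c a v0 F4.v F4.w) = vv ρ c a v0 F4.w F4.v := by
        rw [← k2, ← RH.conj_apply (c.conj_h_a ha.π), h11, ← k1, RH.inv_apply]
      cases i <;> cases j <;> first
        | exact absurd rfl hi
        | exact absurd rfl hj
        | exact h11
        | exact k3
        | (exfalso; revert hg; decide)
        | (change ρ a (vv ρ c a v0 F4.w F4.v) = vv ρ c a v0 F4.v F4.w
           rw [← k3, haa])

end Dt

end Cfsg.Agent.H840.L34
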