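import Cfsg.Agent.H840.L34.Bas

/-!
# Ten-dimensional representations of double covers of `PSL_3(4)` : the second frame
-/

set_option autoImplicit false
set_option linter.constructorNameAsVariable false

namespace Cfsg.Agent.H840.L34

open Cfsg.Agent.Lib.FieldFour

variable {G : Type*} [Group G] {C : Cv G}
variable {F : Type*} [Field F] {V : Type*} [AddCommGroup V] [Module F V]

theorem g1 : ∀ i s : F4, i ≠ 0 → (i * s + s * s = 0 ∨ i * s + s * s = i⁻¹) := by decide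
theorem g2 : ∀ i s : F4, i ≠ 0 → i * s + s * s = 0 → i⁻¹ * s = 0 ∨ i⁻¹ * s = 1 := by decide
theorem g3 : ∀ i s : F4, i ≠ 0 → i * s + s * s = i⁻¹ → i⁻¹ * s = F4.w ∨ i⁻¹ * s = F4.v := by decide
theorem g4 : ∀ i j : F4, i ≠ 0 → Gd i j → j ≠ 0 → j = i⁻¹ := by decide
theorem g5 : ∀ s b : F4, b + s * s + 0 * s + s * s = b := by decide
theorem g6 : ∀ i : F4, Gd i i⁻¹ := by decide
theorem g7 : ∀ i : F4, i + i = 0 := by decide
theorem g8 : ∀ j b : F4, j * j * (F4.v * b) = F4.w * j * (F4.w * j) * b := by decide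

namespace Dt

variable {ρ : G →* Module.End F V} {c : Conf C}

/-- the second frame -/
def ff (ρ : G →* Module.End F V) (c : Conf C) (a : G) (v0 : V) (i j : F4) : V :=
  if i = 0 then ∑ b, ps F (j * j * b) • vv ρ c a v0 0 b else
    vv ρ c a v0 i 0 + (if j = 0 then (1 : F) else -1) • vv ρ c a v0 i i⁻¹

theorem ff_zero (a : G) (v0 : V) (j : F4) : ff ρ c a v0 0 j = ∑ b, ps F (j * j * b) • vv ρ c a v0 0 b := if_pos rfl

theorem ff_ne (a : G) (v0 : V) {i : F4} (hi : i ≠ 0) (j : F4) : ff ρ c a v0 i j =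
    vv ρ c a v0 i 0 + (if j = 0 then (1 : F) else -1) • vv ρ c a v0 i i⁻¹ := if_neg hi

variable (D : Dt C c ρ) {a : G} (ha : RH.IsA ρ C a) {v0 : V} (hv : v0 ∈ W (RH.Ta ρ c) (0, 0))

include D ha hv in
theorem mem_ff {i j : F4} (hg : Gd i j) : ff ρ c a v0 i j ∈ W (RH.Tb ρ c) (i, j) := by
  rw [RH.mem_b]
  by_cases hi : i = 0
  · subst hi
    rw [ff_zero]
    constructor
    · intro t
      rw [map_sum, Finset.smul_sum]
      refine Finset.sum_congr rfl fun b _ => ?_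
      rw [map_smul, ((RH.mem_a c).1 (D.mem_vv ha hv (Or.inl (zero_mul b)))).1 t, smul_comm]
    · intro s
      rw [map_sum, Finset.smul_sum, ← Equiv.sum_comp (Equiv.addRight (s * s))
        (fun b => ps F (j * s) • ps F (j * j * b) • vv ρ c a v0 0 b)]
      refine Finset.sum_congr rfl fun b _ => ?_
      rw [map_smul, D.x_vv ha hv s (Or.inl (zero_mul b)), Equiv.coe_addRight, smul_smul]
      congr 1
      · rw [mul_add, ps_add, mul_left_comm, show j * j * (s * s) = (j * s) * (j * s) by ring, ps_sq, ps_mul_self,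
          mul_one]
      · rw [zero_mul, add_zero]
  · rw [ff_ne _ _ hi]
    have m1 := D.mem_vv ha hv (i := i) (j := 0) (Or.inl (mul_zero i))
    have m2 := D.mem_vv ha hv (g6 i)
    constructor
    · intro t
      rw [map_add, map_smul, ((RH.mem_a c).1 m1).1, ((RH.mem_a c).1 m2).1, smul_add, smul_comm]
    · intro s
      rw [map_add, map_smul, D.x_vv ha hv s (Or.inl (mul_zero i)), D.x_vv ha hv s (g6 i), zero_add]
      rcases g1 i s hi with h | h
      · rw [h, add_assoc, h, add_zero]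
        by_cases hj : j = 0
        · rw [if_pos hj, hj, zero_mul, ps_zero, one_smul, one_smul]
        · rw [if_neg hj, g4 i j hi hg hj]
          rcases g2 i s hi h with h' | h'
          · rw [h', ps_zero, one_smul]
          · rw [h', ps_one, one_smul]
      · rw [h, add_assoc, h, g7]
        by_cases hj : j = 0
        · rw [if_pos hj, hj, zero_mul, ps_zero, one_smul, one_smul, one_smul, add_comm]
        · rw [if_neg hj, g4 i j hi hg hj]
          rcases g3 i s hi h with h' | h'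
          · rw [h', ps_w, neg_one_smul, neg_one_smul, neg_one_smul, neg_add, neg_neg, add_comm]
          · rw [h', ps_v, neg_one_smul, neg_one_smul, neg_one_smul, neg_add, neg_neg, add_comm]

include D ha hv in
theorem h_ff {i j : F4} (hg : Gd i j) : ρ c.h (ff ρ c a v0 i j) = ff ρ c a v0 (F4.v * i) (F4.w * j) := by
  by_cases hi : i = 0
  · subst hi
    rw [mul_zero, ff_zero, ff_zero, map_sum, ← Equiv.sum_comp (Equiv.mulLeft₀ F4.w (by decide))
      (fun b => ps F (F4.w * j * (F4.w * j) * b) • vv ρ c a v0 0 b)]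
    refine Finset.sum_congr rfl fun b _ => ?_
    rw [map_smul, D.h_vv ha hv (Or.inl (zero_mul b)), mul_zero]
    change _ = ps F (F4.w * j * (F4.w * j) * (F4.w * b)) • vv ρ c a v0 0 (F4.w * b)
    rw [← g8]
    congr 2
    rw [← mul_assoc F4.v F4.w b]
    congr 1
  · have hi' : F4.v * i ≠ 0 := mul_ne_zero (by decide) hi
    rw [ff_ne _ _ hi, ff_ne _ _ hi', map_add, map_smul, D.h_vv ha hv (Or.inl (mul_zero i)), D.h_vv ha hv (g6 i),
      mul_zero]
    have e1 : F4.w * i⁻¹ = (F4.v * i)⁻¹ := by clear hg hi hi'; revert i; decide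
    rw [e1]
    congr 2
    by_cases hj : j = 0
    · rw [hj, mul_zero]
    · rw [if_neg hj, if_neg (mul_ne_zero (by decide) hj)]

include D ha hv in
theorem ff_ne_zero (h0 : v0 ≠ 0) {i j : F4} : ff ρ c a v0 i j ≠ 0 := by
  intro h
  by_cases hi : i = 0
  · subst hi
    have h1 := congrArg (pr (RH.Ta ρ c) (0, 0)) h
    rw [map_zero, ff_zero, map_sum, Finset.sum_eq_single 0] at h1
    · rw [map_smul, pr_of_mem _ _ (D.mem_vv ha hv (Or.inl (zero_mul 0))), if_pos rfl, mul_zero, ps_zero, one_smul] at h1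
      rcases smul_eq_zero.1 h1 with h3 | h3
      · exact sixteen_ne D.R.two h3
      · exact ne_vv h0 _ _ h3
    · intro b _ hb
      rw [map_smul, pr_of_mem _ _ (D.mem_vv ha hv (Or.inl (zero_mul b))), if_neg, smul_zero]
      intro h2
      exact hb (Prod.ext_iff.1 h2).2.symm
    · intro h2; exact absurd (Finset.mem_univ _) h2
  · have h1 := congrArg (pr (RH.Ta ρ c) (i, 0)) h
    have hne : ¬ ((i, (0 : F4)) = (i, i⁻¹)) := fun h2 => inv_ne_zero hi (Prod.ext_iff.1 h2).2.symm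
    rw [map_zero, ff_ne _ _ hi, map_add, map_smul, pr_of_mem _ _ (D.mem_vv ha hv (Or.inl (mul_zero i))), if_pos rfl,
      pr_of_mem _ _ (D.mem_vv ha hv (g6 i)), if_neg hne, smul_zero, add_zero] at h1
    rcases smul_eq_zero.1 h1 with h3 | h3
    · exact sixteen_ne D.R.two h3
    · exact ne_vv h0 _ _ h3

include D ha hv in
/-- the weight spaces of the second group -/
theorem fr_b (h0 : v0 ≠ 0) (k : Om) : Module.finrank F (W (RH.Tb ρ c) k.1) = 1 := by
  have := D.R.fin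
  have hpos : ∀ {i j : F4}, Gd i j → 1 ≤ Module.finrank F (W (RH.Tb ρ c) (i, j)) := by
    intro i j hg
    rw [Nat.succ_le_iff, Module.finrank_pos_iff]
    exact ⟨⟨⟨_, D.mem_ff ha hv hg⟩, 0, fun h => D.ff_ne_zero ha hv h0 (congrArg Subtype.val h)⟩⟩
  have tot : 10 = ∑ i, ∑ j, Module.finrank F (W (RH.Tb ρ c) (i, j)) := by
    rw [← D.R.dim, finrank_eq (RH.rpb (ρ := ρ) c) D.R.two, Fintype.sum_prod_type]
  simp only [sum_F4] at tot
  have b1 := hpos (i := F4.o) (j := F4.o) (by decide)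
  have b2 := hpos (i := F4.o) (j := F4.i) (by decide)
  have b3 := hpos (i := F4.o) (j := F4.w) (by decide)
  have b4 := hpos (i := F4.o) (j := F4.v) (by decide)
  have b5 := hpos (i := F4.i) (j := F4.o) (by decide)
  have b6 := hpos (i := F4.i) (j := F4.i) (by decide)
  have b7 := hpos (i := F4.w) (j := F4.o) (by decide)
  have b8 := hpos (i := F4.w) (j := F4.v) (by decide)
  have b9 := hpos (i := F4.v) (j := F4.o) (by decide)
  have b0 := hpos (i := F4.v) (j := F4.w) (by decide)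
  change 10 = Module.finrank F (W (RH.Tb ρ c) (F4.o, F4.o)) + Module.finrank F (W (RH.Tb ρ c) (F4.o, F4.i)) +
    Module.finrank F (W (RH.Tb ρ c) (F4.o, F4.w)) + Module.finrank F (W (RH.Tb ρ c) (F4.o, F4.v)) +
    (Module.finrank F (W (RH.Tb ρ c) (F4.i, F4.o)) + Module.finrank F (W (RH.Tb ρ c) (F4.i, F4.i)) +
    Module.finrank F (W (RH.Tb ρ c) (F4.i, F4.w)) + Module.finrank F (W (RH.Tb ρ c) (F4.i, F4.v))) +
    (Module.finrank F (W (RH.Tb ρ c) (F4.w, F4.o)) + Module.finrank F (W (RH.Tb ρ c) (F4.w, F4.i)) +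
    Module.finrank F (W (RH.Tb ρ c) (F4.w, F4.w)) + Module.finrank F (W (RH.Tb ρ c) (F4.w, F4.v))) +
    (Module.finrank F (W (RH.Tb ρ c) (F4.v, F4.o)) + Module.finrank F (W (RH.Tb ρ c) (F4.v, F4.i)) +
    Module.finrank F (W (RH.Tb ρ c) (F4.v, F4.w)) + Module.finrank F (W (RH.Tb ρ c) (F4.v, F4.v))) at tot
  obtain ⟨⟨i, j⟩, hk⟩ := k
  change Module.finrank F (W (RH.Tb ρ c) (i, j)) = 1
  cases i <;> cases j <;> first
    | (exfalso; revert hk; decide)
    | omega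

variable {b : G} (hb : RH.IsB ρ C b)

include D ha hv hb in
theorem fix_b (h0 : v0 ≠ 0) : (∀ v ∈ W (RH.Tb ρ c) (0, 0), ρ b v = v) ∧ ∀ v ∈ W (RH.Tb ρ c) (1, 1), ρ b v = v := by
  have hbb : ∀ v, ρ b (ρ b v) = v := by
    intro v
    rw [← RH.mul_apply, Conf.sq_b hb.π, map_one]; rfl
  obtain ⟨k, hk, hc⟩ := coef D.R.two D.R.dim (D.fr_b ha hv h0) (ρ b) hbb
    (fun i => ⟨(i.1.2, i.1.1), by rw [mul_comm]; exact i.2⟩) (fun i v hv => RH.map_b c hb.π hv)
  rw [hb.tr, sum_Om (fun i : Om => if (⟨(i.1.2, i.1.1), _⟩ : Om) = i then k i else 0)] at hk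
  simp only [Subtype.mk.injEq, Prod.mk.injEq, reduceCtorEq, and_self, if_true, if_false,
    zero_add, add_zero] at hk
  have e1 := hc ⟨(0, 0), by decide⟩ rfl
  have e2 := hc ⟨(1, 1), by decide⟩ rfl
  obtain ⟨e3, e4⟩ := sum_two D.R.two e1.1 e2.1 hk.symm
  refine ⟨fun v hv => ?_, fun v hv => ?_⟩
  · rw [e1.2 v hv, e3, one_smul]
  · rw [e2.2 v hv, e4, one_smul]

include D ha hv hb in
/-- the action of `b` on the second frame -/
theorem b_ff (h0 : v0 ≠ 0) : ∃ r : F, r ≠ 0 ∧ ρ b (ff ρ c a v0 0 0) = ff ρ c a v0 0 0 ∧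
    (∀ j, j ≠ 0 → ρ b (ff ρ c a v0 j 0) = r • ff ρ c a v0 0 j) ∧
    (∀ j, j ≠ 0 → ρ b (ff ρ c a v0 0 j) = r⁻¹ • ff ρ c a v0 j 0) ∧
    (∀ j, j ≠ 0 → ρ b (ff ρ c a v0 j j⁻¹) = ff ρ c a v0 j⁻¹ j) := by
  have hbb : ∀ v, ρ b (ρ b v) = v := by
    intro v
    rw [← RH.mul_apply, Conf.sq_b hb.π, map_one]; rfl
  obtain ⟨fx0, fx1⟩ := D.fix_b ha hv hb h0
  have hbh : ∀ v, ρ c.h⁻¹ (ρ b v) = ρ b (ρ c.h v) := RH.conj_apply (c.conj_h_b hb.π)
  obtain ⟨r, hr⟩ := eq_smul (D.fr_b ha hv h0 ⟨(0, 1), by decide⟩) (D.mem_ff ha hv (i := 0) (j := 1) (by decide))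
    (D.ff_ne_zero ha hv h0) (RH.map_b c hb.π (D.mem_ff ha hv (i := 1) (j := 0) (by decide)))
  have hr0 : r ≠ 0 := by
    rintro rfl
    rw [zero_smul] at hr
    exact ne_of (D.ff_ne_zero ha hv h0) hr
  have k1 : ρ c.h (ff ρ c a v0 1 0) = ff ρ c a v0 F4.v 0 := by
    have := D.h_ff ha hv (i := 1) (j := 0) (by decide)
    exact this
  have k2 : ρ c.h (ff ρ c a v0 F4.v 0) = ff ρ c a v0 F4.w 0 := by
    have := D.h_ff ha hv (i := F4.v) (j := 0) (by decide)
    exact this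
  have k3 : ρ c.h (ff ρ c a v0 0 F4.w) = ff ρ c a v0 0 F4.v := by
    have := D.h_ff ha hv (i := 0) (j := F4.w) (by decide)
    exact this
  have k4 : ρ c.h (ff ρ c a v0 0 F4.v) = ff ρ c a v0 0 1 := by
    have := D.h_ff ha hv (i := 0) (j := F4.v) (by decide)
    exact this
  have k5 : ρ c.h (ff ρ c a v0 1 1) = ff ρ c a v0 F4.v F4.w := by
    have := D.h_ff ha hv (i := 1) (j := 1) (by decide)
    exact this
  have k6 : ρ c.h (ff ρ c a v0 F4.w F4.v) = ff ρ c a v0 1 1 := by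
    have := D.h_ff ha hv (i := F4.w) (j := F4.v) (by decide)
    exact this
  have r1 : ρ b (ff ρ c a v0 F4.v 0) = r • ff ρ c a v0 0 F4.v := by
    rw [← k1, ← hbh, hr, map_smul, ← k4, RH.inv_apply]
  have r2 : ρ b (ff ρ c a v0 F4.w 0) = r • ff ρ c a v0 0 F4.w := by
    rw [← k2, ← hbh, r1, map_smul, ← k3, RH.inv_apply]
  have s1 : ∀ j, j ≠ 0 → ρ b (ff ρ c a v0 j 0) = r • ff ρ c a v0 0 j := by
    intro j hj
    cases j
    · exact absurd rfl hj
    · exact hr
    · exact r2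
    · exact r1
  have t1 : ρ b (ff ρ c a v0 1 1) = ff ρ c a v0 1 1 := fx1 _ (D.mem_ff ha hv (by decide))
  have t2 : ρ b (ff ρ c a v0 F4.v F4.w) = ff ρ c a v0 F4.w F4.v := by
    rw [← k5, ← hbh, t1, ← k6, RH.inv_apply]
  have t3 : ρ b (ff ρ c a v0 F4.w F4.v) = ff ρ c a v0 F4.v F4.w := by
    rw [← t2, hbb]
  refine ⟨r, hr0, fx0 _ (D.mem_ff ha hv (by decide)), s1, ?_, ?_⟩
  · intro j hj
    rw [← hbb (ff ρ c a v0 j 0), s1 j hj, map_smul, smul_smul, inv_mul_cancel₀ hr0, one_smul]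
  · intro j hj
    cases j
    · exact absurd rfl hj
    · exact t1
    · exact t3
    · exact t2

end Dt

end Cfsg.Agent.H840.L34
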