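import Cfsg.Agent.H840.L34.Grp
import Cfsg.Agent.ClassicalGeometry.AutPSL.Auto

/-!
# Double covers of `PSL_3(4)` : the configuration of root groups
-/

set_option autoImplicit false

namespace Cfsg.Agent.H840.L34

open Cfsg.Agent.Lib.FieldFour
open Cfsg.Agent.ClassicalGeometry.AutPSL.Auto

variable {G : Type*} [Group G] {C : Cv G}

/-- canonical families of lifts -/
structure Conf (C : Cv G) where
  h : G
  X12 : F4 → G
  X23 : F4 → G
  X13 : F4 → G
  h3 : h * h * h = 1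
  hπ : C.π h = q hh
  f12 : C.Fam h F4.v (fun t => q (x12 t)) X12
  f23 : C.Fam h F4.v (fun t => q (x23 t)) X23
  f13 : C.Fam h F4.w (fun t => q (x13 t)) X13

theorem wa_g : (x12 1 * wa * wb * wa) * x23 1 = wa * (x12 1 * wa * wb * wa) := by apply Subtype.ext; decide
theorem wb_g : (x23 1 * wb) * x23 1 = wb * (x23 1 * wb) := by apply Subtype.ext; decide
theorem x13_g : wa * x23 1 = x13 1 * wa := by apply Subtype.ext; decide
theorem x12_g : (wb * wa) * x23 1 = x12 1 * (wb * wa) := by apply Subtype.ext; decide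

theorem exists_conf (C : Cv G) : Nonempty (Conf C) := by
  obtain ⟨h, hπ, h3⟩ := C.exists_h
  obtain ⟨X12, f12⟩ := C.exists_fam h3 (m := F4.v) (Or.inr rfl) (x := fun t => q (x12 t))
    (fun s t => by rw [x12_add, map_mul]) (fun t => by rw [hπ, ← map_mul, hh_x12, map_mul])
    (fun y hy => C.sq_of_conj x12_g hy)
  obtain ⟨X23, f23⟩ := C.exists_fam h3 (m := F4.v) (Or.inr rfl) (x := fun t => q (x23 t))
    (fun s t => by rw [x23_add, map_mul]) (fun t => by rw [hπ, ← map_mul, hh_x23, map_mul])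
    (fun y hy => C.sq_x23_one hy)
  obtain ⟨X13, f13⟩ := C.exists_fam h3 (m := F4.w) (Or.inl rfl) (x := fun t => q (x13 t))
    (fun s t => by rw [x13_add, map_mul]) (fun t => by rw [hπ, ← map_mul, hh_x13, map_mul])
    (fun y hy => C.sq_of_conj x13_g hy)
  exact ⟨⟨h, X12, X23, X13, h3, hπ, f12, f23, f13⟩⟩

/-- torus elements -/
def tor : F4 → S
  | F4.o => 1
  | F4.i => 1
  | F4.w => hh
  | F4.v => hh * hh

theorem tor_x13 (x : F4) (hx : x ≠ 0) : (tor x * wa) * x23 1 = x13 x * (tor x * wa) := by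
  apply Subtype.ext; revert x; decide

theorem tor_ea (x y : F4) (hx : x ≠ 0) : (Cv.ea x y) * (x21 (y * x⁻¹) * (tor x * wa)) =
    (x21 (y * x⁻¹) * (tor x * wa)) * x23 1 := by
  apply Subtype.ext; revert x y; decide

theorem tor_x23 (y : F4) (hy : y ≠ 0) : tor y⁻¹ * x23 1 = x23 y * tor y⁻¹ := by
  apply Subtype.ext; revert y; decide

theorem tor_eb (x y : F4) (hx : x ≠ 0) : (x12 x * x13 y) * (x23 (y * x⁻¹) * (wb * (tor x * wa))) =
    (x23 (y * x⁻¹) * (wb * (tor x * wa))) * x23 1 := by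
  apply Subtype.ext; revert x y; decide

theorem comm_of_sq {x y : G} (hx : x * x = 1) (hy : y * y = 1) (hxy : (x * y) * (x * y) = 1) : x * y = y * x := by
  have h1 : (x * y)⁻¹ = x * y := inv_eq_of_mul_eq_one_right hxy
  rw [mul_inv_rev, inv_eq_of_mul_eq_one_right hx, inv_eq_of_mul_eq_one_right hy] at h1
  exact h1.symm

namespace Conf

variable (c : Conf C)

theorem comm_a (s t : F4) : c.X23 s * c.X13 t = c.X13 t * c.X23 s := by
  apply comm_of_sq (c.f23.sq s) (c.f13.sq t)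
  by_cases ht : t = 0
  · rw [ht, c.f13.zero, mul_one, c.f23.sq]
  · apply C.sq_of_conj (t := Cv.ea t s) (g := x21 (s * t⁻¹) * (tor t * wa)) (tor_ea t s ht).symm
    rw [map_mul, c.f23.lift, c.f13.lift, ← map_mul]
    congr 1
    apply Subtype.ext; clear ht; revert s t; decide

theorem comm_b (s t : F4) : c.X12 s * c.X13 t = c.X13 t * c.X12 s := by
  apply comm_of_sq (c.f12.sq s) (c.f13.sq t)
  by_cases hs : s = 0
  · rw [hs, c.f12.zero, one_mul, c.f13.sq]
  · apply C.sq_of_conj (t := x12 s * x13 t) (g := x23 (t * s⁻¹) * (wb * (tor s * wa))) (tor_eb s t hs).symm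
    rw [map_mul, c.f12.lift, c.f13.lift, ← map_mul]

/-- the commutator sign -/
def eps (s t : F4) : G := c.X12 s * c.X23 t * c.X12 s * c.X23 t * c.X13 (s * t)

theorem eps_or (s t : F4) : c.eps s t = 1 ∨ c.eps s t = C.z := by
  apply (C.ker _).1
  unfold eps
  rw [map_mul, map_mul, map_mul, map_mul, c.f12.lift, c.f23.lift, c.f13.lift, ← map_mul, ← map_mul, ← map_mul,
    ← map_mul]
  have : x12 s * x23 t * x12 s * x23 t * x13 (s * t) = 1 := by
    apply Subtype.ext; revert s t; decide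
  rw [this, map_one]

theorem eps_comm (s t : F4) (g : G) : c.eps s t * g = g * c.eps s t := by
  rcases c.eps_or s t with h | h
  · rw [h, one_mul, mul_one]
  · rw [h, C.zc]

theorem rel (s t : F4) : c.X12 s * c.X23 t = c.eps s t * (c.X13 (s * t) * (c.X23 t * c.X12 s)) := by
  unfold eps
  have h1 := c.f12.sq s
  have h2 := c.f23.sq t
  have h3 := c.f13.sq (s * t)
  calc c.X12 s * c.X23 t = c.X12 s * c.X23 t * c.X12 s * c.X23 t * (c.X13 (s * t) * c.X13 (s * t)) *
        (c.X23 t * c.X12 s) := by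
        rw [h3, mul_one]
        simp only [mul_assoc]
        rw [← mul_assoc (c.X23 t) (c.X23 t), h2, one_mul, h1, mul_one]
    _ = _ := by simp only [mul_assoc]

theorem eps_add (s t t' : F4) : c.eps s (t + t') = c.eps s t * c.eps s t' := by
  have h1 := c.rel s (t + t')
  have h2 : c.X12 s * c.X23 (t + t') = (c.eps s t * c.eps s t') * (c.X13 (s * (t + t')) * (c.X23 (t + t') * c.X12 s)) := by
    rw [c.f23.add, ← mul_assoc, c.rel s t, mul_assoc, mul_assoc, mul_assoc, c.rel s t', ← mul_assoc (c.X23 t),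
      ← c.eps_comm, mul_assoc (c.eps s t'), ← mul_assoc (c.X13 (s * t)), ← c.eps_comm s t' (c.X13 (s * t)),
      mul_assoc (c.eps s t'), ← mul_assoc (c.eps s t), mul_add, c.f13.add]
    congr 1
    rw [mul_assoc, ← mul_assoc (c.X23 t), c.comm_a t (s * t')]
    simp only [mul_assoc]
  exact mul_right_cancel (h1.symm.trans h2)

theorem eps_conj (s t : F4) : c.eps (F4.v * s) (F4.v * t) = c.eps s t := by
  have h1 : c.h * c.eps s t * c.h⁻¹ = c.eps s t := by
    rw [← c.eps_comm, mul_assoc, mul_inv_cancel, mul_one]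
  have h2 : c.h * c.eps s t * c.h⁻¹ = (c.h * c.X12 s * c.h⁻¹) * (c.h * c.X23 t * c.h⁻¹) * (c.h * c.X12 s * c.h⁻¹) *
      (c.h * c.X23 t * c.h⁻¹) * (c.h * c.X13 (s * t) * c.h⁻¹) := by
    unfold eps; group
  rw [h1, c.f12.conj, c.f23.conj, c.f13.conj] at h2
  rw [h2]
  unfold eps
  congr 2
  clear h1 h2
  revert s t; decide

/-- the sign as a function of one variable -/
def e (t : F4) : G := c.eps 1 t

theorem e_or (t : F4) : c.e t = 1 ∨ c.e t = C.z := c.eps_or 1 t

theorem e_add (s t : F4) : c.e (s + t) = c.e s * c.e t := c.eps_add 1 s t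

theorem e_zero : c.e 0 = 1 := by
  have h1 := c.e_add 0 0
  rw [add_zero] at h1
  exact mul_eq_left.1 h1.symm

theorem eps_eq (s t : F4) : c.eps s t = c.e (s * s * t) := by
  cases s
  · change c.eps 0 t = c.e (0 * 0 * t)
    rw [zero_mul, zero_mul, c.e_zero]
    unfold eps
    rw [c.f12.zero, one_mul, mul_one, zero_mul, c.f13.zero, mul_one, c.f23.sq]
  · change c.eps 1 t = c.e (1 * 1 * t)
    rw [one_mul, one_mul]; rfl
  · rw [← c.eps_conj, show (F4.v * F4.w : F4) = 1 from rfl]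
    change c.e (F4.v * t) = _
    congr 1
  · rw [← c.eps_conj, show (F4.v * F4.v : F4) = F4.w from rfl, ← c.eps_conj,
      show (F4.v * F4.w : F4) = 1 from rfl, ← mul_assoc]
    change c.e (F4.v * F4.v * t) = _
    congr 1

end Conf

/-! ### twisting by a diagonal automorphism -/

/-- `diag(m⁻¹, 1, 1)` -/
def DD (m : F4) : GL (Fin 3) F4 where
  val := !![if m = 0 then 1 else m⁻¹, 0, 0; 0, 1, 0; 0, 0, 1]
  inv := !![if m = 0 then 1 else m, 0, 0; 0, 1, 0; 0, 0, 1]
  val_inv := by revert m; decide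
  inv_val := by revert m; decide

theorem cj_x12 (m s : F4) (hm : m ≠ 0) : cj (DD m) (x12 (m * s)) = x12 s := by
  apply Subtype.ext
  rw [coe_cj]
  change !![if m = 0 then 1 else m⁻¹, 0, 0; 0, 1, 0; 0, 0, 1] * _ * !![if m = 0 then 1 else m, 0, 0; 0, 1, 0; 0, 0, 1] = _
  revert m s; decide

theorem cj_x13 (m s : F4) (hm : m ≠ 0) : cj (DD m) (x13 (m * s)) = x13 s := by
  apply Subtype.ext
  rw [coe_cj]
  change !![if m = 0 then 1 else m⁻¹, 0, 0; 0, 1, 0; 0, 0, 1] * _ * !![if m = 0 then 1 else m, 0, 0; 0, 1, 0; 0, 0, 1] = _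
  revert m s; decide

theorem cj_x23 (m s : F4) (hm : m ≠ 0) : cj (DD m) (x23 s) = x23 s := by
  apply Subtype.ext
  rw [coe_cj]
  change !![if m = 0 then 1 else m⁻¹, 0, 0; 0, 1, 0; 0, 0, 1] * _ * !![if m = 0 then 1 else m, 0, 0; 0, 1, 0; 0, 0, 1] = _
  revert m s; decide

theorem cj_hh (m : F4) (hm : m ≠ 0) : cj (DD m) hh = hh := by
  apply Subtype.ext
  rw [coe_cj]
  change !![if m = 0 then 1 else m⁻¹, 0, 0; 0, 1, 0; 0, 0, 1] * _ * !![if m = 0 then 1 else m, 0, 0; 0, 1, 0; 0, 0, 1] = _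
  revert m; decide

/-- composition with an automorphism of `PSL_3(4)` -/
def Cv.comp (C : Cv G) (α : MulAut L) : Cv G where
  π := α.toMonoidHom.comp C.π
  z := C.z
  surj := α.surjective.comp C.surj
  zc := C.zc
  zz := C.zz
  z1 := C.z1
  ker g := by
    rw [← C.ker g]
    exact α.map_eq_one_iff

theorem comp_π (C : Cv G) (α : MulAut L) (g : G) : (C.comp α).π g = α (C.π g) := rfl

theorem lift_q (D : MulAut S) (s : S) : lift D (q s) = q (D s) := rfl

namespace Conf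

/-- the twisted configuration -/
def twist (c : Conf C) {m : F4} (hm : m ≠ 0) : Conf (C.comp (lift (cj (DD m)))) where
  h := c.h
  X12 := fun s => c.X12 (m * s)
  X23 := c.X23
  X13 := fun s => c.X13 (m * s)
  h3 := c.h3
  hπ := by rw [comp_π, c.hπ, lift_q, cj_hh m hm]
  f12 := ⟨fun t => by rw [comp_π, c.f12.lift, lift_q, cj_x12 m t hm], fun s t => by rw [mul_add, c.f12.add],
    fun t => by rw [c.f12.conj, mul_left_comm]⟩
  f23 := ⟨fun t => by rw [comp_π, c.f23.lift, lift_q, cj_x23 m t hm], c.f23.add, c.f23.conj⟩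
  f13 := ⟨fun t => by rw [comp_π, c.f13.lift, lift_q, cj_x13 m t hm], fun s t => by rw [mul_add, c.f13.add],
    fun t => by rw [c.f13.conj, mul_left_comm]⟩

theorem twist_e (c : Conf C) {m : F4} (hm : m ≠ 0) (t : F4) : (c.twist hm).e t = c.e (m * m * t) := by
  rw [← c.eps_eq]
  change c.X12 (m * 1) * c.X23 t * c.X12 (m * 1) * c.X23 t * c.X13 (m * (1 * t)) =
    c.X12 m * c.X23 t * c.X12 m * c.X23 t * c.X13 (m * t)
  rw [mul_one, one_mul]

end Conf

theorem exists_good (C : Cv G) : ∃ (α : MulAut L) (c : Conf (C.comp α)), c.e 1 = 1 := by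
  obtain ⟨c⟩ := exists_conf C
  have h1 := c.e_add 1 F4.w
  have h0 := C.zz
  by_cases e1 : c.e 1 = 1
  · refine ⟨_, c.twist (m := 1) one_ne_zero, ?_⟩
    rw [c.twist_e]; exact e1
  by_cases e2 : c.e F4.w = 1
  · refine ⟨_, c.twist (m := F4.v) (by decide), ?_⟩
    rw [c.twist_e]; exact e2
  · refine ⟨_, c.twist (m := F4.w) (by decide), ?_⟩
    rw [c.twist_e]
    change c.e F4.v = 1
    change c.e F4.v = c.e 1 * c.e F4.w at h1
    rw [h1, (c.e_or 1).resolve_left e1, (c.e_or F4.w).resolve_left e2, C.zz]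

/-! ### the Weyl group -/

namespace Conf

variable (c : Conf C)

theorem h_inv (c : Conf C) : c.h⁻¹ * c.h⁻¹ * c.h⁻¹ = 1 := by
  have : c.h⁻¹ * c.h⁻¹ * c.h⁻¹ = (c.h * c.h * c.h)⁻¹ := by group
  rw [this, c.h3, inv_one]

theorem conj_h_a {a : G} (ha : C.π a = q wa) : a * c.h * a⁻¹ = c.h⁻¹ := by
  apply C.cube_unique _ _ c.h_inv
  · rw [map_mul, map_mul, map_inv, map_inv, ha, c.hπ, ← map_inv, ← map_inv, ← map_mul, ← map_mul]
    congr 1
    rw [mul_inv_eq_iff_eq_mul, eq_inv_mul_iff_mul_eq]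
    apply Subtype.ext; decide
  · have : a * c.h * a⁻¹ * (a * c.h * a⁻¹) * (a * c.h * a⁻¹) = a * (c.h * c.h * c.h) * a⁻¹ := by group
    rw [this, c.h3, mul_one, mul_inv_cancel]

theorem conj_h_b {b : G} (hb : C.π b = q wb) : b * c.h * b⁻¹ = c.h⁻¹ := by
  apply C.cube_unique _ _ c.h_inv
  · rw [map_mul, map_mul, map_inv, map_inv, hb, c.hπ, ← map_inv, ← map_inv, ← map_mul, ← map_mul]
    rw [← mul_one (q (wb * hh * wb⁻¹)), ← q_sc, ← map_mul]
    congr 1
    rw [eq_inv_iff_mul_eq_one]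
    have : wb⁻¹ = wb := inv_eq_of_mul_eq_one_right wb_sq
    rw [this]
    apply Subtype.ext; decide
  · have : b * c.h * b⁻¹ * (b * c.h * b⁻¹) * (b * c.h * b⁻¹) = b * (c.h * c.h * c.h) * b⁻¹ := by group
    rw [this, c.h3, mul_one, mul_inv_cancel]

theorem fam_inv {h : G} {m : F4} (hm : m ≠ 0) {x : F4 → L} {X : F4 → G} (hX : C.Fam h m x X) :
    C.Fam h⁻¹ m⁻¹ x X := by
  refine ⟨hX.lift, hX.add, fun t => ?_⟩
  have h1 := hX.conj (m⁻¹ * t)
  rw [← mul_assoc, mul_inv_cancel₀ hm, one_mul] at h1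
  rw [← h1]; group

theorem fam_conj {h h' a : G} {m : F4} {x x' : F4 → L} {X : F4 → G} (hX : C.Fam h m x X) (ha : a * h * a⁻¹ = h')
    (hx : ∀ t, C.π a * x t = x' t * C.π a) : C.Fam h' m x' (fun t => a * X t * a⁻¹) := by
  refine ⟨fun t => ?_, fun s t => ?_, fun t => ?_⟩
  · rw [map_mul, map_mul, map_inv, hX.lift, hx, mul_assoc, mul_inv_cancel, mul_one]
  · rw [hX.add]; group
  · rw [← hX.conj, ← ha]; group

theorem conj_a_13 {a : G} (ha : C.π a = q wa) (t : F4) : a * c.X13 t * a⁻¹ = c.X23 t := by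
  have f1 : C.Fam c.h⁻¹ F4.w (fun t => q (x23 t)) c.X23 := fam_inv (by decide) c.f23
  have f2 := fam_conj c.f13 (c.conj_h_a ha) (x' := fun t => q (x23 t))
    (fun t => by rw [ha, ← map_mul, wa_x13, map_mul])
  exact congrFun (f1.unique (Or.inl rfl) f2) t

theorem conj_a_23 {a : G} (ha : C.π a = q wa) (t : F4) : a * c.X23 t * a⁻¹ = c.X13 t := by
  have f1 : C.Fam c.h⁻¹ F4.v (fun t => q (x13 t)) c.X13 := fam_inv (by decide) c.f13
  have f2 := fam_conj c.f23 (c.conj_h_a ha) (x' := fun t => q (x13 t))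
    (fun t => by rw [ha, ← map_mul, wa_x23, map_mul])
  exact congrFun (f1.unique (Or.inr rfl) f2) t

theorem conj_b_13 {b : G} (hb : C.π b = q wb) (t : F4) : b * c.X13 t * b⁻¹ = c.X12 t := by
  have f1 : C.Fam c.h⁻¹ F4.w (fun t => q (x12 t)) c.X12 := fam_inv (by decide) c.f12
  have f2 := fam_conj c.f13 (c.conj_h_b hb) (x' := fun t => q (x12 t))
    (fun t => by rw [hb, ← map_mul, wb_x13, map_mul])
  exact congrFun (f1.unique (Or.inl rfl) f2) t

theorem conj_b_12 {b : G} (hb : C.π b = q wb) (t : F4) : b * c.X12 t * b⁻¹ = c.X13 t := by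
  have f1 : C.Fam c.h⁻¹ F4.v (fun t => q (x13 t)) c.X13 := fam_inv (by decide) c.f13
  have f2 := fam_conj c.f12 (c.conj_h_b hb) (x' := fun t => q (x13 t))
    (fun t => by rw [hb, ← map_mul, wb_x12, map_mul])
  exact congrFun (f1.unique (Or.inr rfl) f2) t

theorem sq_a {a : G} (ha : C.π a = q wa) : a * a = 1 := C.sq_of_conj wa_g ha
theorem sq_b {b : G} (hb : C.π b = q wb) : b * b = 1 := C.sq_of_conj wb_g hb

/-- conjugate of `X23 1` over a given element -/
theorem exists_conj {t g : S} (hg : g * x23 1 = t * g) : ∃ γ, C.π (γ * c.X23 1 * γ⁻¹) = q t := by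
  obtain ⟨γ, hγ⟩ := C.exists_lift g
  refine ⟨γ, ?_⟩
  rw [map_mul, map_mul, map_inv, hγ, c.f23.lift, ← map_mul, hg, map_mul, mul_assoc, mul_inv_cancel, mul_one]

end Conf

end Cfsg.Agent.H840.L34
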