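import Cfsg.Agent.H840.L34.Bb

/-!
# Ten-dimensional representations of double covers of `PSL_3(4)` : the quadratic equation
-/

set_option autoImplicit false
set_option linter.constructorNameAsVariable false

namespace Cfsg.Agent.H840.L34

open Cfsg.Agent.Lib.FieldFour

variable {G : Type*} [Group G] {C : Cv G}
variable {F : Type*} [Field F] {V : Type*} [AddCommGroup V] [Module F V]

namespace Dt

variable {ρ : G →* Module.End F V} {c : Conf C}

section exp

variable (a : G) (v0 : V)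

theorem ff00 : ff ρ c a v0 0 0 = vv ρ c a v0 0 0 + vv ρ c a v0 0 1 + vv ρ c a v0 0 F4.w + vv ρ c a v0 0 F4.v := by
  rw [ff_zero, sum_F4]
  change (1 : F) • _ + (1 : F) • _ + (1 : F) • _ + (1 : F) • _ = _
  simp only [one_smul]

theorem ff01 : ff ρ c a v0 0 1 = vv ρ c a v0 0 0 + vv ρ c a v0 0 1 - vv ρ c a v0 0 F4.w - vv ρ c a v0 0 F4.v := by
  rw [ff_zero, sum_F4]
  change (1 : F) • _ + (1 : F) • _ + (-1 : F) • _ + (-1 : F) • _ = _
  simp only [one_smul, neg_smul, sub_eq_add_neg]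

theorem ff0w : ff ρ c a v0 0 F4.w = vv ρ c a v0 0 0 - vv ρ c a v0 0 1 + vv ρ c a v0 0 F4.w - vv ρ c a v0 0 F4.v := by
  rw [ff_zero, sum_F4]
  change (1 : F) • _ + (-1 : F) • _ + (1 : F) • _ + (-1 : F) • _ = _
  simp only [one_smul, neg_smul, sub_eq_add_neg]

theorem ff0v : ff ρ c a v0 0 F4.v = vv ρ c a v0 0 0 - vv ρ c a v0 0 1 - vv ρ c a v0 0 F4.w + vv ρ c a v0 0 F4.v := by
  rw [ff_zero, sum_F4]
  change (1 : F) • _ + (-1 : F) • _ + (-1 : F) • _ + (1 : F) • _ = _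
  simp only [one_smul, neg_smul, sub_eq_add_neg]

theorem ffj0 {j : F4} (hj : j ≠ 0) : ff ρ c a v0 j 0 = vv ρ c a v0 j 0 + vv ρ c a v0 j j⁻¹ := by
  rw [ff_ne _ _ hj, if_pos rfl, one_smul]

theorem ffji {j : F4} (hj : j ≠ 0) : ff ρ c a v0 j j⁻¹ = vv ρ c a v0 j 0 - vv ρ c a v0 j j⁻¹ := by
  rw [ff_ne _ _ hj, if_neg (inv_ne_zero hj), neg_one_smul, sub_eq_add_neg]

end exp

variable (D : Dt C c ρ) {a b : G} (ha : RH.IsA ρ C a) (hb : RH.IsB ρ C b)

include D ha hb in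
/-- the braid relation -/
theorem braid : a * b * a = b * a * b := by
  have h1 : C.π (a * b * a) = C.π (b * a * b) := by
    rw [map_mul, map_mul, map_mul, map_mul, ha.π, hb.π, ← map_mul, ← map_mul, L34.braid, map_mul, map_mul]
  rcases C.eq_or h1 with h2 | h2
  · exact h2
  · exfalso
    have h3 : (a * b) * a * (a * b)⁻¹ = C.z * b := by
      rw [h2]; group
    have h4 := RH.trace_conj (ρ := ρ) (a * b) a
    rw [h3, ha.tr, map_mul, D.R.z, neg_one_mul, map_neg, hb.tr] at h4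
    have h5 : (2 : F) * 2 = 0 := by linear_combination -h4
    rcases mul_eq_zero.1 h5 with h6 | h6 <;> exact D.R.two h6

variable {v0 : V} (hv : v0 ∈ W (RH.Ta ρ c) (0, 0)) (h0 : v0 ≠ 0)

include D ha hv hb h0 in
/-- the quadratic equation -/
theorem eq_r {r : F} (hr0 : r ≠ 0) (e0 : ρ b (ff ρ c a v0 0 0) = ff ρ c a v0 0 0)
    (e1 : ∀ j, j ≠ 0 → ρ b (ff ρ c a v0 j 0) = r • ff ρ c a v0 0 j)
    (e2 : ∀ j, j ≠ 0 → ρ b (ff ρ c a v0 0 j) = r⁻¹ • ff ρ c a v0 j 0)
    (e3 : ∀ j, j ≠ 0 → ρ b (ff ρ c a v0 j j⁻¹) = ff ρ c a v0 j⁻¹ j) : 2 * r * r + r + 1 = 0 := by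
  set f := ff ρ c a v0 with hf
  set v := vv ρ c a v0 with hvv
  have x00 : f 0 0 = v 0 0 + v 0 1 + v 0 F4.w + v 0 F4.v := ff00 a v0
  have x01 : f 0 1 = v 0 0 + v 0 1 - v 0 F4.w - v 0 F4.v := ff01 a v0
  have x0w : f 0 F4.w = v 0 0 - v 0 1 + v 0 F4.w - v 0 F4.v := ff0w a v0
  have x0v : f 0 F4.v = v 0 0 - v 0 1 - v 0 F4.w + v 0 F4.v := ff0v a v0
  have y10 : f 1 0 = v 1 0 + v 1 1 := ffj0 a v0 (by decide)
  have yw0 : f F4.w 0 = v F4.w 0 + v F4.w F4.v := ffj0 a v0 (by decide)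
  have yv0 : f F4.v 0 = v F4.v 0 + v F4.v F4.w := ffj0 a v0 (by decide)
  have y11 : f 1 1 = v 1 0 - v 1 1 := ffji a v0 (by decide)
  have ywv : f F4.w F4.v = v F4.w 0 - v F4.w F4.v := ffji a v0 (by decide)
  have yvw : f F4.v F4.w = v F4.v 0 - v F4.v F4.w := ffji a v0 (by decide)
  -- `4 r b v00`
  have hy : ρ b ((4 * r) • v 0 0) = r • f 0 0 + f 1 0 + f F4.w 0 + f F4.v 0 := by
    have h1 : (4 * r) • v 0 0 = r • (f 0 0 + f 0 1 + f 0 F4.w + f 0 F4.v) := by
      rw [x00, x01, x0w, x0v]; module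
    rw [h1, map_smul, map_add, map_add, map_add, e0, e2 1 (by decide), e2 F4.w (by decide), e2 F4.v (by decide),
      smul_add, smul_add, smul_add, smul_smul, smul_smul, smul_smul, mul_inv_cancel₀ hr0, one_smul, one_smul, one_smul]
  have hA : ∀ i j, Gd i j → ρ a (v i j) = v j i := fun i j hg => D.a_vv ha hv hg
  have hAy : (4 : F) • ρ a (r • f 0 0 + f 1 0 + f F4.w 0 + f F4.v 0) = (r + 3) • f 0 0 +
      (r - 1) • (f 0 1 + f 0 F4.w + f 0 F4.v) + (2 * r + 2) • (f 1 0 + f F4.w 0 + f F4.v 0) +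
      (2 * r - 2) • (f 1 1 + f F4.w F4.v + f F4.v F4.w) := by
    rw [x00, x01, x0w, x0v, y10, yw0, yv0, y11, ywv, yvw]
    simp only [map_add, map_smul]
    rw [hA 0 0 (by decide), hA 0 1 (by decide), hA 0 F4.w (by decide), hA 0 F4.v (by decide), hA 1 0 (by decide),
      hA 1 1 (by decide), hA F4.w 0 (by decide), hA F4.w F4.v (by decide), hA F4.v 0 (by decide),
      hA F4.v F4.w (by decide)]
    module
  have hbr : ∀ x, ρ a (ρ b (ρ a x)) = ρ b (ρ a (ρ b x)) := by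
    intro x
    rw [← RH.mul_apply, ← RH.mul_apply, ← RH.mul_apply, ← RH.mul_apply, D.braid ha hb]
  have h00 : ρ a ((4 * r) • v 0 0) = (4 * r) • v 0 0 := by rw [map_smul, hA 0 0 (by decide)]
  have key := hbr ((4 * r) • v 0 0)
  rw [h00, hy] at key
  have key2 := congrArg (fun x => (4 : F) • x) key
  simp only [← map_smul (ρ b)] at key2
  rw [hAy] at key2
  simp only [map_add, map_smul] at key2
  rw [e0, e1 1 (by decide), e1 F4.w (by decide), e1 F4.v (by decide), e2 1 (by decide), e2 F4.w (by decide),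
    e2 F4.v (by decide)] at key2
  have e31 : ρ b (f 1 1) = f 1 1 := e3 1 (by decide)
  have e32 : ρ b (f F4.w F4.v) = f F4.v F4.w := e3 F4.w (by decide)
  have e33 : ρ b (f F4.v F4.w) = f F4.w F4.v := e3 F4.v (by decide)
  rw [e31, e32, e33] at key2
  have hP : ∀ {i j : F4}, Gd i j → (i, j) ≠ (1, 0) → pr (RH.Tb ρ c) (1, 0) (f i j) = 0 := by
    intro i j hg hne
    rw [pr_of_mem _ _ (D.mem_ff ha hv hg), if_neg (Ne.symm hne)]
  have hP1 : pr (RH.Tb ρ c) (1, 0) (f 1 0) = (16 : F) • f 1 0 := by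
    rw [pr_of_mem _ _ (D.mem_ff ha hv (by decide)), if_pos rfl]
  have key3 := congrArg (pr (RH.Tb ρ c) (1, 0)) key2
  simp only [map_add, map_smul] at key3
  rw [hP1, hP (i := 0) (j := 0) (by decide) (by decide), hP (i := 0) (j := 1) (by decide) (by decide),
    hP (i := 0) (j := F4.w) (by decide) (by decide), hP (i := 0) (j := F4.v) (by decide) (by decide),
    hP (i := F4.w) (j := 0) (by decide) (by decide), hP (i := F4.v) (j := 0) (by decide) (by decide),
    hP (i := 1) (j := 1) (by decide) (by decide), hP (i := F4.w) (j := F4.v) (by decide) (by decide),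
    hP (i := F4.v) (j := F4.w) (by decide) (by decide)] at key3
  simp only [smul_zero, add_zero, zero_add, smul_smul] at key3
  have key4 : (((2 * r + 2) * 16) - ((r - 1) * (r⁻¹ * 16))) • f 1 0 = 0 := by
    rw [sub_smul, key3]
    exact sub_self _
  have key5 := (smul_eq_zero.1 key4).resolve_right (D.ff_ne_zero ha hv h0)
  have key6 : (16 : F) * (2 * r * r + r + 1) = 0 := by
    have h7 : r * r⁻¹ = 1 := mul_inv_cancel₀ hr0
    linear_combination r * key5 + 16 * (r - 1) * h7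
  exact (mul_eq_zero.1 key6).resolve_left (sixteen_ne D.R.two)

end Dt

end Cfsg.Agent.H840.L34
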