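import Cfsg.Agent.H840.L34.Rep

/-!
# Ten-dimensional representations of double covers of `PSL_3(4)` : traces of involutions
-/

set_option autoImplicit false
set_option linter.constructorNameAsVariable false

namespace Cfsg.Agent.H840.L34

open Cfsg.Agent.Lib.FieldFour

/-- the ten weights -/
abbrev Om : Type := {p : F4 × F4 // p.1 * p.2 = 0 ∨ p.1 * p.2 = 1}

theorem univ_Om : (Finset.univ : Finset Om) = {⟨(F4.o, F4.o), by decide⟩, ⟨(F4.o, F4.i), by decide⟩,
    ⟨(F4.o, F4.w), by decide⟩, ⟨(F4.o, F4.v), by decide⟩, ⟨(F4.i, F4.o), by decide⟩, ⟨(F4.i, F4.i), by decide⟩,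
    ⟨(F4.w, F4.o), by decide⟩, ⟨(F4.w, F4.v), by decide⟩, ⟨(F4.v, F4.o), by decide⟩, ⟨(F4.v, F4.w), by decide⟩} := by
  decide

theorem card_Om : Fintype.card Om = 10 := by
  rw [← Finset.card_univ, univ_Om]; decide

theorem sum_Om {M : Type*} [AddCommMonoid M] (g : Om → M) : ∑ k, g k =
    g ⟨(F4.o, F4.o), by decide⟩ + (g ⟨(F4.o, F4.i), by decide⟩ + (g ⟨(F4.o, F4.w), by decide⟩ +
    (g ⟨(F4.o, F4.v), by decide⟩ + (g ⟨(F4.i, F4.o), by decide⟩ + (g ⟨(F4.i, F4.i), by decide⟩ +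
    (g ⟨(F4.w, F4.o), by decide⟩ + (g ⟨(F4.w, F4.v), by decide⟩ + (g ⟨(F4.v, F4.o), by decide⟩ +
    g ⟨(F4.v, F4.w), by decide⟩)))))))) := by
  rw [univ_Om]
  repeat rw [Finset.sum_insert (by decide)]
  rw [Finset.sum_singleton]

section

variable {F : Type*} [Field F] {V : Type*} [AddCommGroup V] [Module F V]

theorem trace_mono {κ : Type*} [Fintype κ] [DecidableEq κ] (b : Module.Basis κ F V) (f : V →ₗ[F] V) (σ : κ → κ)
    (k : κ → F) (h : ∀ i, f (b i) = k i • b (σ i)) :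
    LinearMap.trace F V f = ∑ i, if σ i = i then k i else 0 := by
  rw [LinearMap.trace_eq_matrix_trace F b, Matrix.trace]
  apply Finset.sum_congr rfl
  intro i _
  rw [Matrix.diag_apply, LinearMap.toMatrix_apply, h, map_smul, b.repr_self, Finsupp.smul_apply,
    Finsupp.single_apply, smul_eq_mul, mul_ite, mul_one, mul_zero]

/-- the basis given by ten weight vectors -/
noncomputable def bas (h2 : (2 : F) ≠ 0) (hd : Module.finrank F V = 10) {T : F4 × F4 → V →ₗ[F] V} {u : Om → V}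
    (hu : ∀ k, u k ∈ W T k.1) (h0 : ∀ k, u k ≠ 0) : Module.Basis Om F V :=
  haveI : Nonempty Om := ⟨⟨(0, 0), by decide⟩⟩
  basisOfLinearIndependentOfCardEqFinrank (linInd h2 Subtype.val_injective hu h0) (card_Om.trans hd.symm)

theorem bas_apply (h2 : (2 : F) ≠ 0) (hd : Module.finrank F V = 10) {T : F4 × F4 → V →ₗ[F] V} {u : Om → V}
    (hu : ∀ k, u k ∈ W T k.1) (h0 : ∀ k, u k ≠ 0) (k : Om) : bas h2 hd hu h0 k = u k := by
  unfold bas
  simp

/-- the trace of an involution permuting one-dimensional weight spaces -/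
theorem coef (h2 : (2 : F) ≠ 0) (hd : Module.finrank F V = 10) {T : F4 × F4 → V →ₗ[F] V}
    (hfr : ∀ k : Om, Module.finrank F (W T k.1) = 1) (f : V →ₗ[F] V) (hf : ∀ v, f (f v) = v) (σ : Om → Om)
    (hσ : ∀ (k : Om) (v : V), v ∈ W T k.1 → f v ∈ W T (σ k).1) :
    ∃ k : Om → F, LinearMap.trace F V f = (∑ i, if σ i = i then k i else 0) ∧
      ∀ i, σ i = i → k i * k i = 1 ∧ ∀ v ∈ W T i.1, f v = k i • v := by
  have h : ∀ k : Om, ∃ v, v ∈ W T k.1 ∧ v ≠ 0 := by
    intro k
    have h3 := hfr k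
    have h4 : W T k.1 ≠ ⊥ := by
      intro h5
      rw [h5, finrank_bot] at h3
      exact zero_ne_one h3
    exact Submodule.exists_mem_ne_zero_of_ne_bot h4
  choose u hu h0 using h
  have hk : ∀ i, ∃ a : F, f (u i) = a • u (σ i) := fun i =>
    eq_smul (hfr (σ i)) (hu (σ i)) (h0 (σ i)) (hσ i _ (hu i))
  choose k hk using hk
  refine ⟨k, ?_, ?_⟩
  · exact trace_mono (bas h2 hd hu h0) f σ k (fun i => by rw [bas_apply, bas_apply, hk])
  · intro i hi
    have h3 : f (u i) = k i • u i := by rw [hk i, hi]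
    constructor
    · have h4 : f (f (u i)) = u i := hf _
      rw [h3, map_smul, h3, smul_smul] at h4
      have h5 : (k i * k i - 1) • u i = 0 := by rw [sub_smul, h4, one_smul, sub_self]
      exact sub_eq_zero.1 ((smul_eq_zero.1 h5).resolve_right (h0 i))
    · intro v hv
      obtain ⟨a, rfl⟩ := eq_smul (hfr i) (hu i) (h0 i) hv
      rw [map_smul, h3, smul_comm]

theorem sum_two {x y : F} (h2 : (2 : F) ≠ 0) (hx : x * x = 1) (hy : y * y = 1) (h : x + y = 2) : x = 1 ∧ y = 1 := by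
  rcases mul_self_eq_one_iff.1 hx with rfl | rfl <;> rcases mul_self_eq_one_iff.1 hy with rfl | rfl
  · exact ⟨rfl, rfl⟩
  · exfalso; apply h2; rw [← h]; ring
  · exfalso; apply h2; rw [← h]; ring
  · exfalso
    apply h2
    have : (2 : F) * 2 = 0 := by linear_combination -h
    rcases mul_eq_zero.1 this with h3 | h3 <;> exact h3

end

variable {G : Type*} [Group G] {C : Cv G}
variable {F : Type*} [Field F] {V : Type*} [AddCommGroup V] [Module F V]

namespace RH

variable {ρ : G →* Module.End F V} (R : RH C ρ) (c : Conf C) (h1 : c.e 1 = 1)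

theorem trace_conj (g x : G) : LinearMap.trace F V (ρ (g * x * g⁻¹)) = LinearMap.trace F V (ρ x) := by
  rw [map_mul, LinearMap.trace_mul_comm, ← map_mul]
  congr 2
  group

include R h1 in
theorem exists_u : ∃ u : Om → V, (∀ k, u k ∈ W (Ta ρ c) k.1) ∧ ∀ k, u k ≠ 0 := by
  have h : ∀ k : Om, ∃ v, v ∈ W (Ta ρ c) k.1 ∧ v ≠ 0 := by
    intro k
    have h3 := R.m_one c h1 k.2
    have h4 : W (Ta ρ c) k.1 ≠ ⊥ := by
      intro h5
      rw [Prod.mk.eta, h5, finrank_bot] at h3
      exact zero_ne_one h3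
    exact Submodule.exists_mem_ne_zero_of_ne_bot h4
  choose u hu h0 using h
  exact ⟨u, hu, h0⟩

include R h1 in
/-- the trace of an element permuting the weight spaces -/
theorem exists_coef (g : G) (hg2 : g * g = 1) (σ : Om → Om)
    (hσ : ∀ (k : Om) (v : V), v ∈ W (Ta ρ c) k.1 → ρ g v ∈ W (Ta ρ c) (σ k).1) :
    ∃ k : Om → F, LinearMap.trace F V (ρ g) = (∑ i, if σ i = i then k i else 0) ∧
      ∀ i, σ i = i → k i * k i = 1 ∧ ∀ v ∈ W (Ta ρ c) i.1, ρ g v = k i • v := by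
  obtain ⟨u, hu, h0⟩ := R.exists_u c h1
  have hk : ∀ i, ∃ a : F, ρ g (u i) = a • u (σ i) := fun i =>
    eq_smul (by have := R.m_one c h1 (σ i).2; exact this) (hu (σ i)) (h0 (σ i)) (hσ i _ (hu i))
  choose k hk using hk
  refine ⟨k, ?_, ?_⟩
  · exact trace_mono (bas R.two R.dim hu h0) (ρ g) σ k (fun i => by rw [bas_apply, bas_apply, hk])
  · intro i hi
    have h3 : ρ g (u i) = k i • u i := by rw [hk i, hi]
    constructor
    · have h4 : ρ g (ρ g (u i)) = u i := by rw [← mul_apply, hg2, map_one]; rfl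
      rw [h3, map_smul, h3, smul_smul] at h4
      have h5 : (k i * k i - 1) • u i = 0 := by rw [sub_smul, h4, one_smul, sub_self]
      exact sub_eq_zero.1 ((smul_eq_zero.1 h5).resolve_right (h0 i))
    · intro v hv
      obtain ⟨a, rfl⟩ := eq_smul (R.m_one c h1 i.2) (hu i) (h0 i) hv
      rw [map_smul, h3, smul_comm]

include R h1 in
theorem trace_23 {s : F4} (hs : s ≠ 0) : LinearMap.trace F V (ρ (c.X23 s)) = 2 := by
  obtain ⟨u, hu, h0⟩ := R.exists_u c h1
  have h3 := trace_mono (bas R.two R.dim hu h0) (ρ (c.X23 s)) id (fun k => ps F (k.1.2 * s)) (fun i => by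
    rw [bas_apply, bas_apply]
    exact ((mem_a c).1 (hu i)).2 s)
  rw [h3]
  simp only [id_eq, if_true]
  rw [sum_Om (fun k : Om => ps F (k.1.2 * s))]
  cases s
  · exact absurd rfl hs
  · change (1 : F) + (1 + (-1 + (-1 + (1 + (1 + (1 + (-1 + (1 + -1)))))))) = 2
    norm_num
  · change (1 : F) + (-1 + (-1 + (1 + (1 + (-1 + (1 + (1 + (1 + -1)))))))) = 2
    norm_num
  · change (1 : F) + (-1 + (1 + (-1 + (1 + (-1 + (1 + (-1 + (1 + 1)))))))) = 2
    norm_num

/-- lifts of `wa` with trace two -/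
structure IsA (ρ : G →* Module.End F V) (C : Cv G) (a : G) : Prop where
  π : C.π a = q wa
  tr : LinearMap.trace F V (ρ a) = 2

/-- lifts of `wb` with trace two -/
structure IsB (ρ : G →* Module.End F V) (C : Cv G) (b : G) : Prop where
  π : C.π b = q wb
  tr : LinearMap.trace F V (ρ b) = 2

include R h1 in
theorem exists_A : ∃ a, IsA ρ C a := by
  obtain ⟨γ, hγ⟩ := c.exists_conj wa_g
  exact ⟨_, hγ, by rw [trace_conj]; exact R.trace_23 c h1 one_ne_zero⟩

include R h1 in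
theorem exists_B : ∃ b, IsB ρ C b := by
  obtain ⟨γ, hγ⟩ := c.exists_conj wb_g
  exact ⟨_, hγ, by rw [trace_conj]; exact R.trace_23 c h1 one_ne_zero⟩

include R h1 in
theorem fix_a {a : G} (ha : IsA ρ C a) : (∀ v ∈ W (Ta ρ c) (0, 0), ρ a v = v) ∧ ∀ v ∈ W (Ta ρ c) (1, 1), ρ a v = v := by
  obtain ⟨k, hk, hc⟩ := R.exists_coef c h1 a (Conf.sq_a ha.π) (fun i => ⟨(i.1.2, i.1.1), by rw [mul_comm]; exact i.2⟩)
    (fun i v hv => map_a c ha.π hv)
  rw [ha.tr, sum_Om (fun i : Om => if (⟨(i.1.2, i.1.1), _⟩ : Om) = i then k i else 0)] at hk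
  simp only [Subtype.mk.injEq, Prod.mk.injEq, reduceCtorEq, and_self, if_true, if_false,
    zero_add, add_zero] at hk
  have e1 := hc ⟨(0, 0), by decide⟩ rfl
  have e2 := hc ⟨(1, 1), by decide⟩ rfl
  obtain ⟨e3, e4⟩ := sum_two R.two e1.1 e2.1 hk.symm
  refine ⟨fun v hv => ?_, fun v hv => ?_⟩
  · rw [e1.2 v hv, e3, one_smul]
  · rw [e2.2 v hv, e4, one_smul]

include R h1 in
theorem trace_12 {s : F4} (hs : s ≠ 0) : LinearMap.trace F V (ρ (c.X12 s)) = 2 := by
  obtain ⟨a, ha⟩ := C.exists_lift wa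
  obtain ⟨b, hb⟩ := C.exists_lift wb
  rw [← c.conj_b_13 hb, trace_conj, ← c.conj_a_23 ha, trace_conj, R.trace_23 c h1 hs]

theorem good12 : ∀ (s : F4) (i : Om), i.1.1 * (i.1.2 + i.1.1 * s + s * s) = 0 ∨ i.1.1 * (i.1.2 + i.1.1 * s + s * s) = 1 := by
  decide

include R h1 in
theorem fix_12 {s : F4} (hs : s ≠ 0) : ∀ v ∈ W (Ta ρ c) (s, 0), ρ (c.X12 s) v = v := by
  obtain ⟨k, hk, hc⟩ := R.exists_coef c h1 (c.X12 s) (c.f12.sq s)
    (fun i => ⟨(i.1.1, i.1.2 + i.1.1 * s + s * s), good12 s i⟩)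
    (fun i v hv => R.map_12n c h1 s hv)
  rw [R.trace_12 c h1 hs, sum_Om] at hk
  intro v hv
  cases s
  · exact absurd rfl hs
  · rw [if_neg (by decide), if_neg (by decide), if_neg (by decide), if_neg (by decide), if_pos (by decide),
      if_pos (by decide), if_neg (by decide), if_neg (by decide), if_neg (by decide), if_neg (by decide)] at hk
    simp only [zero_add, add_zero] at hk
    have e1 := hc ⟨(F4.i, F4.o), by decide⟩ (by decide)
    have e2 := hc ⟨(F4.i, F4.i), by decide⟩ (by decide)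
    obtain ⟨e3, e4⟩ := sum_two R.two e1.1 e2.1 hk.symm
    rw [e1.2 v hv, e3, one_smul]
  · rw [if_neg (by decide), if_neg (by decide), if_neg (by decide), if_neg (by decide), if_neg (by decide),
      if_neg (by decide), if_pos (by decide), if_pos (by decide), if_neg (by decide), if_neg (by decide)] at hk
    simp only [zero_add, add_zero] at hk
    have e1 := hc ⟨(F4.w, F4.o), by decide⟩ (by decide)
    have e2 := hc ⟨(F4.w, F4.v), by decide⟩ (by decide)
    obtain ⟨e3, e4⟩ := sum_two R.two e1.1 e2.1 hk.symm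
    rw [e1.2 v hv, e3, one_smul]
  · rw [if_neg (by decide), if_neg (by decide), if_neg (by decide), if_neg (by decide), if_neg (by decide),
      if_neg (by decide), if_neg (by decide), if_neg (by decide), if_pos (by decide), if_pos (by decide)] at hk
    simp only [zero_add, add_zero] at hk
    have e1 := hc ⟨(F4.v, F4.o), by decide⟩ (by decide)
    have e2 := hc ⟨(F4.v, F4.w), by decide⟩ (by decide)
    obtain ⟨e3, e4⟩ := sum_two R.two e1.1 e2.1 hk.symm
    rw [e1.2 v hv, e3, one_smul]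

include R h1 in
theorem fix_h {v : V} (hv : v ∈ W (Ta ρ c) (0, 0)) : ρ c.h v = v := by
  by_cases hv0 : v = 0
  · rw [hv0, map_zero]
  obtain ⟨a, ha⟩ := R.exists_A c h1
  have m1 : ρ c.h v ∈ W (Ta ρ c) (0, 0) := by
    have := map_h c hv
    exact this
  obtain ⟨k, hk⟩ := eq_smul (R.m_one c h1 (Or.inl (mul_zero (0 : F4)))) hv hv0 m1
  have e3 : k * k * k = 1 := by
    have : ρ (c.h * c.h * c.h) v = v := by rw [c.h3, map_one]; rfl
    rw [mul_apply, mul_apply, hk, map_smul, hk, map_smul, map_smul, hk, smul_smul, smul_smul] at this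
    have h5 : (k * k * k - 1) • v = 0 := by rw [sub_smul, this, one_smul, sub_self]
    exact sub_eq_zero.1 ((smul_eq_zero.1 h5).resolve_right hv0)
  have e2 : k * k = 1 := by
    have e4 : ρ (a * c.h) v = ρ (c.h⁻¹ * a) v := by
      rw [← c.conj_h_a ha.π, inv_mul_cancel_right]
    have e5 : ρ c.h (ρ (a * c.h) v) = v := by
      rw [e4, ← mul_apply, ← mul_assoc, mul_inv_cancel, one_mul, (R.fix_a c h1 ha).1 v hv]
    rw [mul_apply, hk, map_smul, (R.fix_a c h1 ha).1 v hv, map_smul, hk, smul_smul] at e5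
    have h5 : (k * k - 1) • v = 0 := by rw [sub_smul, e5, one_smul, sub_self]
    exact sub_eq_zero.1 ((smul_eq_zero.1 h5).resolve_right hv0)
  have e1 : k = 1 := by rw [e2, one_mul] at e3; exact e3
  rw [hk, e1, one_smul]

end RH

end Cfsg.Agent.H840.L34
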