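import Mathlib
import Cfsg.Agent.Lib.FieldFour

/-!
# Double covers of `PSL_3(4)` : canonical lifts of root groups
-/

set_option autoImplicit false

namespace Cfsg.Agent.H840.L34

open Cfsg.Agent.Lib.FieldFour

abbrev S := Matrix.SpecialLinearGroup (Fin 3) F4
abbrev L := Matrix.ProjectiveSpecialLinearGroup (Fin 3) F4

/-- the projection -/
abbrev q : S →* L := QuotientGroup.mk' _

def x12 (s : F4) : S := ⟨!![1, s, 0; 0, 1, 0; 0, 0, 1], by rw [Matrix.det_fin_three]; revert s; decide⟩
def x23 (s : F4) : S := ⟨!![1, 0, 0; 0, 1, s; 0, 0, 1], by rw [Matrix.det_fin_three]; revert s; decide⟩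
def x13 (s : F4) : S := ⟨!![1, 0, s; 0, 1, 0; 0, 0, 1], by rw [Matrix.det_fin_three]; revert s; decide⟩
def x21 (s : F4) : S := ⟨!![1, 0, 0; s, 1, 0; 0, 0, 1], by rw [Matrix.det_fin_three]; revert s; decide⟩
def hh : S := ⟨!![F4.w, 0, 0; 0, F4.v, 0; 0, 0, 1], by rw [Matrix.det_fin_three]; decide⟩
def wa : S := ⟨!![0, 1, 0; 1, 0, 0; 0, 0, 1], by rw [Matrix.det_fin_three]; decide⟩
def wb : S := ⟨!![1, 0, 0; 0, 0, 1; 0, 1, 0], by rw [Matrix.det_fin_three]; decide⟩
/-- a scalar -/
def sc : S := ⟨!![F4.w, 0, 0; 0, F4.w, 0; 0, 0, F4.w], by rw [Matrix.det_fin_three]; decide⟩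

theorem q_sc : q sc = 1 := by
  change ((sc : S) : L) = 1
  rw [QuotientGroup.eq_one_iff, Matrix.SpecialLinearGroup.mem_center_iff]
  exact ⟨F4.w, by decide, by decide⟩

theorem x12_add (s t : F4) : x12 (s + t) = x12 s * x12 t := by
  apply Subtype.ext; revert s t; decide
theorem x23_add (s t : F4) : x23 (s + t) = x23 s * x23 t := by
  apply Subtype.ext; revert s t; decide
theorem x13_add (s t : F4) : x13 (s + t) = x13 s * x13 t := by
  apply Subtype.ext; revert s t; decide

theorem hh_x12 (s : F4) : hh * x12 s = x12 (F4.v * s) * hh := by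
  apply Subtype.ext; revert s; decide
theorem hh_x23 (s : F4) : hh * x23 s = x23 (F4.v * s) * hh := by
  apply Subtype.ext; revert s; decide
theorem hh_x13 (s : F4) : hh * x13 s = x13 (F4.w * s) * hh := by
  apply Subtype.ext; revert s; decide
theorem hh_cube : hh * hh * hh = 1 := by
  apply Subtype.ext; decide

theorem wa_sq : wa * wa = 1 := by apply Subtype.ext; decide
theorem wb_sq : wb * wb = 1 := by apply Subtype.ext; decide
theorem wa_x13 (s : F4) : wa * x13 s = x23 s * wa := by
  apply Subtype.ext; revert s; decide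
theorem wa_x23 (s : F4) : wa * x23 s = x13 s * wa := by
  apply Subtype.ext; revert s; decide
theorem wb_x12 (s : F4) : wb * x12 s = x13 s * wb := by
  apply Subtype.ext; revert s; decide
theorem wb_x13 (s : F4) : wb * x13 s = x12 s * wb := by
  apply Subtype.ext; revert s; decide
theorem wa_hh : wa * hh * wa * hh = 1 := by
  apply Subtype.ext; decide
theorem wb_hh : wb * hh * wb * hh = sc * sc := by
  apply Subtype.ext; decide
theorem braid : wa * wb * wa = wb * wa * wb := by apply Subtype.ext; decide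
theorem comm_ab (s t : F4) : x12 s * x23 t = x13 (s * t) * x23 t * x12 s := by
  apply Subtype.ext; revert s t; decide
theorem comm_a (s t : F4) : x12 s * x13 t = x13 t * x12 s := by
  apply Subtype.ext; revert s t; decide
theorem comm_b (s t : F4) : x23 s * x13 t = x13 t * x23 s := by
  apply Subtype.ext; revert s t; decide

/-- a double cover of `PSL_3(4)` (possibly split) -/
structure Cv (G : Type*) [Group G] where
  π : G →* L
  z : G
  surj : Function.Surjective π
  zc : ∀ g, z * g = g * z
  zz : z * z = 1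
  z1 : z ≠ 1
  ker : ∀ g, π g = 1 ↔ g = 1 ∨ g = z

variable {G : Type*} [Group G] (C : Cv G)

namespace Cv

theorem πz : C.π C.z = 1 := (C.ker _).2 (Or.inr rfl)

theorem zinv : C.z⁻¹ = C.z := by
  rw [inv_eq_iff_mul_eq_one]; exact C.zz

theorem eq_or {g g' : G} (h : C.π g = C.π g') : g = g' ∨ g = C.z * g' := by
  have h1 : C.π (g * g'⁻¹) = 1 := by rw [map_mul, map_inv, h, mul_inv_cancel]
  rcases (C.ker _).1 h1 with h2 | h2
  · left; exact mul_inv_eq_one.1 h2
  · right; exact mul_inv_eq_iff_eq_mul.1 h2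

theorem ne_zmul (g : G) : C.z * g ≠ g := fun h => C.z1 (mul_eq_right.1 h)

theorem zmul_zmul (g g' : G) : (C.z * g) * (C.z * g') = g * g' := by
  rw [mul_assoc, ← mul_assoc g, ← C.zc g, mul_assoc C.z g, ← mul_assoc C.z C.z, C.zz, one_mul]

theorem zconj (g y : G) : g * (C.z * y) * g⁻¹ = C.z * (g * y * g⁻¹) := by
  rw [← mul_assoc g, ← C.zc g]; simp only [mul_assoc]

theorem exists_lift (s : S) : ∃ g, C.π g = q s := C.surj _

theorem sq_or {y : G} {t : S} (hy : C.π y = q t) (ht : t * t = 1) : y * y = 1 ∨ y * y = C.z := by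
  apply (C.ker _).1
  rw [map_mul, hy, ← map_mul, ht, map_one]

/-- squares of lifts of conjugate elements -/
theorem sq_conj {y y' : G} {t t' g : S} (hy : C.π y = q t) (hy' : C.π y' = q t') (hg : g * t = t' * g)
    {c : G} (hc : c = 1 ∨ c = C.z) (h : y * y = c) : y' * y' = c := by
  obtain ⟨γ, hγ⟩ := C.exists_lift g
  have hcc : γ * c * γ⁻¹ = c := by
    rcases hc with rfl | rfl
    · simp
    · rw [← C.zc, mul_assoc, mul_inv_cancel, mul_one]
  have h1 : C.π (γ * y * γ⁻¹) = C.π y' := by
    rw [map_mul, map_mul, map_inv, hγ, hy, hy', ← map_mul, hg, map_mul, mul_assoc, mul_inv_cancel, mul_one]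
  have h2 : (γ * y * γ⁻¹) * (γ * y * γ⁻¹) = c := by
    rw [← hcc, ← h]; group
  rcases C.eq_or h1.symm with h3 | h3
  · rw [h3, h2]
  · rw [h3, C.zmul_zmul, h2]

/-- the key commutator computation in an extraspecial-like group -/
theorem no_quad {a b c : G} (ha : a * a = C.z) (hb : b * b = C.z) (hc : c * c = C.z) (hab : (a * b) * (a * b) = C.z)
    (hac : (a * c) * (a * c) = C.z) (hbc : (b * c) * (b * c) = C.z) (habc : (a * (b * c)) * (a * (b * c)) = C.z) :
    False := by
  have key : ∀ x y : G, x * x = C.z → y * y = C.z → (x * y) * (x * y) = C.z → x * y = C.z * (y * x) := by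
    intro x y hx hy hxy
    have h1 : (x * y) * (y * x) = 1 := by
      rw [mul_assoc, ← mul_assoc y y, hy, C.zc, ← mul_assoc, hx, C.zz]
    have h2 : (x * y) * (C.z * (y * x)) = C.z := by
      rw [← mul_assoc, ← C.zc, mul_assoc, h1, mul_one]
    exact mul_left_cancel (hxy.trans h2.symm)
  have h1 := key a b ha hb hab
  have h2 := key a c ha hc hac
  have h3 : a * (b * c) = (b * c) * a := by
    rw [← mul_assoc, h1, mul_assoc, mul_assoc, h2, ← mul_assoc b, ← C.zc b]
    rw [mul_assoc C.z b, ← mul_assoc C.z C.z, C.zz, one_mul, mul_assoc]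
  have h4 : (a * (b * c)) * (a * (b * c)) = 1 := by
    calc (a * (b * c)) * (a * (b * c)) = (a * (b * c)) * ((b * c) * a) := by rw [← h3]
      _ = a * ((b * c) * (b * c)) * a := by simp only [mul_assoc]
      _ = 1 := by rw [hbc, ← C.zc, mul_assoc, ha, C.zz]
  exact C.z1 (habc.symm.trans h4)

/-- element of `E_a` -/
def ea (x y : F4) : S := ⟨!![1, 0, x; 0, 1, y; 0, 0, 1], by rw [Matrix.det_fin_three]; revert x y; decide⟩

theorem ea_mul (x y x' y' : F4) : ea x y * ea x' y' = ea (x + x') (y + y') := by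
  apply Subtype.ext; revert x y x' y'; decide

theorem ea_sq (x y : F4) : ea x y * ea x y = 1 := by
  apply Subtype.ext; revert x y; decide

theorem ea_x23 (y : F4) : ea 0 y = x23 y := rfl
theorem ea_x13 (x : F4) : ea x 0 = x13 x := rfl

theorem conj_one (y : F4) : x21 y * ea 1 0 = ea 1 y * x21 y := by
  apply Subtype.ext; revert y; decide

/-- lifts of the elements of `E_a` square to one -/
theorem sq_x23_one {y : G} (hy : C.π y = q (x23 1)) : y * y = 1 := by
  by_contra hne
  have hz : y * y = C.z := (C.sq_or hy (ea_sq 0 1)).resolve_left hne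
  have hzz : C.z = 1 ∨ C.z = C.z := Or.inr rfl
  have e1 : ∀ {y' : G} {u : F4}, u = 1 ∨ u = F4.v ∨ u = F4.w → C.π y' = q (x23 u) → y' * y' = C.z := by
    intro y' u hu hy'
    rcases hu with rfl | rfl | rfl
    · exact C.sq_conj hy hy' (g := 1) (by rw [one_mul, mul_one]) hzz hz
    · exact C.sq_conj hy hy' (g := hh) (by apply Subtype.ext; decide) hzz hz
    · exact C.sq_conj hy hy' (g := hh * hh) (by apply Subtype.ext; decide) hzz hz
  have e2 : ∀ {y' : G}, C.π y' = q (x13 1) → y' * y' = C.z := by
    intro y' hy'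
    exact C.sq_conj hy hy' (g := wa) (wa_x23 1) hzz hz
  have e3 : ∀ {y' : G} (u : F4), C.π y' = q (ea 1 u) → y' * y' = C.z := by
    intro y' u hy'
    obtain ⟨y1, h1⟩ := C.exists_lift (x13 1)
    exact C.sq_conj h1 hy' (g := x21 u) (conj_one u) hzz (e2 h1)
  obtain ⟨b, hb⟩ := C.exists_lift (x23 F4.w)
  obtain ⟨c, hc⟩ := C.exists_lift (x13 1)
  refine C.no_quad (a := y) (b := b) (c := c) hz (e1 (by simp) hb) (e2 hc) (e1 (u := F4.v) (by simp) ?_)
    (e3 1 ?_) (e3 F4.w ?_) (e3 F4.v ?_)
  · rw [map_mul, hy, hb, ← map_mul]; congr 1; apply Subtype.ext; decide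
  · rw [map_mul, hy, hc, ← map_mul]; congr 1; apply Subtype.ext; decide
  · rw [map_mul, hb, hc, ← map_mul]; congr 1; apply Subtype.ext; decide
  · rw [map_mul, map_mul, hy, hb, hc, ← map_mul, ← map_mul]; congr 1; apply Subtype.ext; decide

theorem sq_of_conj {t g : S} (hg : g * x23 1 = t * g) {y : G} (hy : C.π y = q t) : y * y = 1 := by
  obtain ⟨y1, h1⟩ := C.exists_lift (x23 1)
  exact C.sq_conj h1 hy hg (Or.inl rfl) (C.sq_x23_one h1)

/-- a lift of order three of the torus element -/
theorem exists_h : ∃ h, C.π h = q hh ∧ h * h * h = 1 := by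
  obtain ⟨h, hh1⟩ := C.exists_lift hh
  have h2 : C.π (h * h * h) = 1 := by
    rw [map_mul, map_mul, hh1, ← map_mul, ← map_mul, hh_cube, map_one]
  rcases (C.ker _).1 h2 with h3 | h3
  · exact ⟨h, hh1, h3⟩
  · refine ⟨C.z * h, by rw [map_mul, C.πz, one_mul, hh1], ?_⟩
    rw [C.zmul_zmul, ← mul_assoc, ← C.zc, mul_assoc, h3, C.zz]

theorem cube_unique {x y : G} (h : C.π x = C.π y) (hx : x * x * x = 1) (hy : y * y * y = 1) : x = y := by
  rcases C.eq_or h with h1 | h1
  · exact h1
  · exfalso
    rw [h1, C.zmul_zmul, ← mul_assoc, ← C.zc, mul_assoc, hy, mul_one] at hx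
    exact C.z1 hx

/-- an additive family of lifts, equivariant under `h` -/
structure Fam (h : G) (m : F4) (x : F4 → L) (X : F4 → G) : Prop where
  lift : ∀ t, C.π (X t) = x t
  add : ∀ s t, X (s + t) = X s * X t
  conj : ∀ t, h * X t * h⁻¹ = X (m * t)

theorem exists_fam {h : G} (h3 : h * h * h = 1) {m : F4} (hm : m = F4.w ∨ m = F4.v) {x : F4 → L}
    (hx : ∀ s t, x (s + t) = x s * x t) (hc : ∀ t, C.π h * x t = x (m * t) * C.π h)
    (hs : ∀ y, C.π y = x 1 → y * y = 1) : ∃ X, C.Fam h m x X := by
  have hm2 : (1 : F4) + m = m * m := by rcases hm with rfl | rfl <;> decide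
  have hm3 : m * (m * m) = 1 := by rcases hm with rfl | rfl <;> decide
  have hx0 : x 0 = 1 := by
    have h1 := hx 0 0
    rw [add_zero] at h1
    exact (mul_eq_left.1 h1.symm)
  have hcc : ∀ {t : F4} {y : G}, C.π y = x t → C.π (h * y * h⁻¹) = x (m * t) := by
    intro t y hy
    rw [map_mul, map_mul, map_inv, hy, hc, mul_assoc, mul_inv_cancel, mul_one]
  obtain ⟨y, hy, hyy⟩ : ∃ y, C.π y = x 1 ∧ y * (h * y * h⁻¹) = h * (h * y * h⁻¹) * h⁻¹ := by
    obtain ⟨y, hy⟩ := C.surj (x 1)
    have e1 := hcc hy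
    have e2 := hcc e1
    have e3 : C.π (y * (h * y * h⁻¹)) = C.π (h * (h * y * h⁻¹) * h⁻¹) := by
      rw [map_mul, e2, e1, hy, ← hx, mul_one, hm2]
    rcases C.eq_or e3 with e4 | e4
    · exact ⟨y, hy, e4⟩
    · refine ⟨C.z * y, by rw [map_mul, C.πz, one_mul, hy], ?_⟩
      rw [C.zconj, C.zmul_zmul, C.zconj, e4]
  set y1 := h * y * h⁻¹ with hy1
  set y2 := h * y1 * h⁻¹ with hy2
  have e1 : C.π y1 = x m := by rw [hcc hy, mul_one]
  have e2 : C.π y2 = x (m * m) := hcc e1
  have e0 : h * y2 * h⁻¹ = y := by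
    rw [hy2, hy1]
    have : h * (h * (h * y * h⁻¹) * h⁻¹) * h⁻¹ = (h * h * h) * y * (h * h * h)⁻¹ := by group
    rw [this, h3]; group
  have s0 : y * y = 1 := hs y hy
  have s1 : y1 * y1 = 1 := by
    have : y1 * y1 = h * (y * y) * h⁻¹ := by rw [hy1]; group
    rw [this, s0]; group
  have s2 : y2 * y2 = 1 := by
    have : y2 * y2 = h * (y1 * y1) * h⁻¹ := by rw [hy2]; group
    rw [this, s1]; group
  have p01 : y * y1 = y2 := hyy
  have p12 : y1 * y2 = y := by
    have : h * (y * y1) * h⁻¹ = h * y2 * h⁻¹ := by rw [p01]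
    have h4 : h * (y * y1) * h⁻¹ = (h * y * h⁻¹) * (h * y1 * h⁻¹) := by group
    rw [h4, e0] at this
    exact this
  have p20 : y2 * y = y1 := by
    have : h * (y1 * y2) * h⁻¹ = h * y * h⁻¹ := by rw [p12]
    have h4 : h * (y1 * y2) * h⁻¹ = (h * y1 * h⁻¹) * (h * y2 * h⁻¹) := by group
    rw [h4, e0] at this
    exact this
  have i0 : y⁻¹ = y := inv_eq_of_mul_eq_one_right s0
  have i1 : y1⁻¹ = y1 := inv_eq_of_mul_eq_one_right s1
  have i2 : y2⁻¹ = y2 := inv_eq_of_mul_eq_one_right s2
  have p10 : y1 * y = y2 := by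
    have := congrArg (·⁻¹) p01
    simpa only [mul_inv_rev, i0, i1, i2] using this
  have p21 : y2 * y1 = y := by
    have := congrArg (·⁻¹) p12
    simpa only [mul_inv_rev, i0, i1, i2] using this
  have p02 : y * y2 = y1 := by
    have := congrArg (·⁻¹) p20
    simpa only [mul_inv_rev, i0, i1, i2] using this
  rcases hm with rfl | rfl
  · refine ⟨fun t => match t with | F4.o => 1 | F4.i => y | F4.w => y1 | F4.v => y2, ?_, ?_, ?_⟩
    · intro t
      cases t
      · exact (map_one _).trans hx0.symm
      · exact hy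
      · exact e1
      · exact e2
    · intro s t
      cases s <;> cases t <;> simp only [show (F4.o : F4) + F4.o = F4.o from rfl] <;>
        first
          | exact (one_mul _).symm
          | exact (mul_one _).symm
          | exact s0.symm
          | exact s1.symm
          | exact s2.symm
          | exact p01.symm
          | exact p12.symm
          | exact p20.symm
          | exact p10.symm
          | exact p21.symm
          | exact p02.symm
    · intro t
      cases t
      · change h * 1 * h⁻¹ = 1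
        group
      · exact hy1.symm
      · exact hy2.symm
      · exact e0
  · refine ⟨fun t => match t with | F4.o => 1 | F4.i => y | F4.v => y1 | F4.w => y2, ?_, ?_, ?_⟩
    · intro t
      cases t
      · exact (map_one _).trans hx0.symm
      · exact hy
      · exact e2
      · exact e1
    · intro s t
      cases s <;> cases t <;>
        first
          | exact (one_mul _).symm
          | exact (mul_one _).symm
          | exact s0.symm
          | exact s1.symm
          | exact s2.symm
          | exact p01.symm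
          | exact p12.symm
          | exact p20.symm
          | exact p10.symm
          | exact p21.symm
          | exact p02.symm
    · intro t
      cases t
      · change h * 1 * h⁻¹ = 1
        group
      · exact hy1.symm
      · exact e0
      · exact hy2.symm

namespace Fam

variable {C} {h : G} {m : F4} {x : F4 → L} {X : F4 → G}

theorem zero (hX : C.Fam h m x X) : X 0 = 1 := by
  have h1 := hX.add 0 0
  rw [add_zero] at h1
  exact mul_eq_left.1 h1.symm

theorem sq (hX : C.Fam h m x X) (t : F4) : X t * X t = 1 := by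
  rw [← hX.add, show t + t = 0 by revert t; decide, hX.zero]

theorem inv (hX : C.Fam h m x X) (t : F4) : (X t)⁻¹ = X t := inv_eq_of_mul_eq_one_right (hX.sq t)

theorem comm (hX : C.Fam h m x X) (s t : F4) : X s * X t = X t * X s := by
  rw [← hX.add, ← hX.add, add_comm]

theorem unique (hm : m = F4.w ∨ m = F4.v) (hX : C.Fam h m x X) {X' : F4 → G} (hX' : C.Fam h m x X') : X' = X := by
  have hm2 : (1 : F4) + m = m * m := by rcases hm with rfl | rfl <;> decide
  have key : X' 1 = X 1 := by
    rcases C.eq_or ((hX'.lift 1).trans (hX.lift 1).symm) with h1 | h1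
    · exact h1
    · exfalso
      have h2 : X' m = C.z * X m := by
        have := hX'.conj 1
        rw [h1, C.zconj, hX.conj, mul_one] at this
        exact this.symm
      have h3 : X' (m * m) = C.z * X (m * m) := by
        have := hX'.conj m
        rw [h2, C.zconj, hX.conj] at this
        exact this.symm
      have h4 := hX'.add 1 m
      rw [hm2, h1, h2, C.zmul_zmul, ← hX.add, hm2, h3] at h4
      exact C.ne_zmul _ h4
  have k1 : X' m = X m := by
    have := hX'.conj 1
    rw [key, hX.conj, mul_one] at this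
    exact this.symm
  have k2 : X' (m * m) = X (m * m) := by
    have := hX'.conj m
    rw [k1, hX.conj] at this
    exact this.symm
  have k0 : X' 0 = X 0 := by rw [hX.zero, hX'.zero]
  funext t
  rcases hm with rfl | rfl <;> cases t
  · exact k0
  · exact key
  · exact k1
  · exact k2
  · exact k0
  · exact key
  · exact k2
  · exact k1

end Fam

end Cv

end Cfsg.Agent.H840.L34
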