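import Cfsg.Agent.H840.L34.Tr
import Cfsg.Agent.H915.LD

/-!
# Ten-dimensional representations of double covers of `PSL_3(4)` : matrices
-/

set_option autoImplicit false
set_option linter.constructorNameAsVariable false
set_option linter.unusedSectionVars false

namespace Cfsg.Agent.H840.L34

open Cfsg.Agent.Lib.FieldFour Cfsg Cfsg.Geo
open scoped Matrix MatrixGroups

universe u

variable {ι : Type} [Fintype ι] [DecidableEq ι] {F : Type u} [Field F] {P : Subgroup (GL ι F)}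

/-- the natural representation -/
noncomputable def rp (P : Subgroup (GL ι F)) : P →* Module.End F (ι → F) :=
  ((Matrix.toLinAlgEquiv' (R := F) (n := ι)).toAlgHom : Matrix ι ι F →* Module.End F (ι → F)).comp
    ((Units.coeHom _).comp P.subtype)

theorem rp_apply (p : P) (v : ι → F) : rp P p v = ((p : GL ι F) : Matrix ι ι F) *ᵥ v := rfl

theorem ext_vec {x y : GL ι F} (h : ∀ v, (x : Matrix ι ι F) *ᵥ v = (y : Matrix ι ι F) *ᵥ v) : x = y := by
  apply Units.ext
  exact Matrix.ext_of_mulVec_single fun i => h _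

theorem mul_vec (x y : GL ι F) (v : ι → F) : ((x * y : GL ι F) : Matrix ι ι F) *ᵥ v =
    (x : Matrix ι ι F) *ᵥ ((y : Matrix ι ι F) *ᵥ v) := by
  rw [Units.val_mul, Matrix.mulVec_mulVec]

/-- the matrix of a linear automorphism -/
noncomputable def mk (E : (ι → F) ≃ₗ[F] (ι → F)) : GL ι F :=
  ⟨LinearMap.toMatrix' (E : (ι → F) →ₗ[F] (ι → F)), LinearMap.toMatrix' (E.symm : (ι → F) →ₗ[F] (ι → F)),
    by rw [← LinearMap.toMatrix'_mul]; simp [Module.End.mul_eq_comp], by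
      rw [← LinearMap.toMatrix'_mul]; simp [Module.End.mul_eq_comp]⟩

theorem mk_vec (E : (ι → F) ≃ₗ[F] (ι → F)) (v : ι → F) : (mk E : Matrix ι ι F) *ᵥ v = E v := by
  have := LinearMap.toMatrix'_mulVec (E : (ι → F) →ₗ[F] (ι → F)) v
  exact this

theorem tr_rp (p : P) : LinearMap.trace F (ι → F) (rp P p) = H915.LD.tr (p : GL ι F) := by
  change LinearMap.trace F (ι → F) (Matrix.toLin' ((p : GL ι F) : Matrix ι ι F)) = _
  rw [LinearMap.trace_eq_matrix_trace _ (Pi.basisFun _ _), LinearMap.toMatrix_eq_toMatrix', LinearMap.toMatrix'_toLin']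
  rfl

theorem rh (C : Cv P) (hz : ((C.z : GL ι F) : Matrix ι ι F) = -1) (h2 : (2 : F) ≠ 0) (hn : Fintype.card ι = 10) :
    RH C (rp P) where
  z := by
    apply LinearMap.ext
    intro v
    rw [rp_apply, hz, Matrix.neg_mulVec, Matrix.one_mulVec]
    rfl
  two := h2
  dim := by rw [Module.finrank_fintype_fun_eq_card, hn]
  faith := by
    intro g hg
    apply Subtype.ext
    apply ext_vec
    intro v
    rw [← rp_apply, hg, Subgroup.coe_one, Units.val_one, Matrix.one_mulVec]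
    rfl

/-! ### forms -/

/-- a form linear in the first variable and semilinear in the second one -/
structure Sq (τ : F → F) (f : (ι → F) → (ι → F) → F) : Prop where
  add_left : ∀ x y v, f (x + y) v = f x v + f y v
  smul_left : ∀ (c : F) (x v : ι → F), f (c • x) v = c * f x v
  add_right : ∀ x y v, f v (x + y) = f v x + f v y
  smul_right : ∀ (c : F) (x v : ι → F), f v (c • x) = τ c * f v x

/-- `f` is fixed by `P` -/
def Fx (P : Subgroup (GL ι F)) (f : (ι → F) → (ι → F) → F) : Prop :=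
  ∀ p ∈ P, ∀ u v, f ((p : Matrix ι ι F) *ᵥ u) ((p : Matrix ι ι F) *ᵥ v) = f u v

namespace Sq

variable {τ : F → F} {f : (ι → F) → (ι → F) → F} (hf : Sq τ f)

include hf in
theorem zero_left (v : ι → F) : f 0 v = 0 := by
  have := hf.smul_left 0 0 v
  rwa [zero_smul, zero_mul] at this

include hf in
theorem zero_right (v : ι → F) : f v 0 = 0 := by
  have := hf.add_right 0 0 v
  rw [add_zero] at this
  exact left_eq_add.1 this

include hf in
theorem neg_right (v w : ι → F) : f v (-w) = -f v w := by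
  have := hf.add_right w (-w) v
  rw [add_neg_cancel, hf.zero_right] at this
  exact (neg_eq_of_add_eq_zero_right this.symm).symm

include hf in
theorem ps_right (t : F4) (v w : ι → F) : f v (ps F t • w) = ps F t * f v w := by
  cases t
  · rw [ps_o, one_smul, one_mul]
  · rw [ps_i, one_smul, one_mul]
  · rw [ps_w, neg_one_smul, neg_one_mul, hf.neg_right]
  · rw [ps_v, neg_one_smul, neg_one_mul, hf.neg_right]

include hf in
/-- a map preserving the form on a basis preserves the form -/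
theorem of_basis {κ : Type*} (B : Module.Basis κ F (ι → F)) (g : GL ι F)
    (h : ∀ k l, f ((g : Matrix ι ι F) *ᵥ B k) ((g : Matrix ι ι F) *ᵥ B l) = f (B k) (B l)) (x y : ι → F) :
    f ((g : Matrix ι ι F) *ᵥ x) ((g : Matrix ι ι F) *ᵥ y) = f x y := by
  have h1 : ∀ k y, f ((g : Matrix ι ι F) *ᵥ B k) ((g : Matrix ι ι F) *ᵥ y) = f (B k) y := by
    intro k y
    have hy : y ∈ Submodule.span F (Set.range B) := by rw [B.span_eq]; trivial
    induction hy using Submodule.span_induction with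
    | mem y hy => obtain ⟨l, rfl⟩ := hy; exact h k l
    | zero => rw [Matrix.mulVec_zero, hf.zero_right, hf.zero_right]
    | add x y _ _ hx hy => rw [Matrix.mulVec_add, hf.add_right, hf.add_right, hx, hy]
    | smul c x _ hx => rw [Matrix.mulVec_smul, hf.smul_right, hf.smul_right, hx]
  have hx : x ∈ Submodule.span F (Set.range B) := by rw [B.span_eq]; trivial
  induction hx using Submodule.span_induction with
  | mem x hx => obtain ⟨k, rfl⟩ := hx; exact h1 k y
  | zero => rw [Matrix.mulVec_zero, hf.zero_left, hf.zero_left]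
  | add x x' _ _ hx hx' => rw [Matrix.mulVec_add, hf.add_left, hf.add_left, hx, hx']
  | smul c x _ hx => rw [Matrix.mulVec_smul, hf.smul_left, hf.smul_left, hx]

end Sq

section inst

variable {C : Cv P} {c : Conf C} (D : Dt C c (rp P)) {a b : P} (ha : RH.IsA (rp P) C a) (hb : RH.IsB (rp P) C b)
variable {v0 : ι → F} (hv : v0 ∈ W (RH.Ta (rp P) c) (0, 0)) (h0 : v0 ≠ 0)

include D ha hb hv h0 in
theorem ov (hz : ((C.z : GL ι F) : Matrix ι ι F) = -1) : Ov c a b (mk (D.G0 ha hv h0)) (mk (D.U ha hv h0)) where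
  aπ := ha.π
  bπ := hb.π
  zc x := by
    apply Units.ext
    rw [Units.val_mul, Units.val_mul, hz, neg_mul, mul_neg, one_mul, mul_one]
  gg := by
    apply ext_vec; intro v
    rw [mul_vec, mk_vec, mk_vec, D.G0_G0, Units.val_one, Matrix.one_mulVec]
  g12 t := by
    apply ext_vec; intro v
    rw [mul_vec, mul_vec, mk_vec, mk_vec, ← rp_apply, ← rp_apply, D.G0_12]
  g13 t := by
    apply ext_vec; intro v
    rw [mul_vec, mul_vec, mk_vec, mk_vec, ← rp_apply, ← rp_apply, D.G0_13]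
  g23 t := by
    apply ext_vec; intro v
    rw [mul_vec, mul_vec, mul_vec, mk_vec, mk_vec, ← rp_apply, ← rp_apply, ← rp_apply, D.G0_23]
  gh := by
    apply ext_vec; intro v
    rw [mul_vec, mul_vec, mk_vec, mk_vec, ← rp_apply, ← rp_apply, D.G0_h]
  ga := by
    apply ext_vec; intro v
    rw [mul_vec, mul_vec, mul_vec, mul_vec, mk_vec, mk_vec, mk_vec, ← rp_apply, ← rp_apply, ← rp_apply, D.G0_a]
  gb := by
    apply ext_vec; intro v
    rw [mul_vec, mul_vec, mk_vec, mk_vec, ← rp_apply, ← rp_apply, D.G0_b ha hb hv h0]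
  uu := by
    apply ext_vec; intro v
    rw [mul_vec, mk_vec, mk_vec, D.U_U, Units.val_one, Matrix.one_mulVec]
  ug := by
    apply ext_vec; intro v
    rw [mul_vec, mul_vec, mk_vec, mk_vec, mk_vec, mk_vec, D.U_G0]
  u12 t := by
    apply ext_vec; intro v
    rw [mul_vec, mul_vec, mk_vec, mk_vec, ← rp_apply, ← rp_apply, D.U_12]
  u13 t := by
    apply ext_vec; intro v
    rw [mul_vec, mul_vec, mk_vec, mk_vec, ← rp_apply, ← rp_apply, D.U_13]
  u23 t := by
    apply ext_vec; intro v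
    rw [mul_vec, mul_vec, mk_vec, mk_vec, ← rp_apply, ← rp_apply, D.U_23]
  uh := by
    apply ext_vec; intro v
    rw [mul_vec, mul_vec, mk_vec, mk_vec, ← rp_apply, ← rp_apply, D.U_h]
  ua := by
    apply ext_vec; intro v
    rw [mul_vec, mul_vec, mk_vec, mk_vec, ← rp_apply, ← rp_apply, D.U_a]
  ub := by
    apply ext_vec; intro v
    rw [mul_vec, mul_vec, mk_vec, mk_vec, ← rp_apply, ← rp_apply, D.U_b ha hb hv h0]

/-- weight vectors are images of the first one -/
theorem vv_orbit (c : Conf C) (a : P) (v0 : ι → F) (i j : F4) : ∃ p : P, Dt.vv (rp P) c a v0 i j = rp P p v0 := by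
  by_cases hi : i = 0
  · subst hi
    exact ⟨_, Dt.vv_zero j⟩
  · refine ⟨c.X12 (if j = 0 then 0 else F4.w * i) * (a * c.X12 (i * i)), ?_⟩
    rw [Dt.vv_ne hi, RH.mul_apply, RH.mul_apply]
    rfl

theorem exists_ch : ∀ k l : F4 × F4, k ≠ l → ∃ x : F4 × F4,
    ((k.1 * x.1 = 0 ∨ k.1 * x.1 = 1) ↔ ¬ (l.1 * x.1 = 0 ∨ l.1 * x.1 = 1)) ∧ x.2 = 0 ∨
    ((k.2 * x.2 = 0 ∨ k.2 * x.2 = 1) ↔ ¬ (l.2 * x.2 = 0 ∨ l.2 * x.2 = 1)) ∧ x.1 = 0 := by decide

theorem ps_cases (t : F4) : (ps F t = 1 ∧ (t = 0 ∨ t = 1)) ∨ (ps F t = -1 ∧ ¬ (t = 0 ∨ t = 1)) := by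
  cases t
  · exact Or.inl ⟨rfl, by decide⟩
  · exact Or.inl ⟨rfl, by decide⟩
  · exact Or.inr ⟨rfl, by decide⟩
  · exact Or.inr ⟨rfl, by decide⟩

theorem ps_prod {s t : F4} (h : (s = 0 ∨ s = 1) ↔ ¬ (t = 0 ∨ t = 1)) : ps F s * ps F t = -1 := by
  rcases ps_cases (F := F) s with ⟨h1, h2⟩ | ⟨h1, h2⟩ <;> rcases ps_cases (F := F) t with ⟨h3, h4⟩ | ⟨h3, h4⟩
  · exact absurd h4 (h.1 h2)
  · rw [h1, h3, one_mul]
  · rw [h1, h3, mul_one]
  · exact absurd (h.2 h4) h2

variable {τ : F → F} {f : (ι → F) → (ι → F) → F} (hf : Sq τ f) (hP : Fx P f)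

include hf hP in
/-- weight vectors of different weights are orthogonal -/
theorem orth (c : Conf C) (h2 : (2 : F) ≠ 0) {k l : F4 × F4} (hkl : k ≠ l) {u v : ι → F} (hu : u ∈ W (RH.Ta (rp P) c) k)
    (hv : v ∈ W (RH.Ta (rp P) c) l) : f u v = 0 := by
  obtain ⟨i, j⟩ := k
  obtain ⟨i', j'⟩ := l
  rw [RH.mem_a] at hu hv
  have fin : f u v = -f u v → f u v = 0 := by
    intro h
    have h3 : (2 : F) * f u v = 0 := by linear_combination h
    exact (mul_eq_zero.1 h3).resolve_left h2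
  obtain ⟨⟨x, y⟩, hx | hx⟩ := exists_ch _ _ hkl
  · apply fin
    have h3 := hP _ (c.X13 x).2 u v
    rw [← rp_apply, ← rp_apply, hu.1, hv.1, hf.smul_left, hf.ps_right, ← mul_assoc, ps_prod hx.1] at h3
    linear_combination -h3
  · apply fin
    have h3 := hP _ (c.X23 y).2 u v
    rw [← rp_apply, ← rp_apply, hu.2, hv.2, hf.smul_left, hf.ps_right, ← mul_assoc, ps_prod hx.1] at h3
    linear_combination -h3

include D ha hv hf hP in
theorem g_form (x y : ι → F) : f ((mk (D.G0 ha hv h0) : Matrix ι ι F) *ᵥ x) ((mk (D.G0 ha hv h0) : Matrix ι ι F) *ᵥ y) =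
    f x y := by
  apply hf.of_basis (D.B ha hv h0)
  intro k l
  rw [mk_vec, mk_vec]
  have e : ∀ k, D.G0 ha hv h0 (D.B ha hv h0 k) = D.B ha hv h0 (σg k) := fun k => Module.Basis.equiv_apply _ _ _ _
  rw [e, e]
  have mem : ∀ k : Om, D.B ha hv h0 k ∈ W (RH.Ta (rp P) c) k.1 := by
    intro k
    rw [D.B_apply ha hv h0]
    exact D.mem_vv ha hv k.2
  have nrm : ∀ k : Om, f (D.B ha hv h0 k) (D.B ha hv h0 k) = f v0 v0 := by
    intro k
    rw [D.B_apply ha hv h0]
    obtain ⟨p, hp⟩ := vv_orbit c a v0 k.1.1 k.1.2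
    rw [hp, rp_apply]
    exact hP _ p.2 _ _
  by_cases hkl : k = l
  · subst hkl
    rw [nrm, nrm]
  · have h1 : k.1 ≠ l.1 := fun h => hkl (Subtype.ext h)
    have h2 : (σg k).1 ≠ (σg l).1 := fun h => hkl (σg.injective (Subtype.ext h))
    rw [orth hf hP c D.R.two h1 (mem k) (mem l), orth hf hP c D.R.two h2 (mem _) (mem _)]

end inst

/-- **The overgroup.** -/
theorem exists_ov (C : Cv P) (hz : ((C.z : GL ι F) : Matrix ι ι F) = -1) (h2 : (2 : F) ≠ 0) (h7 : (7 : F) ≠ 0)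
    (hn : Fintype.card ι = 10) :
    ∃ (α : MulAut L) (c : Conf (C.comp α)) (a b : P) (g u : GL ι F), Ov c a b g u ∧
      Ex c a b (H915.LD.tr : GL ι F → F) ∧
      ∀ (τ : F → F) (f : (ι → F) → (ι → F) → F), Sq τ f → Fx P f → ∀ x y,
        f ((g : Matrix ι ι F) *ᵥ x) ((g : Matrix ι ι F) *ᵥ y) = f x y := by
  obtain ⟨α, c, h1⟩ := exists_good C
  have D : Dt (C.comp α) c (rp P) := ⟨rh _ hz h2 hn, h1⟩
  obtain ⟨γ, hγ⟩ := c.exists_conj wa_g
  obtain ⟨δ, hδ⟩ := c.exists_conj wb_g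
  have ha : RH.IsA (rp P) (C.comp α) (γ * c.X23 1 * γ⁻¹) :=
    ⟨hγ, by rw [RH.trace_conj]; exact D.R.trace_23 c h1 one_ne_zero⟩
  have hb : RH.IsB (rp P) (C.comp α) (δ * c.X23 1 * δ⁻¹) :=
    ⟨hδ, by rw [RH.trace_conj]; exact D.R.trace_23 c h1 one_ne_zero⟩
  obtain ⟨v0, hv, h0⟩ : ∃ v, v ∈ W (RH.Ta (rp P) c) (0, 0) ∧ v ≠ 0 := by
    obtain ⟨u, hu, h0⟩ := D.R.exists_u c h1
    exact ⟨_, hu ⟨(0, 0), by decide⟩, h0 _⟩
  refine ⟨α, c, _, _, _, _, ov D ha hb hv h0 hz, ?_, fun τ f hf hP x y => g_form D ha hv h0 hf hP x y⟩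
  have t1 : H915.LD.tr ((c.X23 1 : P) : GL ι F) = 2 := by
    rw [← tr_rp]; exact D.R.trace_23 c h1 one_ne_zero
  have t2 : H915.LD.tr (((C.comp α).z * c.X23 1 : P) : GL ι F) = -2 := by
    have e : rp P ((C.comp α).z * c.X23 1) = -rp P (c.X23 1) := by
      rw [map_mul, D.R.z]
      exact LinearMap.ext fun v => rfl
    rw [← tr_rp, e, map_neg, D.R.trace_23 c h1 one_ne_zero]
  refine ⟨h1, D.R.not_triv c h1, ⟨γ, rfl⟩, ⟨δ, rfl⟩, fun x y => H915.LD.tr_conj x y, ?_, ?_⟩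
  · rw [t1, t2]
    intro h
    have h3 : (2 : F) * 2 = 0 := by linear_combination h
    rcases mul_eq_zero.1 h3 with h4 | h4 <;> exact h2 h4
  · rw [← tr_rp, ← tr_rp]
    exact D.trace_ne ha hb hv h0 h7

end Cfsg.Agent.H840.L34
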