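import Cfsg.Agent.H840.L34.Abs
import Cfsg.Agent.S2690

/-!
# The normaliser of `2.L3(4)`
-/

set_option autoImplicit false
set_option linter.constructorNameAsVariable false

namespace Cfsg.Agent.H840.L34

open Cfsg.Agent.Lib.FieldFour
open Cfsg.Agent.ClassicalGeometry.AutPSL.Auto

theorem ringEquiv_cases (σ : F4 ≃+* F4) : (∀ x, σ x = x) ∨ (∀ x, σ x = x * x) := by
  have h0 : σ F4.o = F4.o := map_zero σ
  have h1 : σ F4.i = F4.i := map_one σ
  have hw : σ F4.w ≠ F4.o := by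
    intro h; rw [← h0] at h; exact absurd (σ.injective h) (by decide)
  have hw1 : σ F4.w ≠ F4.i := by
    intro h; rw [← h1] at h; exact absurd (σ.injective h) (by decide)
  have hvv : σ F4.v = σ F4.w * σ F4.w := by rw [← map_mul]; rfl
  have h2 : σ F4.w = F4.w ∨ σ F4.w = F4.v := by
    revert hw hw1
    generalize σ F4.w = y
    revert y; decide
  rcases h2 with h2 | h2
  · left
    intro x
    cases x
    · exact h0
    · exact h1
    · exact h2
    · rw [hvv, h2]; rfl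
  · right
    intro x
    cases x
    · exact h0
    · exact h1
    · exact h2
    · rw [hvv, h2]

theorem det_DD (m : F4) (hm : m ≠ 0) : (DD m : Matrix (Fin 3) (Fin 3) F4).det = m⁻¹ := by
  change (!![if m = 0 then 1 else m⁻¹, 0, 0; 0, 1, 0; 0, 0, 1] : Matrix (Fin 3) (Fin 3) F4).det = m⁻¹
  rw [Matrix.det_fin_three]
  revert m; decide

/-- the shape of an automorphism of `PSL_3(4)` -/
theorem aut_form (α : MulAut L) : ∃ (A : S) (m : F4) (σ : F4 ≃+* F4) (γ : MulAut S), m ≠ 0 ∧ (γ = 1 ∨ γ = itr) ∧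
    ∀ s, α (q s) = q A * q (cj (DD m) (fld σ (γ s))) * (q A)⁻¹ := by
  have : Fact (Nat.Prime 2) := ⟨Nat.prime_two⟩
  obtain ⟨δ, φ, γ, σ, ⟨g, hδ⟩, hφ, hγ, rfl⟩ := Cfsg.Agent.S2690.result (F := F4) (p := 2) (f := 2) F4.card (by norm_num)
    (n := 3) (by norm_num) (by norm_num) α
  set d := (g : Matrix (Fin 3) (Fin 3) F4).det with hd
  have hd0 : d ≠ 0 := by
    have := g.isUnit
    rw [Matrix.isUnit_iff_isUnit_det] at this
    exact this.ne_zero
  have hm : d⁻¹ ≠ 0 := inv_ne_zero hd0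
  have hdet : ((g : Matrix (Fin 3) (Fin 3) F4) * ((DD d⁻¹)⁻¹ : GL (Fin 3) F4)).det = 1 := by
    rw [Matrix.det_mul, ← hd]
    have h1 : (DD d⁻¹ : Matrix (Fin 3) (Fin 3) F4).det * (((DD d⁻¹)⁻¹ : GL (Fin 3) F4) : Matrix (Fin 3) (Fin 3) F4).det = 1 := by
      rw [← Matrix.det_mul, ← Units.val_mul, mul_inv_cancel, Units.val_one, Matrix.det_one]
    rw [det_DD _ hm, inv_inv] at h1
    exact h1
  let A : S := ⟨_, hdet⟩
  have hγ' : ∃ γ' : MulAut S, (γ' = 1 ∨ γ' = itr) ∧ ∀ s, γ (q s) = q (γ' s) := by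
    rcases hγ with rfl | hγ
    · exact ⟨1, Or.inl rfl, fun s => rfl⟩
    · exact ⟨itr, Or.inr rfl, fun s => hγ s (itr s) rfl⟩
  obtain ⟨γ', hγ1, hγ2⟩ := hγ'
  refine ⟨A, d⁻¹, σ, γ', hm, hγ1, fun s => ?_⟩
  have e1 : φ (q (γ' s)) = q (fld σ (γ' s)) := hφ _ _ rfl
  have e2 : ∀ t : S, δ (q t) = q (cj g t) := fun t => hδ t (cj g t) (coe_cj g t)
  change δ (φ (γ (q s))) = _
  rw [hγ2, e1, e2, ← map_inv, ← map_mul, ← map_mul]
  congr 1
  rw [eq_mul_inv_iff_mul_eq]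
  apply Subtype.ext
  rw [Matrix.SpecialLinearGroup.coe_mul, Matrix.SpecialLinearGroup.coe_mul, coe_cj, coe_cj]
  change (g : Matrix (Fin 3) (Fin 3) F4) * _ * ((g⁻¹ : GL (Fin 3) F4) : Matrix (Fin 3) (Fin 3) F4) *
    ((g : Matrix (Fin 3) (Fin 3) F4) * ((DD d⁻¹)⁻¹ : GL (Fin 3) F4)) = ((g : Matrix (Fin 3) (Fin 3) F4) *
    ((DD d⁻¹)⁻¹ : GL (Fin 3) F4)) * ((DD d⁻¹ : Matrix (Fin 3) (Fin 3) F4) * _ *
    (((DD d⁻¹)⁻¹ : GL (Fin 3) F4) : Matrix (Fin 3) (Fin 3) F4))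
  have k1 : ((g⁻¹ : GL (Fin 3) F4) : Matrix (Fin 3) (Fin 3) F4) * (g : Matrix (Fin 3) (Fin 3) F4) = 1 := by
    rw [← Units.val_mul, inv_mul_cancel, Units.val_one]
  have k2 : (((DD d⁻¹)⁻¹ : GL (Fin 3) F4) : Matrix (Fin 3) (Fin 3) F4) * (DD d⁻¹ : Matrix (Fin 3) (Fin 3) F4) = 1 := by
    rw [← Units.val_mul, inv_mul_cancel, Units.val_one]
  simp only [mul_assoc]
  rw [← mul_assoc ((g⁻¹ : GL (Fin 3) F4) : Matrix (Fin 3) (Fin 3) F4) (g : Matrix (Fin 3) (Fin 3) F4), k1, one_mul,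
    ← mul_assoc (((DD d⁻¹)⁻¹ : GL (Fin 3) F4) : Matrix (Fin 3) (Fin 3) F4) (DD d⁻¹ : Matrix (Fin 3) (Fin 3) F4), k2,
    one_mul]

/-! ### automorphisms of the cover -/

section kappa

variable {G : Type*} [Group G] {C : Cv G} (c : Conf C)

theorem e_inj (e1 : c.e 1 = 1) (ew : c.e F4.w = C.z) {m : F4} (hm : m ≠ 0) (h : c.e m = 1) : m = 1 := by
  have ev : c.e F4.v = C.z := by
    have := c.e_add 1 F4.w
    rw [e1, ew, one_mul] at this
    exact this
  cases m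
  · exact absurd rfl hm
  · rfl
  · exact absurd (ew.symm.trans h) C.z1
  · exact absurd (ev.symm.trans h) C.z1

theorem eps_fix {κ : G ≃* G} (hz : κ C.z = C.z) (s t : F4) : κ (c.eps s t) = c.eps s t := by
  rcases c.eps_or s t with h | h
  · rw [h, map_one]
  · rw [h, hz]

theorem kh {κ : G ≃* G} (hh' : C.π (κ c.h) = q hh) : κ c.h = c.h := by
  apply C.cube_unique (hh'.trans c.hπ.symm) _ c.h3
  rw [← map_mul, ← map_mul, c.h3, map_one]

theorem kfam {κ : G ≃* G} (hk : κ c.h = c.h) {m n : F4} {x x' : F4 → L} {X : F4 → G} (hX : C.Fam c.h m x X)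
    (hl : ∀ t, C.π (κ (X (n * t))) = x' t) : C.Fam c.h m x' (fun t => κ (X (n * t))) := by
  refine ⟨hl, fun s t => by rw [mul_add, hX.add, map_mul], fun t => ?_⟩
  rw [mul_left_comm, ← hX.conj, map_mul, map_mul, map_inv, hk]

theorem caseI (e1 : c.e 1 = 1) (ew : c.e F4.w = C.z) {a b : G} (ha : C.π a = q wa) (hb : C.π b = q wb)
    (ac : ∃ γ, a = γ * c.X23 1 * γ⁻¹) (bc : ∃ γ, b = γ * c.X23 1 * γ⁻¹)
    {κ : G ≃* G} (hz : κ C.z = C.z) {m : F4} (hm : m ≠ 0)
    (k12 : ∀ t, C.π (κ (c.X12 t)) = q (x12 (m⁻¹ * t))) (k23 : ∀ t, C.π (κ (c.X23 t)) = q (x23 t))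
    (k13 : ∀ t, C.π (κ (c.X13 t)) = q (x13 (m⁻¹ * t))) (khh : C.π (κ c.h) = q hh)
    (ka : m = 1 → C.π (κ a) = q wa) (kb : m = 1 → C.π (κ b) = q wb) (y : G) : κ y = y := by
  have hk := kh c khh
  have f12 : ∀ t, κ (c.X12 (m * t)) = c.X12 t := fun t =>
    congrFun (c.f12.unique (Or.inr rfl) (kfam c hk (n := m) c.f12 (fun t => by
      rw [k12, ← mul_assoc, inv_mul_cancel₀ hm, one_mul]))) t
  have f23 : ∀ t, κ (c.X23 (1 * t)) = c.X23 t := fun t =>
    congrFun (c.f23.unique (Or.inr rfl) (kfam c hk (n := 1) c.f23 (fun t => by rw [k23, one_mul]))) t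
  have f13 : ∀ t, κ (c.X13 (m * t)) = c.X13 t := fun t =>
    congrFun (c.f13.unique (Or.inl rfl) (kfam c hk (n := m) c.f13 (fun t => by
      rw [k13, ← mul_assoc, inv_mul_cancel₀ hm, one_mul]))) t
  have hm1 : m = 1 := by
    have h1 := eps_fix c hz (m * 1) 1
    unfold Conf.eps at h1
    have f1 := f23 1
    rw [one_mul] at f1
    rw [map_mul, map_mul, map_mul, map_mul, f12, f1, mul_assoc m 1 1, f13] at h1
    have h2 : c.eps 1 1 = c.eps (m * 1) 1 := by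
      unfold Conf.eps
      rw [mul_assoc m 1 1]; exact h1
    rw [c.eps_eq, c.eps_eq, mul_one, mul_one, mul_one, mul_one, e1] at h2
    have h3 := e_inj c e1 ew (mul_ne_zero hm hm) h2.symm
    revert h3 hm
    clear * -
    revert m; decide
  subst hm1
  have g12 : ∀ t, κ (c.X12 t) = c.X12 t := fun t => by have := f12 t; rwa [one_mul] at this
  have g23 : ∀ t, κ (c.X23 t) = c.X23 t := fun t => by have := f23 t; rwa [one_mul] at this
  -- `κ y = y` or `z y`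
  let N' : Subgroup G :=
    { carrier := {y | C.π (κ y) = C.π y}
      one_mem' := by
        change C.π (κ 1) = C.π 1
        rw [map_one]
      mul_mem' := by
        intro x y hx hy
        change C.π (κ (x * y)) = C.π (x * y)
        rw [map_mul, map_mul, map_mul, hx, hy]
      inv_mem' := by
        intro x hx
        change C.π (κ x⁻¹) = C.π x⁻¹
        rw [map_inv, map_inv, map_inv, hx] }
  have hN' : N' = ⊤ := by
    apply P_gen' c ha hb
    · intro s; change C.π (κ (c.X12 s)) = _; rw [g12]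
    · intro s; change C.π (κ (c.X23 s)) = _; rw [g23]
    · exact (ka rfl).trans ha.symm
    · exact (kb rfl).trans hb.symm
    · change C.π (κ C.z) = _; rw [hz]
  have hy' : ∀ y, κ y = y ∨ κ y = C.z * y := fun y => C.eq_or (by
    have : y ∈ N' := by rw [hN']; trivial
    exact this)
  have hconj : ∀ γ : G, κ (γ * c.X23 1 * γ⁻¹) = γ * c.X23 1 * γ⁻¹ := by
    intro γ
    rw [map_mul, map_mul, map_inv, g23]
    rcases hy' γ with h | h
    · rw [h]
    · rw [h, mul_inv_rev, C.zinv]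
      calc C.z * γ * c.X23 1 * (γ⁻¹ * C.z) = C.z * (γ * c.X23 1 * γ⁻¹ * C.z) := by group
        _ = C.z * (C.z * (γ * c.X23 1 * γ⁻¹)) := by rw [← C.zc]
        _ = _ := by rw [← mul_assoc, C.zz, one_mul]
  let N : Subgroup G :=
    { carrier := {y | κ y = y}
      one_mem' := map_one κ
      mul_mem' := by
        intro x y hx hy
        change κ (x * y) = x * y
        rw [map_mul, hx, hy]
      inv_mem' := by
        intro x hx
        change κ x⁻¹ = x⁻¹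
        rw [map_inv, hx] }
  have hN : N = ⊤ := by
    apply P_gen' c ha hb
    · exact g12
    · exact g23
    · obtain ⟨γ, rfl⟩ := ac; exact hconj γ
    · obtain ⟨γ, rfl⟩ := bc; exact hconj γ
    · exact hz
  have : y ∈ N := by rw [hN]; trivial
  exact this

theorem caseII {F : Type*} (e1 : c.e 1 = 1) (ew : c.e F4.w = C.z) {a b : G} (ha : C.π a = q wa) (hb : C.π b = q wb)
    (ac : ∃ γ, a = γ * c.X23 1 * γ⁻¹) (bc : ∃ γ, b = γ * c.X23 1 * γ⁻¹)
    {χ : G → F} (cl : ∀ x y, χ (x * y * x⁻¹) = χ y) (nz : χ (c.X23 1) ≠ χ (C.z * c.X23 1))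
    (ab : χ (a * b * c.X23 1) ≠ χ (b * a * c.X12 1))
    {κ : G ≃* G} (hχ : ∀ y, χ (κ y) = χ y) (hz : κ C.z = C.z) {m : F4} (hm : m ≠ 0)
    (k12 : ∀ t, C.π (κ (c.X12 t)) = q (x23 (m * t))) (k23 : ∀ t, C.π (κ (c.X23 t)) = q (x12 t))
    (k13 : ∀ t, C.π (κ (c.X13 t)) = q (x13 (m * t))) (khh : C.π (κ c.h) = q hh)
    (ka : m = 1 → C.π (κ a) = q wb) (kb : m = 1 → C.π (κ b) = q wa) : False := by
  have hk := kh c khh
  have f12 : ∀ t, κ (c.X12 (m⁻¹ * t)) = c.X23 t := fun t =>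
    congrFun (c.f23.unique (Or.inr rfl) (kfam c hk (n := m⁻¹) c.f12 (fun t => by
      rw [k12, ← mul_assoc, mul_inv_cancel₀ hm, one_mul]))) t
  have f23 : ∀ t, κ (c.X23 (1 * t)) = c.X12 t := fun t =>
    congrFun (c.f12.unique (Or.inr rfl) (kfam c hk (n := 1) c.f23 (fun t => by rw [k23, one_mul]))) t
  have f13 : ∀ t, κ (c.X13 (m⁻¹ * t)) = c.X13 t := fun t =>
    congrFun (c.f13.unique (Or.inl rfl) (kfam c hk (n := m⁻¹) c.f13 (fun t => by
      rw [k13, ← mul_assoc, mul_inv_cancel₀ hm, one_mul]))) t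
  have hsymm : ∀ s t, c.X23 s * c.X12 t * c.X23 s * c.X12 t * c.X13 (t * s) = c.eps t s := by
    intro s t
    have h1 : c.X23 s * c.X12 t * c.X23 s * c.X12 t = (c.X12 t * c.X23 s * c.X12 t * c.X23 s)⁻¹ := by
      simp only [mul_inv_rev, c.f12.inv, c.f23.inv, mul_assoc]
    have h2 : c.X12 t * c.X23 s * c.X12 t * c.X23 s = c.eps t s * c.X13 (t * s) := by
      unfold Conf.eps
      rw [mul_assoc (c.X12 t * c.X23 s * c.X12 t * c.X23 s), c.f13.sq, mul_one]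
    have h3 : (c.eps t s)⁻¹ = c.eps t s := by
      rcases c.eps_or t s with h | h
      · rw [h, inv_one]
      · rw [h, C.zinv]
    rw [h1, h2, mul_inv_rev, c.f13.inv, h3, ← c.eps_comm, mul_assoc, c.f13.sq, mul_one]
  have hm1 : m = 1 := by
    have h1 := eps_fix c hz (m⁻¹ * 1) 1
    unfold Conf.eps at h1
    have f1 := f23 1
    rw [one_mul] at f1
    rw [map_mul, map_mul, map_mul, map_mul, f12, f1, mul_assoc m⁻¹ 1 1, f13] at h1
    have h2 : c.eps 1 1 = c.eps (m⁻¹ * 1) 1 := by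
      rw [← hsymm]
      unfold Conf.eps
      rw [mul_assoc m⁻¹ 1 1]; exact h1
    rw [c.eps_eq, c.eps_eq, mul_one, mul_one, mul_one, mul_one, e1] at h2
    have h3 := e_inj c e1 ew (mul_ne_zero (inv_ne_zero hm) (inv_ne_zero hm)) h2.symm
    revert h3 hm
    clear * -
    revert m; decide
  subst hm1
  have g12 : ∀ t, κ (c.X12 t) = c.X23 t := fun t => by have := f12 t; rwa [inv_one, one_mul] at this
  have g23 : ∀ t, κ (c.X23 t) = c.X12 t := fun t => by have := f23 t; rwa [one_mul] at this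
  have x12c : ∃ γ, c.X12 1 = γ * c.X23 1 * γ⁻¹ := by
    refine ⟨b * a, ?_⟩
    have h3 := c.conj_a_23 ha 1
    have h4 := c.conj_b_13 hb 1
    rw [← h4, ← h3]; group
  have hχk : ∀ y, (∃ γ, y = γ * c.X23 1 * γ⁻¹) → χ (κ y) = χ (c.X23 1) := by
    rintro y ⟨γ, rfl⟩
    rw [hχ, cl]
  have hχz : ∀ y, (∃ γ, y = γ * c.X23 1 * γ⁻¹) → χ (C.z * y) = χ (C.z * c.X23 1) := by
    rintro y ⟨γ, rfl⟩
    rw [← C.zconj, cl]
  have e3 : κ a = b := by
    rcases C.eq_or ((ka rfl).trans hb.symm) with h | h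
    · exact h
    · exfalso
      have h5 := hχk a ac
      rw [h, hχz b bc] at h5
      exact nz h5.symm
  have e4 : κ b = a := by
    rcases C.eq_or ((kb rfl).trans ha.symm) with h | h
    · exact h
    · exfalso
      have h5 := hχk b bc
      rw [h, hχz a ac] at h5
      exact nz h5.symm
  apply ab
  rw [← hχ (a * b * c.X23 1), map_mul, map_mul, e3, e4, g23]

end kappa

end Cfsg.Agent.H840.L34
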