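import Cfsg.Agent.H840.L34.Eq

/-!
# Ten-dimensional representations of double covers of `PSL_3(4)` : the overgroup `2.M22`
-/

set_option autoImplicit false
set_option linter.constructorNameAsVariable false

namespace Cfsg.Agent.H840.L34

open Cfsg.Agent.Lib.FieldFour

variable {G : Type*} [Group G] {C : Cv G}
variable {F : Type*} [Field F] {V : Type*} [AddCommGroup V] [Module F V]

/-- the permutation of the ten weights given by `g0` -/
def σg : Equiv.Perm Om where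
  toFun k := ⟨(k.1.1 * k.1.1, k.1.2 * k.1.2 + k.1.1), by revert k; decide⟩
  invFun k := ⟨(k.1.1 * k.1.1, k.1.2 * k.1.2 + k.1.1), by revert k; decide⟩
  left_inv := by intro k; revert k; decide
  right_inv := by intro k; revert k; decide

/-- the permutation of the ten weights given by the field automorphism -/
def σu : Equiv.Perm Om where
  toFun k := ⟨(k.1.1 * k.1.1, k.1.2 * k.1.2), by revert k; decide⟩
  invFun k := ⟨(k.1.1 * k.1.1, k.1.2 * k.1.2), by revert k; decide⟩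
  left_inv := by intro k; revert k; decide
  right_inv := by intro k; revert k; decide

namespace Dt

variable {ρ : G →* Module.End F V} {c : Conf C}
variable (D : Dt C c ρ) {a b : G} (ha : RH.IsA ρ C a) (hb : RH.IsB ρ C b)
variable {v0 : V} (hv : v0 ∈ W (RH.Ta ρ c) (0, 0)) (h0 : v0 ≠ 0)

/-- the basis of weight vectors -/
noncomputable def B : Module.Basis Om F V :=
  bas D.R.two D.R.dim (u := fun k => vv ρ c a v0 k.1.1 k.1.2) (fun k => D.mem_vv ha hv k.2) (fun _ => ne_vv h0 _ _)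

theorem B_apply (k : Om) : D.B ha hv h0 k = vv ρ c a v0 k.1.1 k.1.2 := bas_apply _ _ _ _ k

/-- the second basis -/
noncomputable def Bf : Module.Basis Om F V :=
  bas D.R.two D.R.dim (u := fun k => ff ρ c a v0 k.1.1 k.1.2) (fun k => D.mem_ff ha hv k.2)
    (fun _ => D.ff_ne_zero ha hv h0)

theorem Bf_apply (k : Om) : D.Bf ha hv h0 k = ff ρ c a v0 k.1.1 k.1.2 := bas_apply _ _ _ _ k

include D ha hv h0 in
theorem ext_v {f g : V →ₗ[F] V} (h : ∀ i j, Gd i j → f (vv ρ c a v0 i j) = g (vv ρ c a v0 i j)) : f = g := by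
  apply (D.B ha hv h0).ext
  intro k
  rw [D.B_apply ha hv h0]
  exact h _ _ k.2

include D ha hv h0 in
theorem ext_f {f g : V →ₗ[F] V} (h : ∀ i j, Gd i j → f (ff ρ c a v0 i j) = g (ff ρ c a v0 i j)) : f = g := by
  apply (D.Bf ha hv h0).ext
  intro k
  rw [D.Bf_apply ha hv h0]
  exact h _ _ k.2

/-- the involution `g0` -/
noncomputable def G0 : V ≃ₗ[F] V := (D.B ha hv h0).equiv (D.B ha hv h0) σg

/-- the field automorphism -/
noncomputable def U : V ≃ₗ[F] V := (D.B ha hv h0).equiv (D.B ha hv h0) σu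

theorem G0_vv {i j : F4} (hg : Gd i j) : D.G0 ha hv h0 (vv ρ c a v0 i j) = vv ρ c a v0 (i * i) (j * j + i) := by
  have := (D.B ha hv h0).equiv_apply ⟨(i, j), hg⟩ (D.B ha hv h0) σg
  rw [D.B_apply ha hv h0, D.B_apply ha hv h0] at this
  exact this

theorem U_vv {i j : F4} (hg : Gd i j) : D.U ha hv h0 (vv ρ c a v0 i j) = vv ρ c a v0 (i * i) (j * j) := by
  have := (D.B ha hv h0).equiv_apply ⟨(i, j), hg⟩ (D.B ha hv h0) σu
  rw [D.B_apply ha hv h0, D.B_apply ha hv h0] at this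
  exact this

theorem gg : ∀ i j : F4, Gd i j → Gd (i * i) (j * j + i) := by decide
theorem gu : ∀ i j : F4, Gd i j → Gd (i * i) (j * j) := by decide
theorem gx : ∀ i j s : F4, Gd i j → Gd i (j + i * s + s * s) := by decide
theorem gs : ∀ i j : F4, Gd i j → Gd j i := by decide
theorem q1 : ∀ i : F4, (i * i) * (i * i) = i := by decide
theorem q2 : ∀ i j : F4, (j * j + i) * (j * j + i) + i * i = j := by decide

theorem G0_G0 (v : V) : D.G0 ha hv h0 (D.G0 ha hv h0 v) = v := by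
  have : (D.G0 ha hv h0 : V →ₗ[F] V) ∘ₗ (D.G0 ha hv h0 : V →ₗ[F] V) = LinearMap.id := by
    apply D.ext_v ha hv h0
    intro i j hg
    change D.G0 ha hv h0 (D.G0 ha hv h0 (vv ρ c a v0 i j)) = vv ρ c a v0 i j
    rw [G0_vv D ha hv h0 hg, G0_vv D ha hv h0 (gg i j hg), q1, q2]
  exact LinearMap.congr_fun this v

theorem U_U (v : V) : D.U ha hv h0 (D.U ha hv h0 v) = v := by
  have : (D.U ha hv h0 : V →ₗ[F] V) ∘ₗ (D.U ha hv h0 : V →ₗ[F] V) = LinearMap.id := by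
    apply D.ext_v ha hv h0
    intro i j hg
    change D.U ha hv h0 (D.U ha hv h0 (vv ρ c a v0 i j)) = vv ρ c a v0 i j
    rw [U_vv D ha hv h0 hg, U_vv D ha hv h0 (gu i j hg), q1, q1]
  exact LinearMap.congr_fun this v

theorem U_G0 (v : V) : D.U ha hv h0 (D.G0 ha hv h0 v) = D.G0 ha hv h0 (D.U ha hv h0 v) := by
  have : (D.U ha hv h0 : V →ₗ[F] V) ∘ₗ (D.G0 ha hv h0 : V →ₗ[F] V) =
      (D.G0 ha hv h0 : V →ₗ[F] V) ∘ₗ (D.U ha hv h0 : V →ₗ[F] V) := by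
    apply D.ext_v ha hv h0
    intro i j hg
    change D.U ha hv h0 (D.G0 ha hv h0 (vv ρ c a v0 i j)) = D.G0 ha hv h0 (D.U ha hv h0 (vv ρ c a v0 i j))
    rw [G0_vv D ha hv h0 hg, U_vv D ha hv h0 hg, U_vv D ha hv h0 (gg i j hg), G0_vv D ha hv h0 (gu i j hg)]
    have e : ∀ i j : F4, (j * j + i) * (j * j + i) = j * j * (j * j) + i * i := by decide
    rw [e]
  exact LinearMap.congr_fun this v

/-- an operator commuting past -/
theorem G0_13 (t : F4) (v : V) : D.G0 ha hv h0 (ρ (c.X13 t) v) = ρ (c.X13 (t * t)) (D.G0 ha hv h0 v) := by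
  have : (D.G0 ha hv h0 : V →ₗ[F] V) ∘ₗ ρ (c.X13 t) = ρ (c.X13 (t * t)) ∘ₗ (D.G0 ha hv h0 : V →ₗ[F] V) := by
    apply D.ext_v ha hv h0
    intro i j hg
    change D.G0 ha hv h0 (ρ (c.X13 t) (vv ρ c a v0 i j)) = ρ (c.X13 (t * t)) (D.G0 ha hv h0 (vv ρ c a v0 i j))
    rw [G0_vv D ha hv h0 hg, ((RH.mem_a c).1 (D.mem_vv ha hv hg)).1, ((RH.mem_a c).1 (D.mem_vv ha hv (gg i j hg))).1,
      map_smul, G0_vv D ha hv h0 hg]
    congr 1
    rw [show i * i * (t * t) = (i * t) * (i * t) by ring, ps_sq]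
  exact LinearMap.congr_fun this v

theorem U_13 (t : F4) (v : V) : D.U ha hv h0 (ρ (c.X13 t) v) = ρ (c.X13 (t * t)) (D.U ha hv h0 v) := by
  have : (D.U ha hv h0 : V →ₗ[F] V) ∘ₗ ρ (c.X13 t) = ρ (c.X13 (t * t)) ∘ₗ (D.U ha hv h0 : V →ₗ[F] V) := by
    apply D.ext_v ha hv h0
    intro i j hg
    change D.U ha hv h0 (ρ (c.X13 t) (vv ρ c a v0 i j)) = ρ (c.X13 (t * t)) (D.U ha hv h0 (vv ρ c a v0 i j))
    rw [U_vv D ha hv h0 hg, ((RH.mem_a c).1 (D.mem_vv ha hv hg)).1, ((RH.mem_a c).1 (D.mem_vv ha hv (gu i j hg))).1,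
      map_smul, U_vv D ha hv h0 hg]
    congr 1
    rw [show i * i * (t * t) = (i * t) * (i * t) by ring, ps_sq]
  exact LinearMap.congr_fun this v

theorem G0_23 (t : F4) (v : V) : D.G0 ha hv h0 (ρ (c.X23 t) v) =
    ρ (c.X23 (t * t)) (ρ (c.X13 t) (D.G0 ha hv h0 v)) := by
  have : (D.G0 ha hv h0 : V →ₗ[F] V) ∘ₗ ρ (c.X23 t) =
      ρ (c.X23 (t * t)) ∘ₗ ρ (c.X13 t) ∘ₗ (D.G0 ha hv h0 : V →ₗ[F] V) := by
    apply D.ext_v ha hv h0
    intro i j hg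
    change D.G0 ha hv h0 (ρ (c.X23 t) (vv ρ c a v0 i j)) =
      ρ (c.X23 (t * t)) (ρ (c.X13 t) (D.G0 ha hv h0 (vv ρ c a v0 i j)))
    rw [G0_vv D ha hv h0 hg, ((RH.mem_a c).1 (D.mem_vv ha hv hg)).2, ((RH.mem_a c).1 (D.mem_vv ha hv (gg i j hg))).1,
      map_smul, map_smul, ((RH.mem_a c).1 (D.mem_vv ha hv (gg i j hg))).2, G0_vv D ha hv h0 hg, smul_smul]
    congr 1
    have e1 : ∀ i j t : F4, (j * j + i) * (t * t) = (j * t) * (j * t) + i * (t * t) := by decide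
    have e2 : ∀ i t : F4, (i * i * t) * (i * i * t) = i * (t * t) := by decide
    rw [e1, ps_add, ps_sq, ← ps_sq (i * i * t), e2, mul_left_comm, ps_mul_self, mul_one]
  exact LinearMap.congr_fun this v

theorem U_23 (t : F4) (v : V) : D.U ha hv h0 (ρ (c.X23 t) v) = ρ (c.X23 (t * t)) (D.U ha hv h0 v) := by
  have : (D.U ha hv h0 : V →ₗ[F] V) ∘ₗ ρ (c.X23 t) = ρ (c.X23 (t * t)) ∘ₗ (D.U ha hv h0 : V →ₗ[F] V) := by
    apply D.ext_v ha hv h0
    intro i j hg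
    change D.U ha hv h0 (ρ (c.X23 t) (vv ρ c a v0 i j)) = ρ (c.X23 (t * t)) (D.U ha hv h0 (vv ρ c a v0 i j))
    rw [U_vv D ha hv h0 hg, ((RH.mem_a c).1 (D.mem_vv ha hv hg)).2, ((RH.mem_a c).1 (D.mem_vv ha hv (gu i j hg))).2,
      map_smul, U_vv D ha hv h0 hg]
    congr 1
    rw [show j * j * (t * t) = (j * t) * (j * t) by ring, ps_sq]
  exact LinearMap.congr_fun this v

theorem G0_12 (t : F4) (v : V) : D.G0 ha hv h0 (ρ (c.X12 t) v) = ρ (c.X12 (t * t)) (D.G0 ha hv h0 v) := by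
  have : (D.G0 ha hv h0 : V →ₗ[F] V) ∘ₗ ρ (c.X12 t) = ρ (c.X12 (t * t)) ∘ₗ (D.G0 ha hv h0 : V →ₗ[F] V) := by
    apply D.ext_v ha hv h0
    intro i j hg
    change D.G0 ha hv h0 (ρ (c.X12 t) (vv ρ c a v0 i j)) = ρ (c.X12 (t * t)) (D.G0 ha hv h0 (vv ρ c a v0 i j))
    rw [G0_vv D ha hv h0 hg, D.x_vv ha hv t hg, D.x_vv ha hv (t * t) (gg i j hg), G0_vv D ha hv h0 (gx i j t hg)]
    have e : ∀ i j t : F4, (j + i * t + t * t) * (j + i * t + t * t) + i = j * j + i + i * i * (t * t) + t * t * (t * t) := by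
      decide
    rw [e]
  exact LinearMap.congr_fun this v

theorem U_12 (t : F4) (v : V) : D.U ha hv h0 (ρ (c.X12 t) v) = ρ (c.X12 (t * t)) (D.U ha hv h0 v) := by
  have : (D.U ha hv h0 : V →ₗ[F] V) ∘ₗ ρ (c.X12 t) = ρ (c.X12 (t * t)) ∘ₗ (D.U ha hv h0 : V →ₗ[F] V) := by
    apply D.ext_v ha hv h0
    intro i j hg
    change D.U ha hv h0 (ρ (c.X12 t) (vv ρ c a v0 i j)) = ρ (c.X12 (t * t)) (D.U ha hv h0 (vv ρ c a v0 i j))
    rw [U_vv D ha hv h0 hg, D.x_vv ha hv t hg, D.x_vv ha hv (t * t) (gu i j hg), U_vv D ha hv h0 (gx i j t hg)]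
    have e : ∀ i j t : F4, (j + i * t + t * t) * (j + i * t + t * t) = j * j + i * i * (t * t) + t * t * (t * t) := by
      decide
    rw [e]
  exact LinearMap.congr_fun this v

theorem U_a (v : V) : D.U ha hv h0 (ρ a v) = ρ a (D.U ha hv h0 v) := by
  have : (D.U ha hv h0 : V →ₗ[F] V) ∘ₗ ρ a = ρ a ∘ₗ (D.U ha hv h0 : V →ₗ[F] V) := by
    apply D.ext_v ha hv h0
    intro i j hg
    change D.U ha hv h0 (ρ a (vv ρ c a v0 i j)) = ρ a (D.U ha hv h0 (vv ρ c a v0 i j))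
    rw [U_vv D ha hv h0 hg, D.a_vv ha hv hg, D.a_vv ha hv (gu i j hg), U_vv D ha hv h0 (gs i j hg)]
  exact LinearMap.congr_fun this v

/-- `g0 a g0 = a g0 a` -/
theorem G0_a (v : V) : D.G0 ha hv h0 (ρ a (D.G0 ha hv h0 v)) = ρ a (D.G0 ha hv h0 (ρ a v)) := by
  have : (D.G0 ha hv h0 : V →ₗ[F] V) ∘ₗ ρ a ∘ₗ (D.G0 ha hv h0 : V →ₗ[F] V) =
      ρ a ∘ₗ (D.G0 ha hv h0 : V →ₗ[F] V) ∘ₗ ρ a := by
    apply D.ext_v ha hv h0
    intro i j hg
    change D.G0 ha hv h0 (ρ a (D.G0 ha hv h0 (vv ρ c a v0 i j))) = ρ a (D.G0 ha hv h0 (ρ a (vv ρ c a v0 i j)))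
    rw [G0_vv D ha hv h0 hg, D.a_vv ha hv hg, D.a_vv ha hv (gg i j hg), G0_vv D ha hv h0 (gs i j hg),
      G0_vv D ha hv h0 (gs _ _ (gg i j hg)), D.a_vv ha hv (gg _ _ (gs i j hg))]
    have e : ∀ i j : F4, Gd i j → (j * j + i) * (j * j + i) = i * i + j ∧ i * i * (i * i) + (j * j + i) = j * j := by
      decide
    rw [(e i j hg).1, (e i j hg).2]
  exact LinearMap.congr_fun this v

theorem G0_h (v : V) : ρ c.h (D.G0 ha hv h0 (ρ c.h v)) = D.G0 ha hv h0 v := by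
  have : ρ c.h ∘ₗ (D.G0 ha hv h0 : V →ₗ[F] V) ∘ₗ ρ c.h = (D.G0 ha hv h0 : V →ₗ[F] V) := by
    apply D.ext_v ha hv h0
    intro i j hg
    change ρ c.h (D.G0 ha hv h0 (ρ c.h (vv ρ c a v0 i j))) = D.G0 ha hv h0 (vv ρ c a v0 i j)
    have g1 : ∀ i j : F4, Gd i j → Gd (F4.v * i) (F4.w * j) := by decide
    rw [D.h_vv ha hv hg, G0_vv D ha hv h0 (g1 i j hg), D.h_vv ha hv (gg _ _ (g1 i j hg)), G0_vv D ha hv h0 hg]
    have e : ∀ i j : F4, F4.v * (F4.v * i * (F4.v * i)) = i * i ∧ F4.w * (F4.w * j * (F4.w * j) + F4.v * i) = j * j + i := by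
      decide
    rw [(e i j).1, (e i j).2]
  exact LinearMap.congr_fun this v

theorem U_h (v : V) : ρ c.h (D.U ha hv h0 (ρ c.h v)) = D.U ha hv h0 v := by
  have : ρ c.h ∘ₗ (D.U ha hv h0 : V →ₗ[F] V) ∘ₗ ρ c.h = (D.U ha hv h0 : V →ₗ[F] V) := by
    apply D.ext_v ha hv h0
    intro i j hg
    change ρ c.h (D.U ha hv h0 (ρ c.h (vv ρ c a v0 i j))) = D.U ha hv h0 (vv ρ c a v0 i j)
    have g1 : ∀ i j : F4, Gd i j → Gd (F4.v * i) (F4.w * j) := by decide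
    rw [D.h_vv ha hv hg, U_vv D ha hv h0 (g1 i j hg), D.h_vv ha hv (gu _ _ (g1 i j hg)), U_vv D ha hv h0 hg]
    have e : ∀ i j : F4, F4.v * (F4.v * i * (F4.v * i)) = i * i ∧ F4.w * (F4.w * j * (F4.w * j)) = j * j := by
      decide
    rw [(e i j).1, (e i j).2]
  exact LinearMap.congr_fun this v

/-! ### the second frame -/

theorem U_ff0 (j : F4) : D.U ha hv h0 (ff ρ c a v0 0 j) = ff ρ c a v0 0 (j * j) := by
  have hf : ∀ b : F4, ((b * b) * (b * b)) = b := by decide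
  rw [ff_zero, ff_zero, map_sum, ← Equiv.sum_comp (Equiv.mk (fun b : F4 => b * b) (fun b => b * b) hf hf)
    (fun b => ps F (j * j * (j * j) * b) • vv ρ c a v0 0 b)]
  refine Finset.sum_congr rfl fun b _ => ?_
  rw [map_smul, U_vv D ha hv h0 (Or.inl (zero_mul b)), mul_zero]
  change _ = ps F (j * j * (j * j) * (b * b)) • vv ρ c a v0 0 (b * b)
  rw [show j * j * (j * j) * (b * b) = (j * j * b) * (j * j * b) by ring, ps_sq]

theorem G0_ff0 (j : F4) : D.G0 ha hv h0 (ff ρ c a v0 0 j) = ff ρ c a v0 0 (j * j) := by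
  have hf : ∀ b : F4, ((b * b) * (b * b)) = b := by decide
  rw [ff_zero, ff_zero, map_sum, ← Equiv.sum_comp (Equiv.mk (fun b : F4 => b * b) (fun b => b * b) hf hf)
    (fun b => ps F (j * j * (j * j) * b) • vv ρ c a v0 0 b)]
  refine Finset.sum_congr rfl fun b _ => ?_
  rw [map_smul, G0_vv D ha hv h0 (Or.inl (zero_mul b)), mul_zero, add_zero]
  change _ = ps F (j * j * (j * j) * (b * b)) • vv ρ c a v0 0 (b * b)
  rw [show j * j * (j * j) * (b * b) = (j * j * b) * (j * j * b) by ring, ps_sq]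

theorem U_ffj {j : F4} (hj : j ≠ 0) : D.U ha hv h0 (ff ρ c a v0 j 0) = ff ρ c a v0 (j * j) 0 := by
  have hj2 : j * j ≠ 0 := mul_ne_zero hj hj
  rw [ffj0 a v0 hj, ffj0 a v0 hj2, map_add, U_vv D ha hv h0 (Or.inl (mul_zero j)), U_vv D ha hv h0 (g6 j), mul_zero,
    mul_inv]

theorem U_ffi {j : F4} (hj : j ≠ 0) : D.U ha hv h0 (ff ρ c a v0 j j⁻¹) = ff ρ c a v0 (j * j) (j * j)⁻¹ := by
  have hj2 : j * j ≠ 0 := mul_ne_zero hj hj
  rw [ffji a v0 hj, ffji a v0 hj2, map_sub, U_vv D ha hv h0 (Or.inl (mul_zero j)), U_vv D ha hv h0 (g6 j), mul_zero,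
    mul_inv]

theorem G0_ffj {j : F4} (hj : j ≠ 0) : D.G0 ha hv h0 (ff ρ c a v0 j 0) = ff ρ c a v0 (j * j) 0 := by
  have hj2 : j * j ≠ 0 := mul_ne_zero hj hj
  have e1 : ∀ j : F4, j ≠ 0 → j⁻¹ * j⁻¹ + j = 0 ∧ (j * j)⁻¹ = j := by decide
  rw [ffj0 a v0 hj, ffj0 a v0 hj2, map_add, G0_vv D ha hv h0 (Or.inl (mul_zero j)), G0_vv D ha hv h0 (g6 j), mul_zero,
    zero_add, (e1 j hj).1, (e1 j hj).2, add_comm]

theorem G0_ffi {j : F4} (hj : j ≠ 0) : D.G0 ha hv h0 (ff ρ c a v0 j j⁻¹) = -ff ρ c a v0 (j * j) (j * j)⁻¹ := by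
  have hj2 : j * j ≠ 0 := mul_ne_zero hj hj
  have e1 : ∀ j : F4, j ≠ 0 → j⁻¹ * j⁻¹ + j = 0 ∧ (j * j)⁻¹ = j := by decide
  rw [ffji a v0 hj, ffji a v0 hj2, map_sub, G0_vv D ha hv h0 (Or.inl (mul_zero j)), G0_vv D ha hv h0 (g6 j), mul_zero,
    zero_add, (e1 j hj).1, (e1 j hj).2, neg_sub]

include D ha hv hb h0 in
theorem G0_b (v : V) : D.G0 ha hv h0 (ρ b v) = ρ b (D.G0 ha hv h0 v) := by
  obtain ⟨r, hr0, e0, e1, e2, e3⟩ := D.b_ff ha hv hb h0
  have : (D.G0 ha hv h0 : V →ₗ[F] V) ∘ₗ ρ b = ρ b ∘ₗ (D.G0 ha hv h0 : V →ₗ[F] V) := by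
    apply D.ext_f ha hv h0
    intro i j hg
    change D.G0 ha hv h0 (ρ b (ff ρ c a v0 i j)) = ρ b (D.G0 ha hv h0 (ff ρ c a v0 i j))
    by_cases hi : i = 0
    · subst hi
      by_cases hj : j = 0
      · subst hj
        rw [e0, G0_ff0, mul_zero, e0]
      · rw [e2 j hj, map_smul, G0_ffj D ha hv h0 hj, G0_ff0, e2 _ (mul_ne_zero hj hj)]
    · by_cases hj : j = 0
      · subst hj
        rw [e1 i hi, map_smul, G0_ff0, G0_ffj D ha hv h0 hi, e1 _ (mul_ne_zero hi hi)]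
      · rw [g4 i j hi hg hj, e3 i hi, G0_ffi D ha hv h0 hi, map_neg, e3 _ (mul_ne_zero hi hi)]
        have := G0_ffi D ha hv h0 (inv_ne_zero hi)
        rw [inv_inv] at this
        rw [this, mul_inv, inv_inv, mul_inv]
  exact LinearMap.congr_fun this v

include D ha hv hb h0 in
theorem U_b (v : V) : D.U ha hv h0 (ρ b v) = ρ b (D.U ha hv h0 v) := by
  obtain ⟨r, hr0, e0, e1, e2, e3⟩ := D.b_ff ha hv hb h0
  have : (D.U ha hv h0 : V →ₗ[F] V) ∘ₗ ρ b = ρ b ∘ₗ (D.U ha hv h0 : V →ₗ[F] V) := by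
    apply D.ext_f ha hv h0
    intro i j hg
    change D.U ha hv h0 (ρ b (ff ρ c a v0 i j)) = ρ b (D.U ha hv h0 (ff ρ c a v0 i j))
    by_cases hi : i = 0
    · subst hi
      by_cases hj : j = 0
      · subst hj
        rw [e0, U_ff0, mul_zero, e0]
      · rw [e2 j hj, map_smul, U_ffj D ha hv h0 hj, U_ff0, e2 _ (mul_ne_zero hj hj)]
    · by_cases hj : j = 0
      · subst hj
        rw [e1 i hi, map_smul, U_ff0, U_ffj D ha hv h0 hi, e1 _ (mul_ne_zero hi hi)]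
      · rw [g4 i j hi hg hj, e3 i hi, U_ffi D ha hv h0 hi, e3 _ (mul_ne_zero hi hi)]
        have := U_ffi D ha hv h0 (inv_ne_zero hi)
        rw [inv_inv] at this
        rw [this, mul_inv, inv_inv, mul_inv]
  exact LinearMap.congr_fun this v

end Dt

end Cfsg.Agent.H840.L34
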