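import Mathlib
import Cfsg.Agent.Lib.FieldFour

/-!
# Weights of an elementary abelian group of order sixteen
-/

set_option autoImplicit false

namespace Cfsg.Agent.H840.L34

open Cfsg.Agent.Lib.FieldFour

section sign

variable {F : Type*} [Field F]

/-- the additive character of `F4` -/
def ps (F : Type*) [Field F] : F4 → F
  | F4.o => 1
  | F4.i => 1
  | F4.w => -1
  | F4.v => -1

@[simp] theorem ps_o : ps F F4.o = 1 := rfl
@[simp] theorem ps_i : ps F F4.i = 1 := rfl
@[simp] theorem ps_zero : ps F 0 = 1 := rfl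
@[simp] theorem ps_one : ps F 1 = 1 := rfl
@[simp] theorem ps_w : ps F F4.w = -1 := rfl
@[simp] theorem ps_v : ps F F4.v = -1 := rfl

theorem ps_add (s t : F4) : ps F (s + t) = ps F s * ps F t := by
  cases s <;> cases t <;> first
    | exact (one_mul (1 : F)).symm
    | exact (one_mul (-1 : F)).symm
    | exact (mul_one (-1 : F)).symm
    | exact (neg_mul_neg (1 : F) 1).trans (one_mul 1) |>.symm

theorem ps_sq (s : F4) : ps F (s * s) = ps F s := by cases s <;> rfl

theorem ps_mul_self (s : F4) : ps F s * ps F s = 1 := by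
  rw [← ps_add, show s + s = 0 by revert s; decide]; rfl

theorem sum_F4 {M : Type*} [AddCommMonoid M] (f : F4 → M) : ∑ x, f x = f 0 + f 1 + f F4.w + f F4.v := by
  have : (Finset.univ : Finset F4) = {F4.o, F4.i, F4.w, F4.v} := rfl
  rw [this, Finset.sum_insert (by decide), Finset.sum_insert (by decide), Finset.sum_insert (by decide),
    Finset.sum_singleton, add_assoc, add_assoc]
  rfl

theorem sum_ps (a : F4) : ∑ t, ps F (a * t) = if a = 0 then 4 else 0 := by
  rw [sum_F4]
  cases a
  · change (1 : F) + 1 + 1 + 1 = if (0 : F4) = 0 then 4 else 0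
    rw [if_pos rfl]; norm_num
  · change (1 : F) + 1 + -1 + -1 = if (F4.i : F4) = 0 then 4 else 0
    rw [if_neg (by decide)]; norm_num
  · change (1 : F) + -1 + -1 + 1 = if (F4.w : F4) = 0 then 4 else 0
    rw [if_neg (by decide)]; norm_num
  · change (1 : F) + -1 + 1 + -1 = if (F4.v : F4) = 0 then 4 else 0
    rw [if_neg (by decide)]; norm_num

end sign

section weights

variable {F : Type*} [Field F] {V : Type*} [AddCommGroup V] [Module F V]

/-- the character with parameter `i` -/
def ch (F : Type*) [Field F] (i x : F4 × F4) : F := ps F (i.1 * x.1) * ps F (i.2 * x.2)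

theorem ch_add (i x y : F4 × F4) : ch F i (x + y) = ch F i x * ch F i y := by
  unfold ch
  rw [Prod.fst_add, Prod.snd_add, mul_add, mul_add, ps_add, ps_add]
  ring

theorem ch_add_left (i j x : F4 × F4) : ch F (i + j) x = ch F i x * ch F j x := by
  unfold ch
  rw [Prod.fst_add, Prod.snd_add, add_mul, add_mul, ps_add, ps_add]
  ring

theorem ch_symm (i x : F4 × F4) : ch F i x = ch F x i := by
  unfold ch; rw [mul_comm i.1, mul_comm i.2]

theorem ch_self (i x : F4 × F4) : ch F i x * ch F i x = 1 := by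
  unfold ch
  rw [mul_mul_mul_comm, ps_mul_self, ps_mul_self, one_mul]

theorem sum_ch (i : F4 × F4) : ∑ x, ch F i x = if i = 0 then 16 else 0 := by
  rw [Fintype.sum_prod_type]
  simp only [ch]
  have h1 : ∀ x : F4, ∑ y, ps F (i.1 * x) * ps F (i.2 * y) = ps F (i.1 * x) * ∑ y, ps F (i.2 * y) := by
    intro x; rw [Finset.mul_sum]
  simp only [h1]
  rw [← Finset.sum_mul, sum_ps, sum_ps]
  obtain ⟨a, b⟩ := i
  by_cases ha : a = 0
  · by_cases hb : b = 0
    · subst ha hb
      rw [if_pos rfl, if_pos (show ((0 : F4), (0 : F4)) = 0 from rfl)]; norm_num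
    · rw [if_neg hb, mul_zero, if_neg]
      intro h; exact hb (Prod.ext_iff.1 h).2
  · rw [if_neg ha, zero_mul, if_neg]
    intro h; exact ha (Prod.ext_iff.1 h).1

/-- a representation of the elementary abelian group `F4 × F4` -/
structure Rp (T : F4 × F4 → V →ₗ[F] V) : Prop where
  add : ∀ x y v, T (x + y) v = T x (T y v)
  zero : ∀ v, T 0 v = v

/-- weight spaces -/
def W (T : F4 × F4 → V →ₗ[F] V) (i : F4 × F4) : Submodule F V where
  carrier := {v | ∀ x, T x v = ch F i x • v}
  add_mem' := by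
    intro u v hu hv x
    rw [map_add, hu, hv, smul_add]
  zero_mem' := by intro x; rw [map_zero, smul_zero]
  smul_mem' := by
    intro c v hv x
    rw [map_smul, hv, smul_comm]

theorem mem_W {T : F4 × F4 → V →ₗ[F] V} {i : F4 × F4} {v : V} : v ∈ W T i ↔ ∀ x, T x v = ch F i x • v := Iff.rfl

/-- sixteen times the projection -/
def pr (T : F4 × F4 → V →ₗ[F] V) (i : F4 × F4) : V →ₗ[F] V := ∑ x, ch F i x • T x

theorem pr_apply (T : F4 × F4 → V →ₗ[F] V) (i : F4 × F4) (v : V) : pr T i v = ∑ x, ch F i x • T x v := by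
  unfold pr
  rw [LinearMap.sum_apply]
  rfl

variable {T : F4 × F4 → V →ₗ[F] V}

theorem pr_mem (hT : Rp T) (i : F4 × F4) (v : V) : pr T i v ∈ W T i := by
  intro y
  rw [pr_apply, map_sum, Finset.smul_sum, ← Equiv.sum_comp (Equiv.addLeft y) (fun x => ch F i y • ch F i x • T x v)]
  apply Finset.sum_congr rfl
  intro x _
  rw [Equiv.coe_addLeft, map_smul, ← hT.add, ch_add, smul_smul, ← mul_assoc, ch_self, one_mul]

theorem add_eq_zero_iff' (i j : F4 × F4) : i + j = 0 ↔ i = j := by revert i j; decide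

theorem pr_of_mem (i j : F4 × F4) {v : V} (hv : v ∈ W T j) : pr T i v = if i = j then (16 : F) • v else 0 := by
  rw [pr_apply]
  have h1 : ∀ x, ch F i x • T x v = ch F (i + j) x • v := by
    intro x
    rw [hv x, smul_smul, ch_add_left]
  simp only [h1]
  rw [← Finset.sum_smul, sum_ch]
  have h2 := add_eq_zero_iff' i j
  by_cases h : i = j
  · rw [if_pos (h2.2 h), if_pos h]
  · rw [if_neg (fun h' => h (h2.1 h')), if_neg h, zero_smul]

theorem sum_pr (hT : Rp T) (v : V) : ∑ i, pr T i v = (16 : F) • v := by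
  simp only [pr_apply]
  rw [Finset.sum_comm]
  have h1 : ∀ x, ∑ i, ch F i x • T x v = (if x = 0 then (16 : F) else 0) • T x v := by
    intro x
    rw [← Finset.sum_smul, ← sum_ch]
    congr 1
    exact Finset.sum_congr rfl fun i _ => ch_symm i x
  simp only [h1]
  rw [Finset.sum_eq_single 0]
  · rw [if_pos rfl, hT.zero]
  · intro x _ hx
    rw [if_neg hx, zero_smul]
  · intro h; exact absurd (Finset.mem_univ _) h

theorem sixteen_ne (h2 : (2 : F) ≠ 0) : (16 : F) ≠ 0 := by
  have : (16 : F) = 2 ^ 4 := by norm_num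
  rw [this]; exact pow_ne_zero _ h2

/-- the decomposition -/
noncomputable def decomp (hT : Rp T) (h2 : (2 : F) ≠ 0) : V ≃ₗ[F] ((i : F4 × F4) → W T i) where
  toFun v := fun i => (16 : F)⁻¹ • ⟨pr T i v, pr_mem hT i v⟩
  map_add' u v := by
    funext i
    apply Subtype.ext
    change (16 : F)⁻¹ • pr T i (u + v) = (16 : F)⁻¹ • pr T i u + (16 : F)⁻¹ • pr T i v
    rw [map_add, smul_add]
  map_smul' c v := by
    funext i
    apply Subtype.ext
    change (16 : F)⁻¹ • pr T i (c • v) = c • (16 : F)⁻¹ • pr T i v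
    rw [map_smul, smul_comm]
  invFun f := ∑ i, (f i : V)
  left_inv v := by
    change ∑ i, (16 : F)⁻¹ • pr T i v = v
    rw [← Finset.smul_sum, sum_pr hT, smul_smul, inv_mul_cancel₀ (sixteen_ne h2), one_smul]
  right_inv f := by
    funext i
    apply Subtype.ext
    change (16 : F)⁻¹ • pr T i (∑ j, (f j : V)) = f i
    rw [map_sum, Finset.sum_eq_single i]
    · rw [pr_of_mem i i (f i).2, if_pos rfl, smul_smul, inv_mul_cancel₀ (sixteen_ne h2), one_smul]
    · intro j _ hj
      rw [pr_of_mem i j (f j).2, if_neg hj.symm]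
    · intro h; exact absurd (Finset.mem_univ _) h

theorem finrank_eq [FiniteDimensional F V] (hT : Rp T) (h2 : (2 : F) ≠ 0) :
    Module.finrank F V = ∑ i, Module.finrank F (W T i) := by
  rw [(decomp hT h2).finrank_eq, Module.finrank_pi_fintype]

theorem finrank_le [FiniteDimensional F V] {i j : F4 × F4} {g g' : V →ₗ[F] V} (hg : ∀ v, g' (g v) = v)
    (h : ∀ v ∈ W T i, g v ∈ W T j) : Module.finrank F (W T i) ≤ Module.finrank F (W T j) := by
  have hinj : Function.Injective (g.restrict h) := by
    intro u v huv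
    apply Subtype.ext
    have h1 : g u = g v := congrArg Subtype.val huv
    rw [← hg u, h1, hg]
  exact LinearMap.finrank_le_finrank_of_injective hinj

theorem eq_smul {i : F4 × F4} (h1 : Module.finrank F (W T i) = 1) {u v : V} (hu : u ∈ W T i) (hu0 : u ≠ 0)
    (hv : v ∈ W T i) : ∃ c : F, v = c • u := by
  obtain ⟨c, hc⟩ := exists_smul_eq_of_finrank_eq_one h1 (x := (⟨u, hu⟩ : W T i)) (by
    intro h; exact hu0 (congrArg Subtype.val h)) ⟨v, hv⟩
  exact ⟨c, (congrArg Subtype.val hc).symm⟩

/-- vectors of distinct weights are independent -/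
theorem linInd (h2 : (2 : F) ≠ 0) {κ : Type*} {u : κ → V} {w : κ → F4 × F4} (hw : Function.Injective w)
    (hu : ∀ k, u k ∈ W T (w k)) (h0 : ∀ k, u k ≠ 0) : LinearIndependent F u := by
  classical
  rw [linearIndependent_iff']
  intro s g hg k hk
  have h1 := congrArg (pr T (w k)) hg
  rw [map_zero, map_sum, Finset.sum_eq_single k] at h1
  · rw [map_smul, pr_of_mem _ _ (hu k), if_pos rfl, smul_smul] at h1
    rcases smul_eq_zero.1 h1 with h3 | h3
    · exact (mul_eq_zero.1 h3).resolve_right (sixteen_ne h2)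
    · exact absurd h3 (h0 k)
  · intro j _ hj
    rw [map_smul, pr_of_mem _ _ (hu j), if_neg (fun h => hj (hw h).symm), smul_zero]
  · intro h; exact absurd hk h

end weights

end Cfsg.Agent.H840.L34
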