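import Cfsg.Agent.H840.L34.Conf
import Cfsg.Agent.H840.L34.Wt

/-!
# Ten-dimensional representations of double covers of `PSL_3(4)` : weights
-/

set_option autoImplicit false
set_option linter.constructorNameAsVariable false

namespace Cfsg.Agent.H840.L34

open Cfsg.Agent.Lib.FieldFour

variable {G : Type*} [Group G] {C : Cv G}
variable {F : Type*} [Field F] {V : Type*} [AddCommGroup V] [Module F V]

theorem vcube (i : F4) : F4.v * (F4.v * (F4.v * i)) = i := by revert i; decide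
theorem wcube (i : F4) : F4.w * (F4.w * (F4.w * i)) = i := by revert i; decide
theorem cancel5 (i j s : F4) : j + i * s + s * s + i * s + s * s = j := by revert i j s; decide

/-- a faithful ten-dimensional representation, `z ↦ -1` -/
structure RH (C : Cv G) (ρ : G →* Module.End F V) : Prop where
  z : ρ C.z = -1
  two : (2 : F) ≠ 0
  dim : Module.finrank F V = 10
  faith : ∀ g, ρ g = 1 → g = 1

namespace RH

variable {ρ : G →* Module.End F V} (R : RH C ρ) (c : Conf C)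

theorem fin (R : RH C ρ) : FiniteDimensional F V := Module.finite_of_finrank_pos (by rw [R.dim]; norm_num)

theorem mul_apply (g g' : G) (v : V) : ρ (g * g') v = ρ g (ρ g' v) := by rw [map_mul]; rfl

theorem inv_apply (g : G) (v : V) : ρ g⁻¹ (ρ g v) = v := by
  rw [← mul_apply, inv_mul_cancel, map_one]; rfl

theorem z_apply (R : RH C ρ) (v : V) : ρ C.z v = -v := by rw [R.z]; rfl

/-- the first elementary abelian group -/
def Ta (ρ : G →* Module.End F V) (c : Conf C) (x : F4 × F4) : V →ₗ[F] V := ρ (c.X13 x.1 * c.X23 x.2)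

/-- the second elementary abelian group -/
def Tb (ρ : G →* Module.End F V) (c : Conf C) (x : F4 × F4) : V →ₗ[F] V := ρ (c.X13 x.1 * c.X12 x.2)

theorem rpa : Rp (Ta ρ c) := by
  constructor
  · intro x y v
    unfold Ta
    rw [← mul_apply, Prod.fst_add, Prod.snd_add, c.f13.add, c.f23.add]
    congr 2
    rw [mul_assoc, mul_assoc, ← mul_assoc (c.X13 y.1), ← c.comm_a, mul_assoc]
  · intro v
    unfold Ta
    rw [Prod.fst_zero, Prod.snd_zero, c.f13.zero, c.f23.zero, one_mul, map_one]; rfl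

theorem rpb : Rp (Tb ρ c) := by
  constructor
  · intro x y v
    unfold Tb
    rw [← mul_apply, Prod.fst_add, Prod.snd_add, c.f13.add, c.f12.add]
    congr 2
    rw [mul_assoc, mul_assoc, ← mul_assoc (c.X13 y.1), ← c.comm_b, mul_assoc]
  · intro v
    unfold Tb
    rw [Prod.fst_zero, Prod.snd_zero, c.f13.zero, c.f12.zero, one_mul, map_one]; rfl

theorem mem_a {a b : F4} {v : V} : v ∈ W (Ta ρ c) (a, b) ↔
    (∀ t, ρ (c.X13 t) v = ps F (a * t) • v) ∧ (∀ t, ρ (c.X23 t) v = ps F (b * t) • v) := by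
  constructor
  · intro h
    constructor
    · intro t
      have := h (t, 0)
      unfold Ta ch at this
      simpa only [c.f23.zero, mul_one, mul_zero, ps_zero] using this
    · intro t
      have := h (0, t)
      unfold Ta ch at this
      simpa only [c.f13.zero, one_mul, mul_zero, ps_zero] using this
  · rintro ⟨h1, h2⟩ ⟨s, t⟩
    unfold Ta ch
    rw [mul_apply, h2, map_smul, h1, smul_smul, mul_comm]

theorem mem_b {a b : F4} {v : V} : v ∈ W (Tb ρ c) (a, b) ↔
    (∀ t, ρ (c.X13 t) v = ps F (a * t) • v) ∧ (∀ t, ρ (c.X12 t) v = ps F (b * t) • v) := by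
  constructor
  · intro h
    constructor
    · intro t
      have := h (t, 0)
      unfold Tb ch at this
      simpa only [c.f12.zero, mul_one, mul_zero, ps_zero] using this
    · intro t
      have := h (0, t)
      unfold Tb ch at this
      simpa only [c.f13.zero, one_mul, mul_zero, ps_zero] using this
  · rintro ⟨h1, h2⟩ ⟨s, t⟩
    unfold Tb ch
    rw [mul_apply, h2, map_smul, h1, smul_smul, mul_comm]

/-- moving an element past another one -/
theorem conj_apply {a x y : G} (h : a * x * a⁻¹ = y) (v : V) : ρ y (ρ a v) = ρ a (ρ x v) := by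
  rw [← mul_apply, ← mul_apply, ← h, inv_mul_cancel_right]

theorem map_a {a : G} (ha : C.π a = q wa) {i j : F4} {v : V} (hv : v ∈ W (Ta ρ c) (i, j)) :
    ρ a v ∈ W (Ta ρ c) (j, i) := by
  rw [mem_a] at hv ⊢
  exact ⟨fun t => by rw [conj_apply (c.conj_a_23 ha t), hv.2, map_smul],
    fun t => by rw [conj_apply (c.conj_a_13 ha t), hv.1, map_smul]⟩

theorem map_b {b : G} (hb : C.π b = q wb) {i j : F4} {v : V} (hv : v ∈ W (Tb ρ c) (i, j)) :
    ρ b v ∈ W (Tb ρ c) (j, i) := by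
  rw [mem_b] at hv ⊢
  exact ⟨fun t => by rw [conj_apply (c.conj_b_12 hb t), hv.2, map_smul],
    fun t => by rw [conj_apply (c.conj_b_13 hb t), hv.1, map_smul]⟩

theorem map_h {i j : F4} {v : V} (hv : v ∈ W (Ta ρ c) (i, j)) :
    ρ c.h v ∈ W (Ta ρ c) (F4.v * i, F4.w * j) := by
  rw [mem_a] at hv ⊢
  constructor
  · intro t
    have h1 : c.h * c.X13 (F4.v * t) * c.h⁻¹ = c.X13 t := by
      rw [c.f13.conj, ← mul_assoc]; congr 1
    rw [conj_apply h1, hv.1, map_smul]
    congr 2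
    rw [← mul_assoc, mul_comm i]
  · intro t
    have h1 : c.h * c.X23 (F4.w * t) * c.h⁻¹ = c.X23 t := by
      rw [c.f23.conj, ← mul_assoc]; congr 1
    rw [conj_apply h1, hv.2, map_smul]
    congr 2
    rw [← mul_assoc, mul_comm j]

theorem map_hb {i j : F4} {v : V} (hv : v ∈ W (Tb ρ c) (i, j)) :
    ρ c.h v ∈ W (Tb ρ c) (F4.v * i, F4.w * j) := by
  rw [mem_b] at hv ⊢
  constructor
  · intro t
    have h1 : c.h * c.X13 (F4.v * t) * c.h⁻¹ = c.X13 t := by
      rw [c.f13.conj, ← mul_assoc]; congr 1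
    rw [conj_apply h1, hv.1, map_smul]
    congr 2
    rw [← mul_assoc, mul_comm i]
  · intro t
    have h1 : c.h * c.X12 (F4.w * t) * c.h⁻¹ = c.X12 t := by
      rw [c.f12.conj, ← mul_assoc]; congr 1
    rw [conj_apply h1, hv.2, map_smul]
    congr 2
    rw [← mul_assoc, mul_comm j]

/-- the action of `X12` on the weight spaces -/
theorem map_12 {E : F4 → F} (hE : ∀ t v, ρ (c.e t) v = E t • v) {s i j j' : F4}
    (hj : ∀ t, ps F (j' * t) = E (s * s * t) * (ps F (i * (s * t)) * ps F (j * t)))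
    {v : V} (hv : v ∈ W (Ta ρ c) (i, j)) : ρ (c.X12 s) v ∈ W (Ta ρ c) (i, j') := by
  rw [mem_a] at hv ⊢
  have h13 : ∀ t, ρ (c.X13 t) (ρ (c.X12 s) v) = ps F (i * t) • ρ (c.X12 s) v := by
    intro t
    rw [← mul_apply, ← c.comm_b, mul_apply, hv.1, map_smul]
  refine ⟨h13, fun t => ?_⟩
  have h1 : c.X23 t * c.X12 s = c.eps s t * (c.X13 (s * t) * (c.X12 s * c.X23 t)) := by
    have h3 : c.eps s t * c.eps s t = 1 := by
      rcases c.eps_or s t with h | h
      · rw [h, one_mul]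
      · rw [h, C.zz]
    rw [c.rel s t, ← mul_assoc (c.X13 (s * t)), ← c.eps_comm, ← mul_assoc (c.eps s t), ← mul_assoc (c.eps s t), h3,
      one_mul, ← mul_assoc, c.f13.sq, one_mul]
  rw [← mul_apply, h1, mul_apply, mul_apply, mul_apply, hv.2, c.eps_eq, hE, map_smul, map_smul, h13, smul_smul,
    smul_smul, hj, mul_assoc, mul_comm (ps F (j * t))]

theorem hE_triv (h1 : c.e 1 = 1) (hw : c.e F4.w = 1) (t : F4) (v : V) : ρ (c.e t) v = (1 : F) • v := by
  have hv : c.e F4.v = 1 := by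
    have := c.e_add 1 F4.w
    rw [h1, hw, one_mul] at this
    exact this
  have : c.e t = 1 := by
    cases t
    · exact c.e_zero
    · exact h1
    · exact hw
    · exact hv
  rw [this, map_one, one_smul]; rfl

include R in
theorem hE_ps (h1 : c.e 1 = 1) (hw : c.e F4.w = C.z) (t : F4) (v : V) : ρ (c.e t) v = ps F t • v := by
  have hv : c.e F4.v = C.z := by
    have := c.e_add 1 F4.w
    rw [h1, hw, one_mul] at this
    exact this
  cases t
  · change ρ (c.e 0) v = (1 : F) • v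
    rw [c.e_zero, map_one, one_smul]; rfl
  · change ρ (c.e 1) v = (1 : F) • v
    rw [h1, map_one, one_smul]; rfl
  · change ρ (c.e F4.w) v = (-1 : F) • v
    rw [hw, R.z_apply, neg_one_smul]
  · change ρ (c.e F4.v) v = (-1 : F) • v
    rw [hv, R.z_apply, neg_one_smul]

/-- dimensions of the weight spaces -/
noncomputable def m (ρ : G →* Module.End F V) (c : Conf C) (i j : F4) : ℕ := Module.finrank F (W (Ta ρ c) (i, j))

include R in
theorem le_of_map (g : G) {i j i' j' : F4} (h : ∀ v ∈ W (Ta ρ c) (i, j), ρ g v ∈ W (Ta ρ c) (i', j')) :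
    m ρ c i j ≤ m ρ c i' j' := by
  have := R.fin
  exact finrank_le (g := ρ g) (g' := ρ g⁻¹) (inv_apply g) h

include R in
theorem m_a (i j : F4) : m ρ c i j = m ρ c j i := by
  obtain ⟨a, ha⟩ := C.exists_lift wa
  exact le_antisymm (R.le_of_map c a fun v hv => map_a c ha hv) (R.le_of_map c a fun v hv => map_a c ha hv)

include R in
theorem m_h (i j : F4) : m ρ c i j = m ρ c (F4.v * i) (F4.w * j) := by
  have h : ∀ i j, m ρ c i j ≤ m ρ c (F4.v * i) (F4.w * j) := fun i j => R.le_of_map c c.h fun v hv => map_h c hv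
  apply le_antisymm (h i j)
  have h1 := (h (F4.v * i) (F4.w * j)).trans (h _ _)
  rwa [vcube, wcube] at h1

include R in
theorem m_total : 10 = ∑ i, ∑ j, m ρ c i j := by
  have := R.fin
  rw [← R.dim, finrank_eq (rpa (ρ := ρ) c) R.two, Fintype.sum_prod_type]
  rfl

include R in
theorem not_triv (h1 : c.e 1 = 1) : c.e F4.w = C.z := by
  by_contra hne
  have hw : c.e F4.w = 1 := (c.e_or _).resolve_right hne
  have := R.fin
  have hE := hE_triv (ρ := ρ) c h1 hw
  have hle : ∀ s i j, m ρ c i j ≤ m ρ c i (j + i * s) := fun s i j =>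
    R.le_of_map c (c.X12 s) fun v hv => map_12 (E := fun _ => 1) c hE (j' := j + i * s) (fun t => by
      rw [one_mul, ← ps_add]; congr 1; ring) hv
  have a1 : m ρ c F4.o F4.i = m ρ c F4.i F4.o := R.m_a c _ _
  have a2 : m ρ c F4.o F4.w = m ρ c F4.w F4.o := R.m_a c _ _
  have a3 : m ρ c F4.o F4.v = m ρ c F4.v F4.o := R.m_a c _ _
  have a4 : m ρ c F4.i F4.w = m ρ c F4.w F4.i := R.m_a c _ _
  have a5 : m ρ c F4.i F4.v = m ρ c F4.v F4.i := R.m_a c _ _
  have a6 : m ρ c F4.w F4.v = m ρ c F4.v F4.w := R.m_a c _ _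
  have b1 : m ρ c F4.i F4.o ≤ m ρ c F4.i F4.i := hle F4.i _ _
  have b2 : m ρ c F4.i F4.i ≤ m ρ c F4.i F4.w := hle F4.v _ _
  have b3 : m ρ c F4.i F4.w ≤ m ρ c F4.i F4.v := hle F4.i _ _
  have b4 : m ρ c F4.i F4.v ≤ m ρ c F4.i F4.o := hle F4.v _ _
  have c1 : m ρ c F4.w F4.o ≤ m ρ c F4.w F4.i := hle F4.v _ _
  have c2 : m ρ c F4.w F4.i ≤ m ρ c F4.w F4.w := hle F4.w _ _
  have c3 : m ρ c F4.w F4.w ≤ m ρ c F4.w F4.v := hle F4.v _ _
  have c4 : m ρ c F4.w F4.v ≤ m ρ c F4.w F4.o := hle F4.w _ _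
  have d1 : m ρ c F4.v F4.o ≤ m ρ c F4.v F4.i := hle F4.w _ _
  have d2 : m ρ c F4.v F4.i ≤ m ρ c F4.v F4.w := hle F4.i _ _
  have d3 : m ρ c F4.v F4.w ≤ m ρ c F4.v F4.v := hle F4.w _ _
  have d4 : m ρ c F4.v F4.v ≤ m ρ c F4.v F4.o := hle F4.i _ _
  have tot := R.m_total c
  simp only [sum_F4] at tot
  change 10 = m ρ c F4.o F4.o + m ρ c F4.o F4.i + m ρ c F4.o F4.w + m ρ c F4.o F4.v +
    (m ρ c F4.i F4.o + m ρ c F4.i F4.i + m ρ c F4.i F4.w + m ρ c F4.i F4.v) +
    (m ρ c F4.w F4.o + m ρ c F4.w F4.i + m ρ c F4.w F4.w + m ρ c F4.w F4.v) +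
    (m ρ c F4.v F4.o + m ρ c F4.v F4.i + m ρ c F4.v F4.w + m ρ c F4.v F4.v) at tot
  have h00 : m ρ c F4.o F4.o = 10 := by omega
  have htop : W (Ta ρ c) (0, 0) = ⊤ := by
    apply Submodule.eq_top_of_finrank_eq
    rw [R.dim]; exact h00
  have h13 : ρ (c.X13 1) = 1 := by
    apply LinearMap.ext
    intro v
    have hv : v ∈ W (Ta ρ c) (0, 0) := by rw [htop]; trivial
    have := ((mem_a c).1 hv).1 1
    rw [this]
    change ps F 0 • v = v
    rw [ps_zero, one_smul]
  have h5 := c.f13.lift 1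
  rw [R.faith _ h13, map_one] at h5
  have h6 : (x13 1 : S) ∈ Subgroup.center S := (QuotientGroup.eq_one_iff _).1 h5.symm
  obtain ⟨r, -, hr⟩ := Matrix.SpecialLinearGroup.mem_center_iff.1 h6
  have h7 := congrFun (congrFun hr 0) 2
  simp [x13] at h7

section nontriv

variable (h1 : c.e 1 = 1)

include R h1 in
theorem hE (t : F4) (v : V) : ρ (c.e t) v = ps F t • v := R.hE_ps c h1 (R.not_triv c h1) t v

include R h1 in
theorem map_12n (s : F4) {i j : F4} {v : V} (hv : v ∈ W (Ta ρ c) (i, j)) :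
    ρ (c.X12 s) v ∈ W (Ta ρ c) (i, j + i * s + s * s) :=
  map_12 c (R.hE c h1) (fun t => by rw [← ps_add, ← ps_add]; congr 1; ring) hv

include R h1 in
theorem m_vals : m ρ c 0 0 = 1 ∧ m ρ c 1 F4.w = 0 := by
  have hle : ∀ s i j, m ρ c i j ≤ m ρ c i (j + i * s + s * s) := fun s i j =>
    R.le_of_map c (c.X12 s) fun v hv => R.map_12n c h1 s hv
  have hs : ∀ s i j, m ρ c i j = m ρ c i (j + i * s + s * s) := by
    intro s i j
    apply le_antisymm (hle s i j)
    have := hle s i (j + i * s + s * s)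
    rwa [cancel5] at this
  have a1 : m ρ c F4.o F4.i = m ρ c F4.o F4.o := hs F4.i _ _
  have a2 : m ρ c F4.o F4.w = m ρ c F4.o F4.o := hs F4.v _ _
  have a3 : m ρ c F4.o F4.v = m ρ c F4.o F4.o := hs F4.w _ _
  have b1 : m ρ c F4.i F4.o = m ρ c F4.o F4.i := R.m_a c _ _
  have b2 : m ρ c F4.w F4.o = m ρ c F4.o F4.w := R.m_a c _ _
  have b3 : m ρ c F4.v F4.o = m ρ c F4.o F4.v := R.m_a c _ _
  have c1 : m ρ c F4.i F4.i = m ρ c F4.i F4.o := hs F4.w _ _
  have c2 : m ρ c F4.i F4.i = m ρ c F4.v F4.w := R.m_h c _ _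
  have c3 : m ρ c F4.v F4.w = m ρ c F4.w F4.v := R.m_h c _ _
  have d1 : m ρ c F4.i F4.w = m ρ c F4.i F4.v := hs F4.w _ _
  have d2 : m ρ c F4.w F4.i = m ρ c F4.i F4.w := R.m_a c _ _
  have d3 : m ρ c F4.v F4.i = m ρ c F4.i F4.v := R.m_a c _ _
  have d4 : m ρ c F4.i F4.w = m ρ c F4.v F4.v := R.m_h c _ _
  have d5 : m ρ c F4.v F4.i = m ρ c F4.w F4.w := R.m_h c _ _
  have tot := R.m_total c
  simp only [sum_F4] at tot
  change 10 = m ρ c F4.o F4.o + m ρ c F4.o F4.i + m ρ c F4.o F4.w + m ρ c F4.o F4.v +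
    (m ρ c F4.i F4.o + m ρ c F4.i F4.i + m ρ c F4.i F4.w + m ρ c F4.i F4.v) +
    (m ρ c F4.w F4.o + m ρ c F4.w F4.i + m ρ c F4.w F4.w + m ρ c F4.w F4.v) +
    (m ρ c F4.v F4.o + m ρ c F4.v F4.i + m ρ c F4.v F4.w + m ρ c F4.v F4.v) at tot
  change m ρ c F4.o F4.o = 1 ∧ m ρ c F4.i F4.w = 0
  constructor <;> omega

include R h1 in
theorem m_one {i j : F4} (hij : i * j = 0 ∨ i * j = 1) : Module.finrank F (W (Ta ρ c) (i, j)) = 1 := by
  obtain ⟨h00, -⟩ := R.m_vals c h1
  have hle : ∀ s i j, m ρ c i j ≤ m ρ c i (j + i * s + s * s) := fun s i j =>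
    R.le_of_map c (c.X12 s) fun v hv => R.map_12n c h1 s hv
  have hs : ∀ s i j, m ρ c i j = m ρ c i (j + i * s + s * s) := by
    intro s i j
    apply le_antisymm (hle s i j)
    have := hle s i (j + i * s + s * s)
    rwa [cancel5] at this
  have a0 : m ρ c F4.o F4.o = 1 := h00
  have a1 : m ρ c F4.o F4.i = m ρ c F4.o F4.o := hs F4.i _ _
  have a2 : m ρ c F4.o F4.w = m ρ c F4.o F4.o := hs F4.v _ _
  have a3 : m ρ c F4.o F4.v = m ρ c F4.o F4.o := hs F4.w _ _
  have b1 : m ρ c F4.i F4.o = m ρ c F4.o F4.i := R.m_a c _ _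
  have b2 : m ρ c F4.w F4.o = m ρ c F4.o F4.w := R.m_a c _ _
  have b3 : m ρ c F4.v F4.o = m ρ c F4.o F4.v := R.m_a c _ _
  have c1 : m ρ c F4.i F4.i = m ρ c F4.i F4.o := hs F4.w _ _
  have c2 : m ρ c F4.i F4.i = m ρ c F4.v F4.w := R.m_h c _ _
  have c3 : m ρ c F4.v F4.w = m ρ c F4.w F4.v := R.m_h c _ _
  change m ρ c i j = 1
  cases i <;> cases j <;> first
    | (exfalso; revert hij; decide)
    | omega

end nontriv

end RH

end Cfsg.Agent.H840.L34
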