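import Cfsg.Agent.H840.L34.Over
import Cfsg.Agent.H840.L34.Nrm2

/-!
# Ten-dimensional representations of double covers of `PSL_3(4)` : two traces
-/

set_option autoImplicit false
set_option linter.constructorNameAsVariable false
set_option linter.unusedSimpArgs false
set_option linter.unusedSectionVars false
set_option linter.unusedVariables false

namespace Cfsg.Agent.H840.L34

open Cfsg.Agent.Lib.FieldFour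

variable {G : Type*} [Group G] {C : Cv G}
variable {F : Type*} [Field F] {V : Type*} [AddCommGroup V] [Module F V]

/-- the matrix of `b` -/
def Mb (r : F) (x y : F4 × F4) : F :=
  match x.1, x.2, y.1, y.2 with
  | F4.o, _, F4.o, _ => 4⁻¹
  | F4.o, j, d, _ => r⁻¹ * ps F (d * d * j) * 4⁻¹
  | c, _, F4.o, b => r * ps F (c * c * b) * 2⁻¹
  | c, j, d, k => if d = c⁻¹ then (if (j = 0 ↔ k = 0) then 2⁻¹ else -2⁻¹) else 0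

namespace Dt

variable {ρ : G →* Module.End F V} {c : Conf C}
variable (D : Dt C c ρ) {a b : G} (ha : RH.IsA ρ C a) (hb : RH.IsB ρ C b)
variable {v0 : V} (hv : v0 ∈ W (RH.Ta ρ c) (0, 0)) (h0 : v0 ≠ 0)

include D ha hv h0 in
/-- the trace in the monomial basis -/
theorem trace_eq (f : V →ₗ[F] V) (N : Om → Om → F)
    (h : ∀ k : Om, f (vv ρ c a v0 k.1.1 k.1.2) = ∑ l : Om, N k l • vv ρ c a v0 l.1.1 l.1.2) :
    LinearMap.trace F V f = ∑ k, N k k := by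
  rw [LinearMap.trace_eq_matrix_trace F (D.B ha hv h0), Matrix.trace]
  apply Finset.sum_congr rfl
  intro k _
  rw [Matrix.diag_apply, LinearMap.toMatrix_apply, D.B_apply ha hv h0, h k]
  have e : ∀ l : Om, vv ρ c a v0 l.1.1 l.1.2 = D.B ha hv h0 l := fun l => (D.B_apply ha hv h0 l).symm
  simp only [e]
  rw [map_sum, Finsupp.finsetSum_apply, Finset.sum_eq_single k]
  · rw [map_smul, (D.B ha hv h0).repr_self, Finsupp.smul_apply, Finsupp.single_eq_same, smul_eq_mul, mul_one]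
  · intro l _ hl
    rw [map_smul, (D.B ha hv h0).repr_self, Finsupp.smul_apply, Finsupp.single_eq_of_ne hl.symm, smul_zero]
  · intro hk; exact absurd (Finset.mem_univ _) hk

include D in
theorem b_vv {r : F} (e0 : ρ b (ff ρ c a v0 0 0) = ff ρ c a v0 0 0)
    (e1 : ∀ j, j ≠ 0 → ρ b (ff ρ c a v0 j 0) = r • ff ρ c a v0 0 j)
    (e2 : ∀ j, j ≠ 0 → ρ b (ff ρ c a v0 0 j) = r⁻¹ • ff ρ c a v0 j 0)
    (e3 : ∀ j, j ≠ 0 → ρ b (ff ρ c a v0 j j⁻¹) = ff ρ c a v0 j⁻¹ j) (k : Om) :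
    ρ b (vv ρ c a v0 k.1.1 k.1.2) = ∑ l : Om, Mb r k.1 l.1 • vv ρ c a v0 l.1.1 l.1.2 := by
  have h2 : (2 : F) ≠ 0 := D.R.two
  have h4 : (4 : F) ≠ 0 := by
    have : (4 : F) = 2 * 2 := by norm_num
    rw [this]; exact mul_ne_zero h2 h2
  set f := ff ρ c a v0 with hf
  set v := vv ρ c a v0 with hvv
  have x00 : f 0 0 = v 0 0 + v 0 1 + v 0 F4.w + v 0 F4.v := ff00 a v0
  have x01 : f 0 1 = v 0 0 + v 0 1 - v 0 F4.w - v 0 F4.v := ff01 a v0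
  have x0w : f 0 F4.w = v 0 0 - v 0 1 + v 0 F4.w - v 0 F4.v := ff0w a v0
  have x0v : f 0 F4.v = v 0 0 - v 0 1 - v 0 F4.w + v 0 F4.v := ff0v a v0
  have y10 : f 1 0 = v 1 0 + v 1 1 := ffj0 a v0 (by decide)
  have yw0 : f F4.w 0 = v F4.w 0 + v F4.w F4.v := ffj0 a v0 (by decide)
  have yv0 : f F4.v 0 = v F4.v 0 + v F4.v F4.w := ffj0 a v0 (by decide)
  have y11 : f 1 1 = v 1 0 - v 1 1 := ffji a v0 (by decide)
  have ywv : f F4.w F4.v = v F4.w 0 - v F4.w F4.v := ffji a v0 (by decide)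
  have yvw : f F4.v F4.w = v F4.v 0 - v F4.v F4.w := ffji a v0 (by decide)
  have e11 := e1 1 (by decide)
  have e1w := e1 F4.w (by decide)
  have e1v := e1 F4.v (by decide)
  have e21 := e2 1 (by decide)
  have e2w := e2 F4.w (by decide)
  have e2v := e2 F4.v (by decide)
  have e31 : ρ b (f 1 1) = f 1 1 := e3 1 (by decide)
  have e32 : ρ b (f F4.w F4.v) = f F4.v F4.w := e3 F4.w (by decide)
  have e33 : ρ b (f F4.v F4.w) = f F4.w F4.v := e3 F4.v (by decide)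
  have z00 : v 0 0 = (4 : F)⁻¹ • (f 0 0 + f 0 1 + f 0 F4.w + f 0 F4.v) := by
    rw [x00, x01, x0w, x0v, eq_inv_smul_iff₀ h4]; module
  have z01 : v 0 1 = (4 : F)⁻¹ • (f 0 0 + f 0 1 - f 0 F4.w - f 0 F4.v) := by
    rw [x00, x01, x0w, x0v, eq_inv_smul_iff₀ h4]; module
  have z0w : v 0 F4.w = (4 : F)⁻¹ • (f 0 0 - f 0 1 + f 0 F4.w - f 0 F4.v) := by
    rw [x00, x01, x0w, x0v, eq_inv_smul_iff₀ h4]; module
  have z0v : v 0 F4.v = (4 : F)⁻¹ • (f 0 0 - f 0 1 - f 0 F4.w + f 0 F4.v) := by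
    rw [x00, x01, x0w, x0v, eq_inv_smul_iff₀ h4]; module
  have z10 : v 1 0 = (2 : F)⁻¹ • (f 1 0 + f 1 1) := by rw [y10, y11, eq_inv_smul_iff₀ h2]; module
  have z11 : v 1 1 = (2 : F)⁻¹ • (f 1 0 - f 1 1) := by rw [y10, y11, eq_inv_smul_iff₀ h2]; module
  have zw0 : v F4.w 0 = (2 : F)⁻¹ • (f F4.w 0 + f F4.w F4.v) := by rw [yw0, ywv, eq_inv_smul_iff₀ h2]; module
  have zwv : v F4.w F4.v = (2 : F)⁻¹ • (f F4.w 0 - f F4.w F4.v) := by rw [yw0, ywv, eq_inv_smul_iff₀ h2]; module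
  have zv0 : v F4.v 0 = (2 : F)⁻¹ • (f F4.v 0 + f F4.v F4.w) := by rw [yv0, yvw, eq_inv_smul_iff₀ h2]; module
  have zvw : v F4.v F4.w = (2 : F)⁻¹ • (f F4.v 0 - f F4.v F4.w) := by rw [yv0, yvw, eq_inv_smul_iff₀ h2]; module
  rw [sum_Om]
  obtain ⟨⟨i, j⟩, hk⟩ := k
  cases i <;> cases j <;> try (exfalso; revert hk; decide)
  · change ρ b (v 0 0) = (4 : F)⁻¹ • v 0 0 + ((4 : F)⁻¹ • v 0 1 + ((4 : F)⁻¹ • v 0 F4.w + ((4 : F)⁻¹ • v 0 F4.v + ((r⁻¹ * 1 * 4⁻¹) • v 1 0 + ((r⁻¹ * 1 * 4⁻¹) • v 1 1 + ((r⁻¹ * 1 * 4⁻¹) • v F4.w 0 + ((r⁻¹ * 1 * 4⁻¹) • v F4.w F4.v + ((r⁻¹ * 1 * 4⁻¹) • v F4.v 0 + ((r⁻¹ * 1 * 4⁻¹) • v F4.v F4.w)))))))))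
    rw [congrArg (ρ b) z00]
    simp only [map_smul, map_add, map_sub]
    rw [e0, e21, e2w, e2v, x00, y10, yw0, yv0]
    module
  · change ρ b (v 0 1) = (4 : F)⁻¹ • v 0 0 + ((4 : F)⁻¹ • v 0 1 + ((4 : F)⁻¹ • v 0 F4.w + ((4 : F)⁻¹ • v 0 F4.v + ((r⁻¹ * 1 * 4⁻¹) • v 1 0 + ((r⁻¹ * 1 * 4⁻¹) • v 1 1 + ((r⁻¹ * -1 * 4⁻¹) • v F4.w 0 + ((r⁻¹ * -1 * 4⁻¹) • v F4.w F4.v + ((r⁻¹ * -1 * 4⁻¹) • v F4.v 0 + ((r⁻¹ * -1 * 4⁻¹) • v F4.v F4.w)))))))))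
    rw [congrArg (ρ b) z01]
    simp only [map_smul, map_add, map_sub]
    rw [e0, e21, e2w, e2v, x00, y10, yw0, yv0]
    module
  · change ρ b (v 0 F4.w) = (4 : F)⁻¹ • v 0 0 + ((4 : F)⁻¹ • v 0 1 + ((4 : F)⁻¹ • v 0 F4.w + ((4 : F)⁻¹ • v 0 F4.v + ((r⁻¹ * -1 * 4⁻¹) • v 1 0 + ((r⁻¹ * -1 * 4⁻¹) • v 1 1 + ((r⁻¹ * 1 * 4⁻¹) • v F4.w 0 + ((r⁻¹ * 1 * 4⁻¹) • v F4.w F4.v + ((r⁻¹ * -1 * 4⁻¹) • v F4.v 0 + ((r⁻¹ * -1 * 4⁻¹) • v F4.v F4.w)))))))))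
    rw [congrArg (ρ b) z0w]
    simp only [map_smul, map_add, map_sub]
    rw [e0, e21, e2w, e2v, x00, y10, yw0, yv0]
    module
  · change ρ b (v 0 F4.v) = (4 : F)⁻¹ • v 0 0 + ((4 : F)⁻¹ • v 0 1 + ((4 : F)⁻¹ • v 0 F4.w + ((4 : F)⁻¹ • v 0 F4.v + ((r⁻¹ * -1 * 4⁻¹) • v 1 0 + ((r⁻¹ * -1 * 4⁻¹) • v 1 1 + ((r⁻¹ * -1 * 4⁻¹) • v F4.w 0 + ((r⁻¹ * -1 * 4⁻¹) • v F4.w F4.v + ((r⁻¹ * 1 * 4⁻¹) • v F4.v 0 + ((r⁻¹ * 1 * 4⁻¹) • v F4.v F4.w)))))))))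
    rw [congrArg (ρ b) z0v]
    simp only [map_smul, map_add, map_sub]
    rw [e0, e21, e2w, e2v, x00, y10, yw0, yv0]
    module
  · change ρ b (v 1 0) = (r * 1 * 2⁻¹) • v 0 0 + ((r * 1 * 2⁻¹) • v 0 1 + ((r * -1 * 2⁻¹) • v 0 F4.w + ((r * -1 * 2⁻¹) • v 0 F4.v + ((2 : F)⁻¹ • v 1 0 + ((-(2 : F)⁻¹) • v 1 1 + ((0 : F) • v F4.w 0 + ((0 : F) • v F4.w F4.v + ((0 : F) • v F4.v 0 + ((0 : F) • v F4.v F4.w)))))))))
    rw [congrArg (ρ b) z10]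
    simp only [map_smul, map_add, map_sub]
    rw [e11, e31, x01, y11]
    module
  · change ρ b (v 1 1) = (r * 1 * 2⁻¹) • v 0 0 + ((r * 1 * 2⁻¹) • v 0 1 + ((r * -1 * 2⁻¹) • v 0 F4.w + ((r * -1 * 2⁻¹) • v 0 F4.v + ((-(2 : F)⁻¹) • v 1 0 + ((2 : F)⁻¹ • v 1 1 + ((0 : F) • v F4.w 0 + ((0 : F) • v F4.w F4.v + ((0 : F) • v F4.v 0 + ((0 : F) • v F4.v F4.w)))))))))
    rw [congrArg (ρ b) z11]
    simp only [map_smul, map_add, map_sub]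
    rw [e11, e31, x01, y11]
    module
  · change ρ b (v F4.w 0) = (r * 1 * 2⁻¹) • v 0 0 + ((r * -1 * 2⁻¹) • v 0 1 + ((r * 1 * 2⁻¹) • v 0 F4.w + ((r * -1 * 2⁻¹) • v 0 F4.v + ((0 : F) • v 1 0 + ((0 : F) • v 1 1 + ((0 : F) • v F4.w 0 + ((0 : F) • v F4.w F4.v + ((2 : F)⁻¹ • v F4.v 0 + ((-(2 : F)⁻¹) • v F4.v F4.w)))))))))
    rw [congrArg (ρ b) zw0]
    simp only [map_smul, map_add, map_sub]
    rw [e1w, e32, x0w, yvw]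
    module
  · change ρ b (v F4.w F4.v) = (r * 1 * 2⁻¹) • v 0 0 + ((r * -1 * 2⁻¹) • v 0 1 + ((r * 1 * 2⁻¹) • v 0 F4.w + ((r * -1 * 2⁻¹) • v 0 F4.v + ((0 : F) • v 1 0 + ((0 : F) • v 1 1 + ((0 : F) • v F4.w 0 + ((0 : F) • v F4.w F4.v + ((-(2 : F)⁻¹) • v F4.v 0 + ((2 : F)⁻¹ • v F4.v F4.w)))))))))
    rw [congrArg (ρ b) zwv]
    simp only [map_smul, map_add, map_sub]
    rw [e1w, e32, x0w, yvw]
    module
  · change ρ b (v F4.v 0) = (r * 1 * 2⁻¹) • v 0 0 + ((r * -1 * 2⁻¹) • v 0 1 + ((r * -1 * 2⁻¹) • v 0 F4.w + ((r * 1 * 2⁻¹) • v 0 F4.v + ((0 : F) • v 1 0 + ((0 : F) • v 1 1 + ((2 : F)⁻¹ • v F4.w 0 + ((-(2 : F)⁻¹) • v F4.w F4.v + ((0 : F) • v F4.v 0 + ((0 : F) • v F4.v F4.w)))))))))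
    rw [congrArg (ρ b) zv0]
    simp only [map_smul, map_add, map_sub]
    rw [e1v, e33, x0v, ywv]
    module
  · change ρ b (v F4.v F4.w) = (r * 1 * 2⁻¹) • v 0 0 + ((r * -1 * 2⁻¹) • v 0 1 + ((r * -1 * 2⁻¹) • v 0 F4.w + ((r * 1 * 2⁻¹) • v 0 F4.v + ((0 : F) • v 1 0 + ((0 : F) • v 1 1 + ((-(2 : F)⁻¹) • v F4.w 0 + ((2 : F)⁻¹ • v F4.w F4.v + ((0 : F) • v F4.v 0 + ((0 : F) • v F4.v F4.w)))))))))
    rw [congrArg (ρ b) zvw]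
    simp only [map_smul, map_add, map_sub]
    rw [e1v, e33, x0v, ywv]
    module

/-- swapping the coordinates -/
def sw (k : Om) : Om := ⟨(k.1.2, k.1.1), by rw [mul_comm]; exact k.2⟩

theorem sw_sw (k : Om) : sw (sw k) = k := rfl

/-- the permutation of the weights given by `a X12(1)` -/
def s12 (k : Om) : Om := ⟨(k.1.2 + k.1.1 + 1, k.1.1), by revert k; decide⟩

include D ha hv hb h0 in
theorem trace_1 {r : F} (hr0 : r ≠ 0) (hr : 2 * r * r + r + 1 = 0) (e0 : ρ b (ff ρ c a v0 0 0) = ff ρ c a v0 0 0)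
    (e1 : ∀ j, j ≠ 0 → ρ b (ff ρ c a v0 j 0) = r • ff ρ c a v0 0 j)
    (e2 : ∀ j, j ≠ 0 → ρ b (ff ρ c a v0 0 j) = r⁻¹ • ff ρ c a v0 j 0)
    (e3 : ∀ j, j ≠ 0 → ρ b (ff ρ c a v0 j j⁻¹) = ff ρ c a v0 j⁻¹ j) :
    LinearMap.trace F V (ρ (a * b * c.X23 1)) = 2 * r := by
  have h2 : (2 : F) ≠ 0 := D.R.two
  have h4 : (4 : F) ≠ 0 := by
    have : (4 : F) = 2 * 2 := by norm_num
    rw [this]; exact mul_ne_zero h2 h2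
  have key := D.trace_eq ha hv h0 (ρ (a * b * c.X23 1)) (fun k l => ps F k.1.2 * Mb r k.1 (sw l).1) (by
    intro k
    rw [RH.mul_apply, RH.mul_apply, ((RH.mem_a c).1 (D.mem_vv ha hv k.2)).2, mul_one, map_smul, D.b_vv e0 e1 e2 e3,
      map_smul, map_sum, Finset.smul_sum]
    have hb : Function.Bijective sw := ⟨fun x y h => by rw [← sw_sw x, h, sw_sw], fun x => ⟨sw x, sw_sw x⟩⟩
    rw [← hb.sum_comp]
    refine Finset.sum_congr rfl fun l _ => ?_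
    rw [map_smul, smul_smul, D.a_vv ha hv (sw l).2]
    rfl)
  rw [key, sum_Om]
  have hri : r⁻¹ = -(2 * r + 1) := inv_eq_of_mul_eq_one_right (by linear_combination -hr)
  change (1 : F) * 4⁻¹ + (1 * (r⁻¹ * 1 * 4⁻¹) + (-1 * (r⁻¹ * 1 * 4⁻¹) + (-1 * (r⁻¹ * 1 * 4⁻¹) + (1 * (r * 1 * 2⁻¹) +
    (1 * 2⁻¹ + (1 * (r * 1 * 2⁻¹) + (-1 * 2⁻¹ + (1 * (r * 1 * 2⁻¹) + -1 * 2⁻¹)))))))) = 2 * r
  rw [hri]
  field_simp
  ring_nf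

include D ha hv hb h0 in
theorem trace_2 {r : F} (hr0 : r ≠ 0) (hr : 2 * r * r + r + 1 = 0) (e0 : ρ b (ff ρ c a v0 0 0) = ff ρ c a v0 0 0)
    (e1 : ∀ j, j ≠ 0 → ρ b (ff ρ c a v0 j 0) = r • ff ρ c a v0 0 j)
    (e2 : ∀ j, j ≠ 0 → ρ b (ff ρ c a v0 0 j) = r⁻¹ • ff ρ c a v0 j 0)
    (e3 : ∀ j, j ≠ 0 → ρ b (ff ρ c a v0 j j⁻¹) = ff ρ c a v0 j⁻¹ j) :
    LinearMap.trace F V (ρ (b * a * c.X12 1)) = -(2 * r) - 1 := by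
  have h2 : (2 : F) ≠ 0 := D.R.two
  have h4 : (4 : F) ≠ 0 := by
    have : (4 : F) = 2 * 2 := by norm_num
    rw [this]; exact mul_ne_zero h2 h2
  have key := D.trace_eq ha hv h0 (ρ (b * a * c.X12 1)) (fun k l => Mb r (s12 k).1 l.1) (by
    intro k
    rw [RH.mul_apply, RH.mul_apply, D.x_vv ha hv 1 k.2, D.a_vv ha hv (gx _ _ 1 k.2)]
    have h := D.b_vv e0 e1 e2 e3 (s12 k)
    rw [← h]
    congr 2
    change k.1.2 + k.1.1 * 1 + 1 * 1 = k.1.2 + k.1.1 + 1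
    rw [mul_one, mul_one])
  rw [key, sum_Om]
  have hri : r⁻¹ = -(2 * r + 1) := inv_eq_of_mul_eq_one_right (by linear_combination -hr)
  change (r * 1 * 2⁻¹) + (4⁻¹ + ((r * -1 * 2⁻¹) + ((r * -1 * 2⁻¹) + ((r⁻¹ * 1 * 4⁻¹) +
    (2⁻¹ + (-2⁻¹ + ((r⁻¹ * 1 * 4⁻¹) + (-2⁻¹ + (r⁻¹ * 1 * 4⁻¹))))))))) = -(2 * r) - 1
  rw [hri]
  field_simp
  ring_nf

include D ha hv hb h0 in
theorem trace_ne (h7 : (7 : F) ≠ 0) : LinearMap.trace F V (ρ (a * b * c.X23 1)) ≠ LinearMap.trace F V (ρ (b * a * c.X12 1)) := by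
  obtain ⟨r, hr0, e0, e1, e2, e3⟩ := D.b_ff ha hv hb h0
  have hr := D.eq_r ha hb hv h0 hr0 e0 e1 e2 e3
  rw [D.trace_1 ha hb hv h0 hr0 hr e0 e1 e2 e3, D.trace_2 ha hb hv h0 hr0 hr e0 e1 e2 e3]
  intro h
  apply h7
  have h1 : 4 * r + 1 = 0 := by linear_combination h
  linear_combination 8 * hr - (4 * r + 1) * h1

end Dt

end Cfsg.Agent.H840.L34
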